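import Cfsg.Agent.Lib.Classical.UnitaryMinIndex.Stab

/-!
# The number of isotropic points and a lower bound for the order of `SU n q`
-/

set_option autoImplicit false
set_option linter.unusedSectionVars false

namespace Cfsg.Agent.Classical.Unitary.MinIndex

open Matrix Cfsg.Agent.Forms Cfsg.Agent.Classical

variable {F : Type*} [Field F] [Fintype F] {q n m : ℕ} (hF : Fintype.card F = q ^ 2)

local notation "Vec" => (Fin n → F)
local notation "Wc" => (Fin m → F)
local notation "Hn" => Cfsg.hermForm n F q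
local notation "Hm" => Cfsg.hermForm m F q

noncomputable instance : Finite (IsoPt F q n) := Finite.of_injective (fun p => p.1.rep) fun p p' e =>
  Subtype.ext (by rw [← Projectivization.mk_rep p.1, ← Projectivization.mk_rep p'.1]
                  simp only [e])

include hF

/-- The number of isotropic points. -/
theorem natCard_isoPt_mul (n : ℕ) :
    Nat.card (IsoPt F q n) * (q ^ 2 - 1) + 1 = UnitaryCount.cnt F q n 0 := by
  classical
  let f : IsoPt F q n × Fˣ → {v : Fin n → F // v ≠ 0 ∧ Cfsg.hermForm n F q v v = 0} := fun x =>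
    ⟨(x.2 : F) • x.1.1.rep, smul_ne_zero x.2.ne_zero x.1.1.rep_nonzero,
      by rw [UnitaryCount.hermForm_smul_smul, x.1.2, mul_zero]⟩
  have hbij : Function.Bijective f := by
    constructor
    · rintro ⟨p, a⟩ ⟨p', a'⟩ h
      have h' : (a : F) • p.1.rep = (a' : F) • p'.1.rep := congrArg Subtype.val h
      have hpp : p = p' := by
        apply Subtype.ext
        rw [← Projectivization.mk_rep p.1, ← Projectivization.mk_rep p'.1,
          Projectivization.mk_eq_mk_iff']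
        exact ⟨(a : F)⁻¹ * a', by rw [mul_smul, ← h', inv_smul_smul₀ a.ne_zero]⟩
      subst hpp
      rw [Units.ext (smul_left_injective F p.1.rep_nonzero h')]
    · rintro ⟨v, hv, hvv⟩
      obtain ⟨a, ha, hrep⟩ := rep_mk v hv
      refine ⟨(pt v hv hvv, Units.mk0 a⁻¹ (inv_ne_zero ha)), Subtype.ext ?_⟩
      show a⁻¹ • (Projectivization.mk F v hv).rep = v
      rw [hrep, inv_smul_smul₀ ha]
  have h := Nat.card_eq_of_bijective f hbij
  rw [Nat.card_prod, Nat.card_units, Nat.card_eq_fintype_card (α := F), hF] at h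
  rw [h, UnitaryCount.cnt]
  simp only [Nat.card_eq_fintype_card, Fintype.card_subtype]
  rw [show (Finset.univ.filter fun v : Fin n → F => v ≠ 0 ∧ Cfsg.hermForm n F q v v = 0) =
      (Finset.univ.filter fun v : Fin n → F => Cfsg.hermForm n F q v v = 0).erase 0 by ext v; simp,
    Finset.card_erase_add_one (by simp [H_zero_left])]

theorem natCard_isoPt_odd {n : ℕ} (hn : Odd n) :
    Nat.card (IsoPt F q n) * (q ^ 2 - 1) = (q ^ n + 1) * (q ^ (n - 1) - 1) := by
  have := natCard_isoPt_mul hF n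
  rw [UnitaryCount.cnt_zero_eq hF, if_neg (Nat.not_even_iff_odd.2 hn)] at this
  omega

theorem natCard_isoPt_even {n : ℕ} (hn : Even n) :
    Nat.card (IsoPt F q n) * (q ^ 2 - 1) = (q ^ n - 1) * (q ^ (n - 1) + 1) := by
  have := natCard_isoPt_mul hF n
  rw [UnitaryCount.cnt_zero_eq hF, if_pos hn] at this
  omega

omit hF

/-- The subgroup fixing an isotropic point. -/
noncomputable abbrev ptStab (Φ : Fr F q n m) : Subgroup (Cfsg.SU n F q) :=
  MulAction.stabilizer (Cfsg.SU n F q) (pt Φ.u Φ.u_ne Φ.uu)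

include hF

theorem mem_ptStab {Φ : Fr F q n m} {g : Cfsg.SU n F q} :
    g ∈ ptStab Φ ↔ ∃ μ : F, mat g *ᵥ Φ.u = μ • Φ.u := by
  rw [MulAction.mem_stabilizer_iff, smul_pt, pt_eq_pt]
  exact ⟨fun ⟨a, ha⟩ => ⟨a, ha.symm⟩, fun ⟨a, ha⟩ => ⟨a, ha.symm⟩⟩

theorem card_stab_ge (Φ : Fr F q n m) (hm : 1 ≤ m) :
    q ^ (2 * m + 1) * (q ^ 2 - 1) * Nat.card (Cfsg.SU m F q) ≤ Nat.card (ptStab Φ) := by
  classical
  have hpw : ∀ c : F, (c ^ (q + 1)) ^ q = c ^ (q + 1) := fun c => by
    rw [pow_succ, mul_pow, pow_qq hF, mul_comm]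
  have htr : ∀ w : Wc, ∃ a : F, a + a ^ q = - Hm w w := fun w =>
    exists_trace_eq hF (by rw [← HermStd.qHom_apply hF, map_neg, HermStd.qHom_apply, H_conj hF])
  choose a0 ha0 using htr
  let ν : Fˣ → F := fun μ => (μ : F) ^ q * (μ : F)⁻¹
  have hν : ∀ μ, ν μ ^ (q + 1) = 1 := by
    intro μ
    have h1 := hpw (μ : F)
    rw [show ν μ ^ (q + 1) = ((μ : F) ^ (q + 1)) ^ q / (μ : F) ^ (q + 1) by
      simp only [ν, mul_pow, inv_pow, ← pow_mul, div_eq_mul_inv, mul_comm q], h1,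
      div_self (pow_ne_zero _ μ.ne_zero)]
  let d : Fˣ → Fin m → F := fun μ i => if i = ⟨0, hm⟩ then ν μ else 1
  have hdiag : ∀ μ, ∀ i, d μ i ^ (q + 1) = 1 := fun μ i => by
    simp only [d]; split_ifs <;> simp [hν μ]
  have hdet : ∀ μ, (Matrix.diagonal (d μ)).det = ν μ := fun μ => by
    simp [Matrix.det_diagonal, d, Finset.prod_ite_eq']
  let M : (Wc × skewF hF) × Cfsg.SU m F q × Fˣ → Matrix (Fin n) (Fin n) F := fun x =>
    Φ.EM x.1.1 (a0 x.1.1 + x.1.2) * (Φ.XM (mat x.2.1 * Matrix.diagonal (d x.2.2)) * Φ.TM x.2.2)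
  have hA : ∀ (A : Cfsg.SU m F q) (μ : Fˣ) (x y : Wc),
      Hm ((mat A * Matrix.diagonal (d μ)) *ᵥ x) ((mat A * Matrix.diagonal (d μ)) *ᵥ y) = Hm x y := by
    intro A μ x y
    rw [← Matrix.mulVec_mulVec, ← Matrix.mulVec_mulVec, SU_H, diag_preserves hF _ (hdiag μ)]
  have hT : ∀ (μ : Fˣ) (x y : Vec), Hn (Φ.TM μ *ᵥ x) (Φ.TM μ *ᵥ y) = Hn x y := by
    intro μ x y
    have e : ∀ z, Φ.TM μ *ᵥ z =
        (Hn z Φ.s * μ) • Φ.u + (Hn z Φ.u * ((μ : F) ^ q)⁻¹) • Φ.s + Φ.ι (Φ.π z) := by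
      intro z
      conv_lhs => rw [Φ.decomp' z]
      simp only [Matrix.mulVec_add, Matrix.mulVec_smul, Φ.TM_u hF, Φ.TM_s hF, Φ.TM_ι hF, smul_smul]
    rw [e x, e y]
    conv_rhs => rw [Φ.decomp' x, Φ.decomp' y]
    simp only [H_add_left, H_add_right hF, H_smul_left, H_smul_right, Φ.uu, Φ.ss, Φ.us, Φ.su, Φ.iu,
      Φ.iss, Φ.ui hF, Φ.si hF, Φ.ii, mul_pow, inv_pow, pow_qq hF]
    have := μ.ne_zero
    field_simp
    ring
  have hMp : ∀ x (u v : Vec), Hn (M x *ᵥ u) (M x *ᵥ v) = Hn u v := by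
    intro x u v
    simp only [M, ← Matrix.mulVec_mulVec]
    rw [Φ.EM_preserves hF (by
      rw [HermStd.add_pow_q hF]
      linear_combination ha0 x.1.1 + (mem_skewF hF).1 x.1.2.2), Φ.XM_preserves hF (hA _ _), hT]
  have hMd : ∀ x, (M x).det = 1 := by
    intro x
    simp only [M, Matrix.det_mul, Φ.det_EM hF, Φ.det_XM hF, Φ.det_TM hF, hdet]
    rw [show (mat x.2.1).det = 1 from x.2.1.1.2]
    simp only [ν]
    have := x.2.2.ne_zero
    field_simp
  let f : (Wc × skewF hF) × Cfsg.SU m F q × Fˣ → ptStab Φ := fun x => ⟨suMk (M x) (hMd x) (hMp x),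
    (mem_ptStab hF).2 ⟨x.2.2, by
      rw [suMk_mulVec]
      simp only [M, ← Matrix.mulVec_mulVec, Φ.TM_u hF, Matrix.mulVec_smul, Φ.XM_u hF, Φ.EM_u hF]⟩⟩
  have hf : Function.Injective f := by
    rintro ⟨⟨w, t⟩, A, μ⟩ ⟨⟨w', t'⟩, A', μ'⟩ e
    have hM : M ((w, t), A, μ) = M ((w', t'), A', μ') := congrArg (fun g => mat g.1) e
    simp only [M] at hM
    have eu := congrArg (fun B => Hn (B *ᵥ Φ.u) Φ.s) hM
    simp only [← Matrix.mulVec_mulVec, Φ.TM_u hF, Matrix.mulVec_smul, Φ.XM_u hF, Φ.EM_u hF,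
      H_smul_left, Φ.us, mul_one] at eu
    obtain rfl : μ = μ' := Units.ext eu
    have es := congrArg (fun B => B *ᵥ Φ.s) hM
    simp only [← Matrix.mulVec_mulVec, Φ.TM_s hF, Matrix.mulVec_smul, Φ.XM_s hF, Φ.EM_s hF] at es
    have es' := smul_right_injective Vec (inv_ne_zero (pow_ne_zero q μ.ne_zero)) es
    have ew : w = w' := by
      have := congrArg Φ.π es'
      simpa [map_add, Φ.π_ι hF, Φ.π_u hF, Φ.π_s hF] using this
    subst ew
    have et : t = t' := by
      have := congrArg (Hn · Φ.s) es'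
      simp [H_add_left, H_smul_left, Φ.ss, Φ.iss, Φ.us] at this
      exact this
    subst et
    have eA : A = A' := by
      refine SU_ext fun x => ?_
      obtain ⟨y, rfl⟩ : ∃ y, Matrix.diagonal (d μ) *ᵥ y = x := by
        refine ⟨fun i => x i / d μ i, funext fun i => ?_⟩
        rw [Matrix.mulVec_diagonal, mul_div_cancel₀]
        intro h0
        have := hdiag μ i
        rw [h0, zero_pow (by omega)] at this
        exact zero_ne_one this
      have := congrArg (fun B => Φ.π (B *ᵥ Φ.ι y)) hM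
      simpa [← Matrix.mulVec_mulVec, Φ.TM_ι hF, Φ.XM_ι hF, Φ.EM_ι hF, Φ.π_ι hF, Φ.π_u hF] using this
    rw [eA]
  have := Nat.card_le_card_of_injective f hf
  rw [Nat.card_prod, Nat.card_prod, Nat.card_prod, natCard_skewF hF, Nat.card_fun, Nat.card_fin,
    Nat.card_units, Nat.card_eq_fintype_card (α := F), hF] at this
  refine le_trans (le_of_eq ?_) this
  rw [← pow_mul, pow_succ]
  ring

/-- A lower bound for the order of `SU n q`. -/
theorem card_SU_ge (Φ : Fr F q n m) (hm : 1 ≤ m) :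
    Nat.card (IsoPt F q n) * (q ^ (2 * m + 1) * (q ^ 2 - 1) * Nat.card (Cfsg.SU m F q)) ≤
      Nat.card (Cfsg.SU n F q) := by
  have := su_isPretransitive (n := n) hF
  rw [← (ptStab Φ).card_mul_index, MulAction.index_stabilizer_of_transitive, mul_comm]
  exact Nat.mul_le_mul_right _ (card_stab_ge hF Φ hm)

end Cfsg.Agent.Classical.Unitary.MinIndex
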