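import Cfsg.Agent.Lib.Classical.UnitaryMinIndex.Geometry

/-!
# A proper subgroup of type two fixes a point
-/

set_option autoImplicit false
set_option linter.unusedSectionVars false

namespace Cfsg.Agent.Classical.Unitary.MinIndex

open Matrix Cfsg.Agent.Forms Cfsg.Agent.Classical

variable {F : Type*} [Field F] [Fintype F] {q n m : ℕ} (hF : Fintype.card F = q ^ 2)

local notation "Vec" => (Fin n → F)
local notation "Wc" => (Fin m → F)
local notation "Hn" => Cfsg.hermForm n F q
local notation "Hm" => Cfsg.hermForm m F q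

variable (K : Subgroup (Cfsg.SU n F q))

include hF

theorem good_pt_iff {r : Vec} (hr : r ≠ 0) (hrr : Hn r r = 0) :
    Good K (pt r hr hrr).1.rep ↔ Good K r := by
  obtain ⟨a, ha0, ha⟩ := rep_mk r hr
  rw [show (pt r hr hrr).1.rep = a • r from ha, good_smul hF K ha0]

/-- The order of the subgroup is bounded by the number of bad points. -/
theorem card_le_bad_mul (Φ : Fr F q n m) (hbad : ¬ Good K Φ.u) :
    Nat.card K ≤ Nat.card {p : IsoPt F q n // ¬ Good K p.1.rep} * Nat.card (RK hF Φ K) := by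
  classical
  set p := pt Φ.u Φ.u_ne Φ.uu with hp
  rw [← (MulAction.stabilizer K p).card_mul_index, MulAction.index_stabilizer, mul_comm,
    Nat.card_coe_set_eq _ |>.symm]
  refine Nat.mul_le_mul ?_ ?_
  · refine Nat.card_le_card_of_injective (fun x => ⟨x.1, ?_⟩) fun x y e => Subtype.ext (congrArg (·.1) e)
    obtain ⟨g, hg⟩ := x.2
    intro h
    have hx : x.1 = g.1 • p := hg.symm
    rw [hx, hp, smul_pt, good_pt_iff hF] at h
    have h' := good_map hF K (inv_mem g.2) (by rw [SU_H]; exact Φ.uu) h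
    rw [inv_mulVec g.1 rfl] at h'
    exact hbad h'
  · refine Nat.card_le_card_of_injective (fun g => ⟨g.1.1, g.1.2, ?_⟩) fun x y e =>
      Subtype.ext (Subtype.ext (congrArg (·.1) e))
    exact (mem_ptStab hF (Φ := Φ)).1 g.2

variable (hm : 3 ≤ m) (hn : n = 2 + m) (hTT : TypeTwo K hF m)

include hm hn hTT

/-- An anisotropic residual vector of a good point gives many good points. -/
theorem card_good_ge (Φ : Fr F q n m) (hbad : ¬ Good K Φ.u)
    (hgood : ∀ v : Fin m → F, Cfsg.hermForm m F q v v = 0 → v ≠ 0 → Good K (Φ.ι v))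
    {α : F} {b : Wc} (hi : Hn (Φ.offPt α b) (Φ.offPt α b) = 0) (hg : Good K (Φ.offPt α b))
    (hb : Hm b b ≠ 0) :
    UnitaryCount.cnt F q m 1 + Nat.card (IsoPt F q m) ≤
      Nat.card {p : IsoPt F q n // Good K p.1.rep} := by
  classical
  have hb0 : b ≠ 0 := fun e => hb (by rw [e, H_zero_left])
  have hmove : ∀ y : {y : Wc // Hm y y = Hm b b}, ∃ α' : F,
      Hn (Φ.offPt α' y.1) (Φ.offPt α' y.1) = 0 ∧ Good K (Φ.offPt α' y.1) := by
    intro y
    have hy0 : y.1 ≠ 0 := fun e => hb (by rw [← y.2, e, H_zero_left])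
    obtain ⟨A, hA⟩ := exists_su_map hF hm hb0 hy0 y.2.symm
    obtain ⟨k, hk, a, -, hku, hks, hky⟩ := exists_lift_good hF Φ K hm hn hTT hbad hgood A
    have e : mat k *ᵥ Φ.offPt α b = Φ.offPt (α + a) y.1 := by
      simp only [Fr.offPt, Matrix.mulVec_add, Matrix.mulVec_smul, hku, hks, hky, hA]; module
    exact ⟨α + a, by rw [← e, SU_H, hi], e ▸ good_map hF K hk hi hg⟩
  choose f hf using hmove
  have hne : ∀ (α' : F) (y : Wc), Φ.offPt α' y ≠ 0 := fun α' y e => by
    have := Φ.offPt_u hF α' y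
    rw [e, H_zero_left] at this
    exact zero_ne_one this
  have hv : ∀ v : IsoPt F q m, Φ.ι v.1.rep ≠ 0 := fun v e =>
    v.1.rep_nonzero (Φ.ι_injective hF (e.trans (map_zero Φ.ι).symm))
  let g : {y : Wc // Hm y y = Hm b b} ⊕ IsoPt F q m → {p : IsoPt F q n // Good K p.1.rep} := Sum.elim
    (fun y => ⟨pt _ (hne (f y) y.1) (hf y).1, (good_pt_iff hF K _ _).2 (hf y).2⟩)
    (fun v => ⟨pt _ (hv v) (by rw [Φ.ii]; exact v.2),
      (good_pt_iff hF K _ _).2 (hgood _ v.2 v.1.rep_nonzero)⟩)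
  have hinj : Function.Injective g := by
    rintro (y | v) (y' | v') e <;> have e' := congrArg Subtype.val e <;>
      simp only [g, Sum.elim_inl, Sum.elim_inr, pt_eq_pt] at e' <;> obtain ⟨a, ha⟩ := e'
    · have h1 := congrArg (fun z => Hn z Φ.u) ha
      simp only [H_smul_left, Φ.offPt_u hF, mul_one] at h1
      subst h1
      rw [one_smul] at ha
      have h2 := congrArg Φ.π ha
      simp only [Fr.offPt, map_add, map_smul, Φ.π_u hF, Φ.π_s hF, Φ.π_ι hF, smul_zero, zero_add] at h2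
      rw [Subtype.ext h2]
    · have h1 := congrArg (fun z => Hn z Φ.u) ha
      simp [H_smul_left, Φ.offPt_u hF, Φ.iu] at h1
    · have h1 := congrArg (fun z => Hn z Φ.u) ha
      simp only [H_smul_left, Φ.offPt_u hF, mul_one, Φ.iu] at h1
      rw [h1, zero_smul] at ha
      exact absurd ha.symm (hv v)
    · rw [← map_smul] at ha
      have h2 := Φ.ι_injective hF ha
      have : v = v' := Subtype.ext (by
        rw [← Projectivization.mk_rep v.1, ← Projectivization.mk_rep v'.1,
          Projectivization.mk_eq_mk_iff']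
        exact ⟨a, h2⟩)
      rw [this]
  have h := Nat.card_le_card_of_injective g hinj
  rw [Nat.card_sum] at h
  refine le_trans (le_of_eq ?_) h
  rw [← UnitaryCount.cnt_eq_one hF hb (H_conj hF b b)]
  rfl

/-- The condition on the anisotropic vectors for `SU 5 2`. -/
theorem iso_of_small_index (hm3 : m = 3) (hq : q = 2) (hidx : K.index < 176) (Φ : Fr F q n m)
    (hbad : ¬ Good K Φ.u)
    (hgood : ∀ v : Fin m → F, Cfsg.hermForm m F q v v = 0 → v ≠ 0 → Good K (Φ.ι v))
    {α : F} {b : Wc} (hi : Hn (Φ.offPt α b) (Φ.offPt α b) = 0) (hg : Good K (Φ.offPt α b)) :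
    Hm b b = 0 := by
  classical
  subst hm3 hq
  obtain rfl : n = 5 := by omega
  by_contra hb
  have hS := card_good_ge hF K hm hn hTT Φ hbad hgood hi hg hb
  have hS3 := natCard_isoPt_odd hF (n := 3) (by decide)
  have hN := natCard_isoPt_odd hF (n := 5) (by decide)
  rw [UnitaryCount.cnt_one_eq hF] at hS
  norm_num at hS3 hN
  have h9 : Nat.card (IsoPt F 2 3) = 9 := by omega
  have h165 : Nat.card (IsoPt F 2 5) = 165 := by omega
  rw [h9, if_neg (by decide : ¬ Even 3)] at hS
  norm_num at hS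
  have hbadle : Nat.card {p : IsoPt F 2 5 // ¬ Good K p.1.rep} ≤ 120 := by
    have := Nat.card_congr (Equiv.sumCompl fun p : IsoPt F 2 5 => Good K p.1.rep)
    rw [Nat.card_sum, h165] at this
    omega
  -- the stabiliser
  obtain ⟨-, hX⟩ := hTT Φ hbad
  have hz : Zs hF Φ K ≠ skewF hF := fun e => hbad ((good_u_iff hF Φ K).2 e)
  have hmz := card_muHom_mul_Zs hF Φ K hz
  have hZpos : 0 < Nat.card (Zs hF Φ K) := Nat.card_pos
  have hR : Nat.card (RK hF Φ K) ≤ 3 * Nat.card (Cfsg.SU 3 F 2) := by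
    refine (card_RK_le hF Φ K).trans ?_
    rw [hX, AddSubgroup.card_bot, one_mul, mul_left_comm, mul_comm 3]
    exact Nat.mul_le_mul (Subgroup.card_le_card_group _) (hmz.trans (by omega))
  have hK := (card_le_bad_mul hF K Φ hbad).trans (Nat.mul_le_mul hbadle hR)
  have hG := card_SU_ge hF Φ (by norm_num)
  rw [h165, ← K.card_mul_index] at hG
  have hSU : 0 < Nat.card (Cfsg.SU 3 F 2) := Nat.card_pos
  have h1 := Nat.mul_le_mul_right K.index hK
  have h2 : Nat.card K * K.index < 120 * (3 * Nat.card (Cfsg.SU 3 F 2)) * 176 :=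
    h1.trans_lt (Nat.mul_lt_mul_of_pos_left hidx (by positivity))
  have h3 := hG.trans_lt h2
  norm_num at h3
  omega

/-- A proper subgroup of type two fixes a point. -/
theorem exists_fixed_point (hK : K ≠ ⊤) (hidx : m = 3 → q = 2 → K.index < 176) :
    ∃ e : Vec, e ≠ 0 ∧ ∀ g ∈ K, ∃ μ : F, mat g *ᵥ e = μ • e := by
  obtain ⟨u, hu, hu0, hbad⟩ : ∃ u : Vec, Hn u u = 0 ∧ u ≠ 0 ∧ ¬ Good K u := by
    by_contra hcon
    push Not at hcon
    refine hK (eq_top_iff.2 ?_)
    rw [← tvGroup_eq_top hF (by omega) (by omega : ¬ (n = 3 ∧ q = 2)), tvGroup, Subgroup.closure_le]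
    rintro g ⟨v, c, hv, hc, hg⟩
    by_cases hv0 : v = 0
    · have : g = 1 := SU_ext fun x => by
        rw [hg, HermStd.transvection_mulVec, hv0, mat_one, one_mulVec]; simp
      rw [this]; exact one_mem K
    exact hcon v hv hv0 g ⟨c, hc, hg⟩
  obtain ⟨Φ, hΦ, hgood⟩ := exists_good_frame hF K hm hn hTT hu hu0 hbad
  subst hΦ
  exact exists_fixed_vector hF Φ K hm hn hTT hbad hgood fun h3 h2 α b hi hg =>
    iso_of_small_index hF K hm hn hTT h3 h2 (hidx h3 h2) Φ hbad hgood hi hg

end Cfsg.Agent.Classical.Unitary.MinIndex
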