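import Cfsg.Agent.Lib.Classical.UnitaryMinIndex.FourSmall
import Cfsg.Agent.Lib.Classical.UnitaryMinIndex.FixedPoint

/-!
# A point stabiliser as residual group at a bad point of `SU 4 q`
-/

set_option autoImplicit false
set_option linter.unusedSectionVars false

namespace Cfsg.Agent.Classical.Unitary.MinIndex

open Matrix Cfsg.Agent.Forms Cfsg.Agent.Classical

variable {F : Type*} [Field F] [Fintype F] {q : ℕ} (hF : Fintype.card F = q ^ 2)
  (K : Subgroup (Cfsg.SU 4 F q)) (Φ : Fr F q 4 2)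

local notation "W2" => (Fin 2 → F)
local notation "H2" => Cfsg.hermForm 2 F q
local notation "G4" => Cfsg.SU 4 F q

include hF

/-- The parameter of a lift. -/
theorem trace_lift {g : G4} {w : W2} {a : F} {A : Matrix (Fin 2) (Fin 2) F}
    (hg : mat g = Φ.EM w a * Φ.XM A) : a + a ^ q = - H2 w w := by
  have e := SU_H g Φ.s Φ.s
  rw [hg, ← Matrix.mulVec_mulVec, Φ.XM_s hF, Φ.EM_s hF] at e
  simp only [H_add_left, H_add_right hF, H_smul_left, H_smul_right, Φ.ss, Φ.si hF, Φ.iss, Φ.su, Φ.us,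
    Φ.iu, Φ.ui hF, Φ.uu, Φ.ii] at e
  linear_combination e

variable (Ψ : Fr F q 2 0) (hbad : ¬ Good K Φ.u) (hidx : K.index < (q + 1) * (q ^ 3 + 1))
  (hI : IK hF Φ K = lineStab hF Ψ.u)

include hbad hidx hI

theorem borel_card : Zs hF Φ K = ⊥ ∧ (muHom hF Φ K).range = ⊤ := by
  have hq := HermStd.one_lt_q hF
  have hsq : q ^ 2 - 1 = (q + 1) * (q - 1) := by simpa using Nat.sq_sub_sq q 1
  have h := bad_ineq hF K Φ hidx
  rw [hI, index_lineStab_two hF Ψ] at h
  set A := Nat.card (muHom hF Φ K).range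
  set Z := Nat.card (Zs hF Φ K)
  have hkey : q ^ 3 * (q ^ 2 - 1) < (q ^ 3 + 1) * (A * Z) := by
    refine Nat.lt_of_mul_lt_mul_left (a := (q ^ 2 + 1) * (q ^ 3 + 1) * (q + 1) * q ^ 2) ?_
    calc (q ^ 2 + 1) * (q ^ 3 + 1) * (q + 1) * q ^ 2 * (q ^ 3 * (q ^ 2 - 1))
        = (q ^ 2 + 1) * (q ^ 3 + 1) * q ^ 5 * (q ^ 2 - 1) * (q + 1) := by ring
      _ < _ := h
      _ ≤ (q + 1) * (q ^ 3 + 1) * ((q ^ 2 + 1) * (q ^ 3 + 1)) * (A * Z) * q ^ 2 :=
          Nat.mul_le_mul (Nat.mul_le_mul_right _ (Nat.mul_le_mul_left _ (orbit_le_isoPt hF K Φ)))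
            (card_Xs_le hF K Φ hbad)
      _ = _ := by ring
  have hge : q ^ 2 - 1 ≤ A * Z := by
    by_contra hcon
    rw [not_le] at hcon
    have h1 := hkey.trans_le (Nat.mul_le_mul_left _ (Nat.le_sub_one_of_lt hcon))
    have h4 : 2 ^ 2 ≤ q ^ 2 := Nat.pow_le_pow_left hq 2
    have h5 : q ^ 2 ≤ q ^ 3 := Nat.pow_le_pow_right (by omega) (by norm_num)
    obtain ⟨d, hd⟩ : ∃ d, q ^ 2 = d + 2 := ⟨q ^ 2 - 2, by omega⟩
    rw [hd, show d + 2 - 1 = d + 1 by omega, show d + 1 - 1 = d by omega] at h1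
    nlinarith
  have hmz := muZ_le hF K Φ hbad
  have hZpos : 0 < Z := Nat.card_pos
  have hZ1 : Z = 1 := by
    have h2 := hge.trans hmz
    rw [hsq] at h2
    have := Nat.le_of_mul_le_mul_left h2 (by omega)
    omega
  refine ⟨AddSubgroup.eq_bot_of_card_eq _ hZ1, ?_⟩
  refine Subgroup.eq_top_of_card_eq _ (le_antisymm (Subgroup.card_le_card_group _) ?_)
  rw [natCard_units_F hF, mul_comm, ← hsq]
  rw [hZ1, mul_one] at hge
  exact hge

/-- The residual vectors are the multiples of the fixed point. -/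
theorem borel_Xs {w : W2} : w ∈ Xs hF Φ K ↔ ∃ c : F, w = c • Ψ.u := by
  classical
  have hq := HermStd.one_lt_q hF
  obtain ⟨hZ, hA⟩ := borel_card hF K Φ Ψ hbad hidx hI
  obtain ⟨c₀, hc₀0, hc₀⟩ := exists_traceZero hF
  have hT : tvu hF Ψ.uu hc₀ ∈ IK hF Φ K := by
    rw [hI]
    exact ⟨1, one_ne_zero, by rw [tvu_mulVec, Ψ.uu, mul_zero, zero_smul, add_zero, one_smul]⟩
  obtain ⟨k, hk, hku, hkA⟩ := (mem_IK hF Φ K).1 hT
  have hdil : ∀ μ : F, μ ≠ 0 → ∀ x ∈ Xs hF Φ K, ∃ r : F, r ≠ 0 ∧ r ^ q = r ∧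
      ∃ y ∈ Xs hF Φ K, H2 y Ψ.u = μ ^ (2 * q) * r * H2 x Ψ.u := by
    intro μ hμ x hx
    obtain ⟨g, hg⟩ := MonoidHom.mem_range.1 (show Units.mk0 μ hμ ∈ (muHom hF Φ K).range by
      rw [hA]; trivial)
    have hgu : mat g.1 *ᵥ Φ.u = μ • Φ.u := by
      rw [muHom_spec hF Φ K g, hg]; rfl
    have hgi : mat g.1⁻¹ *ᵥ Φ.u = μ⁻¹ • Φ.u := by
      have := inv_mulVec g.1 hgu
      rw [Matrix.mulVec_smul] at this
      conv_rhs => rw [← this, inv_smul_smul₀ hμ]
    have hAB : Φ.Amat g.1 * Φ.Amat g.1⁻¹ = 1 := by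
      rw [← Φ.Amat_mul hF hgu hgi, mul_inv_cancel, Φ.Amat_EM hF (w := 0) (a := 0)
        (by rw [mat_one, Φ.EM_one hF])]
    have hku' : mat k *ᵥ Φ.u = (1 : F) • Φ.u := by rw [one_smul, hku]
    have hgk : mat (g.1⁻¹ * k) *ᵥ Φ.u = μ⁻¹ • Φ.u := by rw [mul_mulVec, hku, hgi]
    have hk' : mat (g.1⁻¹ * k * g.1) *ᵥ Φ.u = Φ.u := by
      rw [mul_mulVec, hgu, Matrix.mulVec_smul, hgk, smul_inv_smul₀ hμ]
    have hAk : Φ.Amat (g.1⁻¹ * k * g.1) =
        Φ.Amat g.1⁻¹ * mat (tvu hF Ψ.uu hc₀) * Φ.Amat g.1 := by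
      rw [Φ.Amat_mul hF hgk hgu, Φ.Amat_mul hF hgi hku', hkA]
    have hE : suMk (Φ.Amat (g.1⁻¹ * k * g.1)) (Φ.Amat_det_one hF hk')
        (Φ.Amat_preserves hF (μ := 1) (by rw [one_smul]; exact hk')) ∈ IK hF Φ K :=
      (mem_IK hF Φ K).2 ⟨_, mul_mem (mul_mem (inv_mem g.2.1) hk) g.2.1, hk', rfl⟩
    rw [hI] at hE
    obtain ⟨lam, -, hlam⟩ := hE
    rw [suMk_mulVec, hAk] at hlam
    set z := Φ.Amat g.1 *ᵥ Ψ.u with hz
    have hTz : mat (tvu hF Ψ.uu hc₀) *ᵥ z = lam • z := by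
      have := congrArg (Φ.Amat g.1 *ᵥ ·) hlam
      rwa [Matrix.mulVec_mulVec, ← Matrix.mul_assoc, ← Matrix.mul_assoc, hAB, Matrix.one_mul,
        ← Matrix.mulVec_mulVec, ← hz, Matrix.mulVec_smul, ← hz] at this
    rw [tvu_mulVec] at hTz
    have hzu : H2 z Ψ.u = 0 := by
      by_contra hne
      have h := congrArg (fun y => H2 y Ψ.u) hTz
      simp only [H_add_left, H_smul_left, Ψ.uu, mul_zero, add_zero] at h
      have hl1 : lam = 1 := mul_right_cancel₀ hne (h.symm.trans (one_mul _).symm)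
      rw [hl1, one_smul, add_eq_left, smul_eq_zero] at hTz
      exact mul_ne_zero hc₀0 hne (hTz.resolve_right Ψ.u_ne)
    set l := H2 z Ψ.s
    have hzl : z = l • Ψ.u := by
      have := Ψ.decomp_two hF z
      rwa [hzu, zero_smul, add_zero] at this
    have hpre := Φ.Amat_preserves hF hgu
    have hxv : ∀ x : W2, l ^ q * H2 (Φ.Amat g.1 *ᵥ x) Ψ.u = H2 x Ψ.u := fun x => by
      rw [← H_smul_right, ← hzl, hpre]
    have hl0 : l ≠ 0 := fun e => by
      have := hxv Ψ.s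
      rw [e, zero_pow (q_ne_zero hF), zero_mul, Ψ.su] at this
      exact zero_ne_one this
    have hlq : l ^ q ≠ 0 := pow_ne_zero _ hl0
    have hdet := Φ.det_Amat hF hgu
    rw [det_frame hF Ψ, ← hz, hzu, zero_mul, sub_zero] at hdet
    have hs := hxv Ψ.s
    rw [Ψ.su] at hs
    have hμq : μ ^ q ≠ 0 := pow_ne_zero _ hμ
    have hd : H2 (Φ.Amat g.1 *ᵥ Ψ.s) Ψ.u = (l ^ q)⁻¹ := eq_inv_of_mul_eq_one_right hs
    rw [hd] at hdet
    have hreal : (μ * l) ^ q = μ * l := by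
      rw [mul_pow]
      field_simp at hdet
      linear_combination -hdet
    refine ⟨(μ * l)⁻¹, inv_ne_zero (mul_ne_zero hμ hl0), by rw [inv_pow, hreal],
      μ ^ q • (Φ.Amat g.1 *ᵥ x), Xs_invariant hF Φ K g.2.1 hgu hx, ?_⟩
    rw [H_smul_left, ← hxv x, ← hreal, pow_mul, mul_pow]
    field_simp
    ring
  have hline := borel_line hF (IK hF Φ K) (Xs hF Φ K) (fun A hA w hw => IK_Xs hF Φ K hA hw)
    (fun e => hbad ((good_u_iff hF Φ K).2 e)) (Zs_le hF Φ K)
    (fun v hv w hw => comm_mem_Zs hF Φ K hv hw) (card_Xs_le hF K Φ hbad)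
    (Xs_ne_bot hF K Φ hbad hidx) Ψ (le_of_eq hI.symm) hdil
  let f : F →+ W2 := (LinearMap.toSpanSingleton F W2 Ψ.u).toAddMonoidHom
  have hf : Function.Injective f := smul_left_injective F Ψ.u_ne
  have hle : Xs hF Φ K ≤ f.range := fun x hx => by
    refine ⟨H2 x Ψ.s, ?_⟩
    have := Ψ.decomp_two hF x
    rw [hline x hx, zero_smul, add_zero] at this
    exact this.symm
  have hcard : Nat.card f.range = q ^ 2 := by
    rw [← Nat.card_congr (AddMonoidHom.ofInjective hf).toEquiv, Nat.card_eq_fintype_card, hF]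
  have hrange : Xs hF Φ K = f.range := by
    refine AddSubgroup.eq_of_le_of_card_ge hle ?_
    by_contra hlt
    rw [not_le, hcard] at hlt
    obtain ⟨j, hj⟩ := AddSubgroup.card_dvd_of_le hle
    rw [hcard] at hj
    have hj2 : 2 ≤ j := by
      rcases j with _ | _ | j
      · rw [mul_zero] at hj; exact absurd hj (pow_ne_zero _ (by omega))
      · omega
      · omega
    have h := Xs_ineq hF K Φ hbad hidx
    rw [hI, index_lineStab_two hF Ψ] at h
    have h2 : q ^ 5 < (q ^ 3 + 1) * Nat.card (Xs hF Φ K) := by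
      refine Nat.lt_of_mul_lt_mul_left (a := q + 1) ?_
      rw [mul_comm (q + 1), ← mul_assoc]
      exact h
    have h3 : 2 * Nat.card (Xs hF Φ K) ≤ q ^ 2 := by
      rw [hj, mul_comm]; exact Nat.mul_le_mul_left _ hj2
    have h5 : 1 ≤ q ^ 3 := Nat.one_le_pow _ _ (by omega)
    nlinarith
  rw [hrange]
  exact ⟨fun ⟨c, hc⟩ => ⟨c, hc.symm⟩, fun ⟨c, hc⟩ => ⟨c, hc.symm⟩⟩

/-- The lifts of the transvections at the fixed point. -/
theorem borel_lift {t : F} (ht : t + t ^ q = 0) :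
    ∃ a : F, ∃ g : G4, g ∈ K ∧ mat g = Φ.EM 0 a * Φ.XM (mat (tvu hF Ψ.uu ht)) := by
  obtain ⟨hZ, -⟩ := borel_card hF K Φ Ψ hbad hidx hI
  have hTu : ∀ c : F, mat (tvu hF Ψ.uu ht) *ᵥ (c • Ψ.u) = c • Ψ.u := fun c => by
    rw [tvu_mulVec, H_smul_left, Ψ.uu, mul_zero, mul_zero, zero_smul, add_zero]
  have hT : tvu hF Ψ.uu ht ∈ IK hF Φ K := by
    rw [hI]
    exact ⟨1, one_ne_zero, by rw [tvu_mulVec, Ψ.uu, mul_zero, zero_smul, add_zero, one_smul]⟩
  obtain ⟨g, hg, hgu, hgA⟩ := (mem_IK hF Φ K).1 hT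
  have hgd := Φ.decompose_one hF hgu
  rw [hgA] at hgd
  set w := Φ.π (mat g *ᵥ Φ.s)
  set a := Cfsg.hermForm 4 F q (mat g *ᵥ Φ.s) Φ.s
  have hperp : ∀ c : F, c ^ q * H2 w Ψ.u = c * H2 Ψ.u w := by
    intro c
    obtain ⟨b, e, he, hee⟩ := (borel_Xs hF K Φ Ψ hbad hidx hI).2 ⟨c, rfl⟩
    have hc := conj_unip hF Φ hgd hee
    rw [hTu] at hc
    have h := sub_mem_Zs hF Φ K (mul_mem (mul_mem hg he) (inv_mem hg)) he hc hee
    rw [hZ, AddSubgroup.mem_bot, H_smul_right, H_smul_left] at h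
    linear_combination h
  have hwu : H2 w Ψ.u = 0 := by
    obtain ⟨ζ, hζ⟩ := exists_not_fixed hF
    have h1 := hperp 1
    rw [one_pow, one_mul, one_mul] at h1
    have h2 := hperp ζ
    rw [← h1] at h2
    exact (mul_eq_zero.1 (by linear_combination h2 : (ζ ^ q - ζ) * H2 w Ψ.u = 0)).resolve_left
      (sub_ne_zero.2 hζ)
  have hw : w = H2 w Ψ.s • Ψ.u := by
    have := Ψ.decomp_two hF w
    rwa [hwu, zero_smul, add_zero] at this
  obtain ⟨b, e, he, hee⟩ := (borel_Xs hF K Φ Ψ hbad hidx hI).2 ⟨-H2 w Ψ.s, rfl⟩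
  refine ⟨b + a - H2 w ((-H2 w Ψ.s) • Ψ.u), e * g, mul_mem he hg, ?_⟩
  rw [mat_mul, hee, hgd, ← Matrix.mul_assoc, Φ.EM_mul hF]
  congr 2
  rw [neg_smul, ← hw, neg_add_cancel]

/-- The parameters of the lifts are linear. -/
theorem borel_params : ∃ κ δ : F, δ ^ q = δ ∧
    (∀ c : F, ∃ g : G4, g ∈ K ∧ mat g = Φ.EM (c • Ψ.u) (κ * c - κ ^ q * c ^ q)) ∧
    ∀ (t : F) (ht : t + t ^ q = 0), ∃ g : G4, g ∈ K ∧
      mat g = Φ.EM 0 (δ * t) * Φ.XM (mat (tvu hF Ψ.uu ht)) := by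
  classical
  have hq := HermStd.one_lt_q hF
  obtain ⟨hZ, -⟩ := borel_card hF K Φ Ψ hbad hidx hI
  have h1ex : ∀ c : F, ∃ a, ∃ g : G4, g ∈ K ∧ mat g = Φ.EM (c • Ψ.u) a := fun c =>
    (borel_Xs hF K Φ Ψ hbad hidx hI).2 ⟨c, rfl⟩
  choose f hf using h1ex
  have h2ex : ∀ t : F, ∃ a, ∀ ht : t + t ^ q = 0, ∃ g : G4, g ∈ K ∧
      mat g = Φ.EM 0 a * Φ.XM (mat (tvu hF Ψ.uu ht)) := fun t => by
    by_cases ht : t + t ^ q = 0
    · obtain ⟨a, ha⟩ := borel_lift hF K Φ Ψ hbad hidx hI ht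
      exact ⟨a, fun _ => ha⟩
    · exact ⟨0, fun h => absurd h ht⟩
  choose φ hφ using h2ex
  have huv : H2 Ψ.u Ψ.u = 0 := Ψ.uu
  have f_unique : ∀ (c a : F) (g : G4), g ∈ K → mat g = Φ.EM (c • Ψ.u) a → a = f c := by
    intro c a g hg hga
    obtain ⟨g', hg', hga'⟩ := hf c
    have h := sub_mem_Zs hF Φ K hg hg' hga hga'
    rwa [hZ, AddSubgroup.mem_bot, sub_eq_zero] at h
  have S_unique : ∀ (c t a : F) (ht : t + t ^ q = 0) (g : G4), g ∈ K →
      mat g = Φ.EM (c • Ψ.u) a * Φ.XM (mat (tvu hF Ψ.uu ht)) → a = f c + φ t := by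
    intro c t a ht g hg hga
    obtain ⟨e, he, hee⟩ := hf c
    obtain ⟨k, hk, hkk⟩ := hφ t ht
    have hm : mat (e * k) = Φ.EM (c • Ψ.u) (f c + φ t) * Φ.XM (mat (tvu hF Ψ.uu ht)) := by
      rw [mat_mul, hee, hkk, ← Matrix.mul_assoc, Φ.EM_mul hF, add_zero, H_zero_left, sub_zero]
    have h := param_sub_mem hF K Φ hg (mul_mem he hk)
      (show mat (tvu hF Ψ.uu ht) * mat (tvu hF Ψ.uu ht)⁻¹ = 1 by rw [← mat_mul, mul_inv_cancel, mat_one])
      hga hm
    rwa [hZ, AddSubgroup.mem_bot, sub_eq_zero] at h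
  have f_add : ∀ c d : F, f (c + d) = f c + f d := by
    intro c d
    obtain ⟨g, hg, hgc⟩ := hf c
    obtain ⟨g', hg', hgd⟩ := hf d
    refine (f_unique _ _ (g * g') (mul_mem hg hg') ?_).symm
    rw [mat_mul, hgc, hgd, Φ.EM_mul hF, ← add_smul, H_smul_left, H_smul_right, huv, mul_zero, mul_zero,
      sub_zero]
  have f_zero : f 0 = 0 := by
    have := f_add 0 0
    rw [add_zero] at this
    exact left_eq_add.1 this
  have φ_add : ∀ t t' : F, t + t ^ q = 0 → t' + t' ^ q = 0 → φ (t + t') = φ t + φ t' := by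
    intro t t' ht ht'
    have htt : (t + t') + (t + t') ^ q = 0 := (skewF hF).add_mem ht ht'
    obtain ⟨g, hg, hgt⟩ := hφ t ht
    obtain ⟨g', hg', hgt'⟩ := hφ t' ht'
    have hT : tvu hF Ψ.uu ht * tvu hF Ψ.uu ht' = tvu hF Ψ.uu htt := SU_ext fun x => by
      rw [mul_mulVec, tvu_mulVec, tvu_mulVec, tvu_mulVec, H_add_left, H_smul_left, huv]
      module
    have h := lift_mul hF Φ hgt hgt'
    rw [hT, Matrix.mulVec_zero, H_zero_left, sub_zero, zero_add] at h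
    rw [← zero_smul F Ψ.u] at h
    have := S_unique _ _ _ htt _ (mul_mem hg hg') h
    rw [f_zero, zero_add] at this
    exact this.symm
  have f_skew : ∀ c, f c + f c ^ q = 0 := by
    intro c
    obtain ⟨g, -, hgc⟩ := hf c
    have := Φ.trace_of_preserves hF hgc
    rw [H_smul_left, H_smul_right, huv, mul_zero, mul_zero, neg_zero] at this
    exact this
  have φ_skew : ∀ t, t + t ^ q = 0 → φ t + φ t ^ q = 0 := by
    intro t ht
    obtain ⟨g, -, hgt⟩ := hφ t ht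
    have := trace_lift hF Φ hgt
    rwa [H_zero_left, neg_zero] at this
  suffices h : ∃ κ δ : F, δ ^ q = δ ∧ (∀ c, f c = κ * c - κ ^ q * c ^ q) ∧
      ∀ t, t + t ^ q = 0 → φ t = δ * t by
    obtain ⟨κ, δ, hδ, hfc, hφt⟩ := h
    exact ⟨κ, δ, hδ, fun c => hfc c ▸ hf c, fun t ht => hφt t ht ▸ hφ t ht⟩
  by_cases hqp : q.Prime
  · -- additive maps are linear over the prime field
    obtain ⟨ζ, hζ⟩ := exists_not_fixed hF
    obtain ⟨δ₀, hδ₀0, hδ₀⟩ := exists_traceZero hF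
    have hζ' : ζ - ζ ^ q ≠ 0 := sub_ne_zero.2 (Ne.symm hζ)
    set κ := (f ζ - ζ ^ q * f 1) / (ζ - ζ ^ q) with hκ
    have hfq : ∀ c, f c ^ q = -f c := fun c => eq_neg_of_add_eq_zero_right (f_skew c)
    have hκq : κ ^ q = (f ζ - ζ * f 1) / (ζ - ζ ^ q) := by
      rw [hκ, ← HermStd.qHom_apply hF]
      simp only [map_div₀, map_sub, map_mul, HermStd.qHom_apply, hfq, pow_qq hF]
      rw [← neg_div_neg_eq]
      congr 1 <;> ring
    refine ⟨κ, φ δ₀ / δ₀, ?_, fun c => ?_, fun t ht => ?_⟩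
    · rw [div_pow, show φ δ₀ ^ q = -φ δ₀ from eq_neg_of_add_eq_zero_right (φ_skew _ hδ₀),
        show δ₀ ^ q = -δ₀ from eq_neg_of_add_eq_zero_right hδ₀, neg_div_neg_eq]
    · let g : fixField hF × fixField hF → F := fun p => p.1.1 + p.2.1 * ζ
      have hg : Function.Injective g := by
        rintro ⟨i, j⟩ ⟨i', j'⟩ h
        have h' : i.1 + j.1 * ζ = i'.1 + j'.1 * ζ := h
        have hq' := congrArg (· ^ q) h'
        simp only [HermStd.add_pow_q hF, mul_pow, (mem_fixField hF).1 i.2, (mem_fixField hF).1 j.2,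
          (mem_fixField hF).1 i'.2, (mem_fixField hF).1 j'.2] at hq'
        have hj : (j.1 - j'.1) * (ζ - ζ ^ q) = 0 := by linear_combination h' - hq'
        have hjj : j = j' := Subtype.ext (sub_eq_zero.1 ((mul_eq_zero.1 hj).resolve_right hζ'))
        subst hjj
        exact Prod.ext (Subtype.ext (add_right_cancel h')) rfl
      obtain ⟨⟨i, j⟩, hij⟩ := (hg.bijective_of_nat_card_le (by
        rw [Nat.card_prod, natCard_fixField hF, Nat.card_eq_fintype_card (α := F), hF, sq])).2 c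
      obtain ⟨a, ha⟩ := exists_nat_of_real hF hqp ((mem_fixField hF).1 i.2)
      obtain ⟨b, hb⟩ := exists_nat_of_real hF hqp ((mem_fixField hF).1 j.2)
      rw [← hij]
      simp only [g, ha, hb]
      let fh : F →+ F := AddMonoidHom.mk' f f_add
      have hlin : f ((a : F) + (b : F) * ζ) = (a : F) * f 1 + (b : F) * f ζ := by
        show fh _ = (a : F) * fh 1 + (b : F) * fh ζ
        rw [map_add, ← nsmul_eq_mul, ← nsmul_eq_mul, ← nsmul_eq_mul]
        conv_lhs => rw [show ((a : F)) = a • (1 : F) from (nsmul_one a).symm]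
        rw [map_nsmul, map_nsmul]
      have hcast : ∀ n : ℕ, (n : F) ^ q = n := fun n => by
        rw [← HermStd.qHom_apply hF, map_natCast]
      rw [hlin, HermStd.add_pow_q hF, mul_pow, hcast, hcast, hκq, hκ]
      field_simp
      ring
    · have hr : (t / δ₀) ^ q = t / δ₀ := by
        rw [div_pow, show t ^ q = -t from eq_neg_of_add_eq_zero_right ht,
          show δ₀ ^ q = -δ₀ from eq_neg_of_add_eq_zero_right hδ₀, neg_div_neg_eq]
      obtain ⟨n, hn⟩ := exists_nat_of_real hF hqp hr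
      rw [div_eq_iff hδ₀0] at hn
      have hφn : ∀ m : ℕ, φ ((m : F) * δ₀) = (m : F) * φ δ₀ := by
        intro m
        induction m with
        | zero =>
          have := φ_add 0 0 (skewF hF).zero_mem (skewF hF).zero_mem
          rw [add_zero] at this
          simp [left_eq_add.1 this]
        | succ m ih =>
          rw [Nat.cast_succ, add_mul, one_mul, φ_add _ _ ?_ hδ₀, ih, add_mul, one_mul]
          exact mul_mem_skewF hF (by rw [← HermStd.qHom_apply hF, map_natCast]) hδ₀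
      rw [hn, hφn]
      field_simp
  -- the torus makes them linear
  have hq4 : 4 ≤ q := by
    by_contra hlt
    exact hqp (by interval_cases q <;> norm_num)
  obtain ⟨l, hl, hl0, hl2⟩ : ∃ l : F, l ^ q = l ∧ l ≠ 0 ∧ l * l ≠ 1 := by
    by_contra hcon
    push Not at hcon
    have h : Nat.card (fixField hF) ≤ Nat.card ({0, 1, -1} : Finset F) :=
      Nat.card_le_card_of_injective (fun l => ⟨l.1, by
        by_cases h0 : l.1 = 0
        · simp [h0]
        · rcases mul_self_eq_one_iff.1 (hcon l.1 ((mem_fixField hF).1 l.2) h0) with h | h <;> simp [h]⟩)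
        fun a b e => Subtype.ext (congrArg Subtype.val e :)
    rw [natCard_fixField hF, Nat.card_eq_fintype_card, Fintype.card_coe] at h
    have := h.trans Finset.card_le_three
    omega
  obtain ⟨D, hDu, -⟩ := exists_torus_two hF Ψ hl0 hl
  obtain ⟨g, hg, hgu, hgA⟩ := (mem_IK hF Φ K).1 (show D ∈ IK hF Φ K by rw [hI]; exact ⟨l, hl0, hDu⟩)
  have hgd := Φ.decompose_one hF hgu
  rw [hgA] at hgd
  set y := Φ.π (mat g *ᵥ Φ.s)
  set b := Cfsg.hermForm 4 F q (mat g *ᵥ Φ.s) Φ.s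
  set η := H2 y Ψ.u with hη
  have hηq : H2 Ψ.u y = η ^ q := (H_conj hF y Ψ.u).symm
  have hl1 : l - 1 ≠ 0 := fun e => hl2 (by rw [sub_eq_zero.1 e, mul_one])
  have f_eq : ∀ c, f (l * c) = f c + l * (c ^ q * η - c * η ^ q) := by
    intro c
    obtain ⟨e, he, hee⟩ := hf c
    have hc := conj_unip hF Φ hgd hee
    rw [Matrix.mulVec_smul, hDu, smul_smul, mul_comm c l] at hc
    rw [← f_unique _ _ _ (mul_mem (mul_mem hg he) (inv_mem hg)) hc, H_smul_right, H_smul_left, mul_pow, hl,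
      ← hη, hηq]
    ring
  set κ := -(l * η ^ q) / (l - 1) with hκ
  have hκq : κ ^ q = -(l * η) / (l - 1) := by
    rw [hκ, ← HermStd.qHom_apply hF]
    simp only [map_div₀, map_sub, map_mul, map_neg, map_one, HermStd.qHom_apply, hl, pow_qq hF]
  have hfc : ∀ c, f c = κ * c - κ ^ q * c ^ q := by
    intro c
    have h := f_eq (c / (l - 1))
    have e : l * (c / (l - 1)) = c + c / (l - 1) := by field_simp; ring
    rw [e, f_add, add_comm, add_right_inj] at h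
    rw [h, hκq, hκ, div_pow, show (l - 1) ^ q = l - 1 by
      rw [← HermStd.qHom_apply hF, map_sub, map_one, HermStd.qHom_apply, hl]]
    field_simp
    ring
  set N := η * η ^ q + κ * η + κ ^ q * η ^ q with hN
  have hNq : N ^ q = N := by
    rw [hN, HermStd.add_pow_q hF, HermStd.add_pow_q hF, mul_pow, mul_pow, mul_pow, pow_qq hF, pow_qq hF]
    ring
  have φ_eq : ∀ t, t + t ^ q = 0 → φ ((l * l - 1) * t) = l * l * t * N := by
    intro t ht
    have ht' : l * l * t + (l * l * t) ^ q = 0 := mul_mem_skewF hF (by rw [mul_pow, hl]) ht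
    set t' := l * l * t with ht'def
    set T := tvu hF Ψ.uu ht
    set T' := tvu hF Ψ.uu ht' with hT'
    have hw : H2 (l • Ψ.u) (l • Ψ.u) = 0 := by rw [H_smul_left, H_smul_right, huv, mul_zero, mul_zero]
    have hDT : D * T = T' * D := by
      have h := tvu_conj hF D hDu Ψ.uu hw ht
      rw [mul_inv_eq_iff_eq_mul] at h
      rw [h]
      congr 1
      refine SU_ext fun x => ?_
      rw [tvu_mulVec, tvu_mulVec, H_smul_right, smul_smul, hl]
      congr 2
      rw [ht'def]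
      ring
    obtain ⟨k, hk, hkk⟩ := hφ t ht
    have hgk := lift_mul hF Φ hgd hkk
    rw [Matrix.mulVec_zero, H_zero_left, sub_zero, add_zero, hDT] at hgk
    set c' := -(t' * η) with hc'
    have hT'y : mat T' *ᵥ y = y + (t' * η) • Ψ.u := by rw [hT', tvu_mulVec]
    have hkey : Φ.EM (c' • Ψ.u) (φ t + H2 (mat T' *ᵥ y) (c' • Ψ.u)) * Φ.XM (mat T') * mat g =
        mat (g * k) := by
      rw [hgk, hgd, Matrix.mul_assoc, ← Matrix.mul_assoc (Φ.XM (mat T')),
        Φ.XM_EM hF (A := mat T') T'.2, Matrix.mul_assoc, Φ.XM_mul hF, ← Matrix.mul_assoc, Φ.EM_mul hF,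
        mat_mul]
      congr 2
      · rw [hT'y, hc', neg_smul]; abel
      · ring
    have hconj : mat (g * k * g⁻¹) =
        Φ.EM (c' • Ψ.u) (φ t + H2 (mat T' *ᵥ y) (c' • Ψ.u)) * Φ.XM (mat T') := by
      rw [mat_mul, ← hkey, Matrix.mul_assoc _ (mat g), ← mat_mul, mul_inv_cancel, mat_one, Matrix.mul_one]
    have hS := S_unique _ _ _ ht' _ (mul_mem (mul_mem hg hk) (inv_mem hg)) hconj
    rw [hT'y, H_smul_right, H_add_left, H_smul_left, huv, mul_zero, add_zero, ← hη, hfc] at hS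
    have hadd := φ_add ((l * l - 1) * t) t (mul_mem_skewF hF (by
      rw [← HermStd.qHom_apply hF, map_sub, map_mul, map_one, HermStd.qHom_apply, hl]) ht) ht
    rw [show (l * l - 1) * t + t = t' by rw [ht'def]; ring] at hadd
    have ht'q : t' ^ q = -t' := eq_neg_of_add_eq_zero_right ht'
    have hc'q : c' ^ q = t' * η ^ q := by
      rw [hc', ← HermStd.qHom_apply hF, map_neg, map_mul, HermStd.qHom_apply, HermStd.qHom_apply, ht'q]
      ring
    rw [hc'q, hadd] at hS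
    rw [hc'] at hS
    rw [hN]
    linear_combination -hS
  have hll : l * l - 1 ≠ 0 := sub_ne_zero.2 hl2
  refine ⟨κ, l * l * N / (l * l - 1), ?_, hfc, fun t ht => ?_⟩
  · rw [← HermStd.qHom_apply hF]
    simp only [map_div₀, map_sub, map_mul, map_one, HermStd.qHom_apply, hl, hNq]
  · have h := φ_eq (t / (l * l - 1)) (by
      rw [div_eq_inv_mul]
      exact mul_mem_skewF hF (by
        rw [inv_pow, ← HermStd.qHom_apply hF, map_sub, map_mul, map_one, HermStd.qHom_apply, hl]) ht)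
    rw [mul_div_cancel₀ _ hll] at h
    rw [h]
    field_simp

end Cfsg.Agent.Classical.Unitary.MinIndex
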