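import Cfsg.Agent.Lib.Classical.UnitaryMinIndex.Stab

/-!
# Isotropic subgroups for the commutator pairing
-/

set_option autoImplicit false
set_option linter.unusedSectionVars false

namespace Cfsg.Agent.Classical.Unitary.MinIndex

open Matrix Cfsg.Agent.Forms Cfsg.Agent.Classical

theorem dualEquiv (p : ℕ) [Fact p.Prime] (A : Type*) [AddCommGroup A] [Finite A]
    (i : Module (ZMod p) A) : Nonempty (Module.Dual (ZMod p) A ≃ A) := by
  have : Fintype A := Fintype.ofFinite A
  let b := Module.Free.chooseBasis (ZMod p) A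
  exact ⟨(b.constr (ZMod p)).toEquiv.symm.trans b.equivFun.toEquiv.symm⟩

/-- Two orthogonal subgroups for a non-degenerate pairing into `ZMod p`. -/
theorem card_mul_card_le {A : Type*} [AddCommGroup A] [Finite A] {p : ℕ} [Fact p.Prime]
    (hp : ∀ a : A, p • a = 0) (β : A →+ A →+ ZMod p) (hnd : ∀ x, x ≠ 0 → ∃ a, β x a ≠ 0)
    (Y Y' : AddSubgroup A) (horth : ∀ y ∈ Y, ∀ y' ∈ Y', β y y' = 0) :
    Nat.card Y * Nat.card Y' ≤ Nat.card A := by
  have hq : ∀ x : A ⧸ Y', p • x = 0 := fun x => by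
    induction x using QuotientAddGroup.induction_on with
    | _ a => rw [← QuotientAddGroup.mk_nsmul, hp, QuotientAddGroup.mk_zero]
  let : Module (ZMod p) (A ⧸ Y') := AddCommGroup.zmodModule hq
  let f : Y → Module.Dual (ZMod p) (A ⧸ Y') := fun y =>
    AddMonoidHom.toZModLinearMap p (QuotientAddGroup.lift Y' (β y.1)
      fun y' hy' => horth _ y.2 _ hy')
  have hf : Function.Injective f := by
    intro y y' e
    by_contra hne
    obtain ⟨a, ha⟩ := hnd (y.1 - y'.1) (sub_ne_zero.2 fun h => hne (Subtype.ext h))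
    have e2 : β y.1 a = β y'.1 a := LinearMap.congr_fun e (a : A ⧸ Y')
    exact ha (by rw [map_sub, AddMonoidHom.sub_apply, e2, sub_self])
  have : Finite (Module.Dual (ZMod p) (A ⧸ Y')) := Finite.of_equiv _ (dualEquiv p (A ⧸ Y') _).some.symm
  have h1 := (Nat.card_le_card_of_injective f hf).trans_eq (Nat.card_congr (dualEquiv p (A ⧸ Y') _).some)
  rw [AddSubgroup.card_eq_card_quotient_mul_card_addSubgroup Y']
  exact Nat.mul_le_mul_right _ h1

variable {F : Type*} [Field F] [Fintype F] {q m : ℕ} (hF : Fintype.card F = q ^ 2)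

local notation "Wc" => (Fin m → F)
local notation "Hm" => Cfsg.hermForm m F q

include hF

theorem exists_skew_sub {t : F} (ht : t ∈ skewF hF) : ∃ b : F, b - b ^ q = t := by
  obtain ⟨δ, hδ0, hδ⟩ := exists_traceZero hF
  have hq' : δ ^ q = -δ := eq_neg_of_add_eq_zero_right hδ
  have ht' : t ^ q = -t := eq_neg_of_add_eq_zero_right ht
  obtain ⟨b', hb'⟩ := exists_trace_eq hF (c := t / δ) (by rw [div_pow, ht', hq', neg_div_neg_eq])
  refine ⟨δ * b', ?_⟩
  rw [mul_pow, hq']
  field_simp at hb'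
  linear_combination hb'

/-- A functional on the trace zero elements killing a proper subgroup. -/
theorem exists_functional {Z : AddSubgroup F} (hZ : Z ≤ skewF hF) (hne : Z ≠ skewF hF) :
    ∃ (p : ℕ) (_ : Fact p.Prime) (χ : F →+ ZMod p), (∀ a : F, p • a = 0) ∧
      (∀ a ∈ Z, χ a = 0) ∧ ∃ t ∈ skewF hF, χ t ≠ 0 := by
  obtain ⟨p, hp⟩ := CharP.exists F
  have hpp : Fact p.Prime := ⟨CharP.char_is_prime F p⟩
  let : Algebra (ZMod p) F := ZMod.algebra F p
  obtain ⟨y, hy, hyZ⟩ := SetLike.exists_of_lt (lt_of_le_of_ne hZ hne)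
  obtain ⟨f, hf, hf'⟩ := Submodule.exists_dual_map_eq_bot_of_notMem
    (p := (AddSubgroup.toZModSubmodule p Z)) (x := y) (by simpa using hyZ) inferInstance
  refine ⟨p, hpp, f.toAddMonoidHom, fun a => by rw [nsmul_eq_mul, CharP.cast_eq_zero, zero_mul],
    fun a ha => ?_, y, hy, hf⟩
  have : f a ∈ (AddSubgroup.toZModSubmodule p Z).map f := Submodule.mem_map_of_mem (by simpa using ha)
  rwa [hf', Submodule.mem_bot] at this

/-- A subgroup with commutators in a proper subgroup is at most of the order of a half. -/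
theorem card_le_of_comm {Z : AddSubgroup F} (hZ : Z ≤ skewF hF) (hne : Z ≠ skewF hF)
    (X : AddSubgroup Wc) (hX : ∀ v ∈ X, ∀ w ∈ X, Hm v w - Hm w v ∈ Z) :
    Nat.card X ≤ q ^ m := by
  obtain ⟨p, hp, χ, hpF, hχ, t, ht, htne⟩ := exists_functional hF hZ hne
  let β : Wc →+ Wc →+ ZMod p := AddMonoidHom.mk'
    (fun v => AddMonoidHom.mk' (fun w => χ (Hm v w - Hm w v)) fun w w' => by
      rw [← map_add, H_add_right hF, H_add_left]; congr 1; ring)
    (fun v v' => by
      refine AddMonoidHom.ext fun w => ?_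
      show χ _ = χ _ + χ _
      rw [← map_add, H_add_left, H_add_right hF]; congr 1; ring)
  have h := card_mul_card_le (p := p) (fun a => funext fun i => by simpa using hpF (a i)) β ?_ X X
    (fun v hv w hw => hχ _ (hX v hv w hw))
  · rw [Nat.card_fun, Nat.card_fin, Nat.card_eq_fintype_card (α := F), hF,
      ← pow_mul, mul_comm 2 m, pow_mul, sq] at h
    exact Nat.mul_self_le_mul_self_iff.1 h
  · intro x hx
    obtain ⟨w, hw⟩ := exists_H_eq_one hF hx
    obtain ⟨b, hb⟩ := exists_skew_sub hF ht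
    refine ⟨(b ^ q) • w, ?_⟩
    show χ (Hm x ((b ^ q) • w) - Hm ((b ^ q) • w) x) ≠ 0
    rw [H_smul_right, H_smul_left, hw, ← H_conj hF x w, hw, one_pow, pow_qq hF, mul_one, mul_one, hb]
    exact htne

end Cfsg.Agent.Classical.Unitary.MinIndex
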