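import Cfsg.Agent.Lib.Classical.UnitaryMinIndex.Stab

/-!
# The lifts of the residual transvections

If the stabiliser of a point in a subgroup maps onto the residual group and meets the radical only in the
centre, then on every line through the point there is exactly one further point all of whose transvections lie
in the subgroup, apart from one configuration for two elements.
-/

set_option autoImplicit false
set_option linter.unusedSectionVars false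

namespace Cfsg.Agent.Classical.Unitary.MinIndex

open Matrix Cfsg.Agent.Forms Cfsg.Agent.Classical

variable {F : Type*} [Field F] [Fintype F] {q n m : ℕ} (hF : Fintype.card F = q ^ 2)

local notation "Vec" => (Fin n → F)
local notation "Wc" => (Fin m → F)
local notation "Hn" => Cfsg.hermForm n F q
local notation "Hm" => Cfsg.hermForm m F q

/-- All transvections at `r` lie in the subgroup. -/
def Good (K : Subgroup (Cfsg.SU n F q)) (r : Vec) : Prop :=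
  ∀ g : Cfsg.SU n F q, g ∈ tvAt F q r → g ∈ K

variable (Φ : Fr F q n m) (K : Subgroup (Cfsg.SU n F q))

theorem mat_tvAt {r : Vec} {g : Cfsg.SU n F q} {c : F} (hc : c + c ^ q = 0)
    (hg : mat g = Cfsg.unitaryTransvection n q r c) : g ∈ tvAt F q r := ⟨c, hc, hg⟩

include hF

theorem good_iff {r : Vec} (hr : Hn r r = 0) :
    Good K r ↔ ∀ (c : F) (hc : c + c ^ q = 0), tvu hF hr hc ∈ K := by
  refine ⟨fun h c hc => h _ ⟨c, hc, rfl⟩, fun h g hg => ?_⟩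
  obtain ⟨c, hc, rfl⟩ := tvu_eq_of_mem hF hr hg
  exact h c hc

theorem good_smul {r : Vec} {a : F} (ha : a ≠ 0) : Good K (a • r) ↔ Good K r := by
  rw [Good, Good, tvAt_smul hF ha]

theorem good_u_iff : Good K Φ.u ↔ Zs hF Φ K = skewF hF := by
  rw [good_iff hF K Φ.uu]
  refine ⟨fun h => le_antisymm (Zs_le hF Φ K) fun a ha => (tvu_mem_iff hF Φ K ha).1 (h a ha),
    fun h c hc => (tvu_mem_iff hF Φ K hc).2 (by rw [h]; exact hc)⟩

theorem Fr.XM_mul (A B : Matrix (Fin m) (Fin m) F) : Φ.XM A * Φ.XM B = Φ.XM (A * B) := by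
  refine Φ.mat_eq hF ?_ ?_ (fun x => ?_) <;> rw [← Matrix.mulVec_mulVec]
  · rw [Φ.XM_u hF, Φ.XM_u hF, Φ.XM_u hF]
  · rw [Φ.XM_s hF, Φ.XM_s hF, Φ.XM_s hF]
  · rw [Φ.XM_ι hF, Φ.XM_ι hF, Φ.XM_ι hF, Matrix.mulVec_mulVec]

theorem Fr.XM_EM {A : Matrix (Fin m) (Fin m) F} (hA : ∀ x y, Hm (A *ᵥ x) (A *ᵥ y) = Hm x y)
    (w : Wc) (a : F) : Φ.XM A * Φ.EM w a = Φ.EM (A *ᵥ w) a * Φ.XM A := by
  refine Φ.mat_eq hF ?_ ?_ (fun x => ?_) <;> rw [← Matrix.mulVec_mulVec, ← Matrix.mulVec_mulVec]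
  · rw [Φ.EM_u hF, Φ.XM_u hF, Φ.EM_u hF]
  · rw [Φ.EM_s hF, Φ.XM_s hF, Φ.EM_s hF, Matrix.mulVec_add, Matrix.mulVec_add, Matrix.mulVec_smul,
      Φ.XM_s hF, Φ.XM_ι hF, Φ.XM_u hF]
  · rw [Φ.EM_ι hF, Φ.XM_ι hF, Φ.EM_ι hF, Matrix.mulVec_sub, Matrix.mulVec_smul, Φ.XM_ι hF,
      Φ.XM_u hF, hA]

/-- Products of lifts. -/
theorem lift_mul {g g' : Cfsg.SU n F q} {w w' : Wc} {a a' : F} {A B : Cfsg.SU m F q}
    (hg : mat g = Φ.EM w a * Φ.XM (mat A)) (hg' : mat g' = Φ.EM w' a' * Φ.XM (mat B)) :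
    mat (g * g') = Φ.EM (w + mat A *ᵥ w') (a + a' - Hm (mat A *ᵥ w') w) * Φ.XM (mat (A * B)) := by
  rw [mat_mul, hg, hg', Matrix.mul_assoc, ← Matrix.mul_assoc (Φ.XM (mat A)), Φ.XM_EM hF (A := mat A) A.2,
    Matrix.mul_assoc, Φ.XM_mul hF, ← Matrix.mul_assoc, Φ.EM_mul hF, mat_mul]

/-- Two lifts of the same element. -/
theorem lift_unique (hX : Xs hF Φ K = ⊥) {g g' : Cfsg.SU n F q} (hgK : g ∈ K) (hgK' : g' ∈ K)
    {w w' : Wc} {a a' : F} {A : Cfsg.SU m F q}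
    (hg : mat g = Φ.EM w a * Φ.XM (mat A)) (hg' : mat g' = Φ.EM w' a' * Φ.XM (mat A)) :
    w = w' ∧ a - a' ∈ Zs hF Φ K := by
  have h2 : Φ.XM (mat A) * Φ.XM (mat A⁻¹) = 1 := by
    rw [Φ.XM_mul hF, ← mat_mul, mul_inv_cancel, mat_one, Φ.XM_one hF]
  have h1 : mat (g * g'⁻¹) * Φ.EM w' a' = Φ.EM w a := by
    have : mat (g * g'⁻¹) * mat g' = mat g := by rw [← mat_mul, inv_mul_cancel_right]
    rw [hg, hg', ← Matrix.mul_assoc] at this
    have := congrArg (· * Φ.XM (mat A⁻¹)) this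
    simpa only [Matrix.mul_assoc, h2, Matrix.mul_one] using this
  have h3 : Φ.EM w' a' * Φ.EM (-w') (-a' - Hm w' w') = 1 := by
    rw [Φ.EM_mul hF, add_neg_cancel, H_neg_left, ← Φ.EM_one hF]
    congr 1
    ring
  have h4 := congrArg (· * Φ.EM (-w') (-a' - Hm w' w')) h1
  simp only [Matrix.mul_assoc, h3, Matrix.mul_one] at h4
  rw [Φ.EM_mul hF, ← sub_eq_add_neg] at h4
  have hw : w - w' ∈ Xs hF Φ K := ⟨_, _, mul_mem hgK (inv_mem hgK'), h4⟩
  rw [hX, AddSubgroup.mem_bot, sub_eq_zero] at hw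
  subst hw
  refine ⟨rfl, ⟨g * g'⁻¹, mul_mem hgK (inv_mem hgK'), ?_⟩⟩
  rw [h4, sub_self, H_neg_left]
  congr 1
  ring

variable (hI : IK hF Φ K = ⊤) (hX : Xs hF Φ K = ⊥)

include hI

theorem exists_lift (A : Cfsg.SU m F q) :
    ∃ g : Cfsg.SU n F q, g ∈ K ∧ ∃ w a, mat g = Φ.EM w a * Φ.XM (mat A) := by
  obtain ⟨g, hg, hu, hA⟩ := (mem_IK hF Φ K).1 (show A ∈ IK hF Φ K by rw [hI]; trivial)
  exact ⟨g, hg, _, _, hA ▸ Φ.decompose_one hF hu⟩

include hX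

/-- The residual vectors of lifts of commuting elements. -/
theorem lift_comm {A B : Cfsg.SU m F q} (hAB : A * B = B * A) {g k : Cfsg.SU n F q} (hg : g ∈ K)
    (hk : k ∈ K) {w y : Wc} {a b : F} (hga : mat g = Φ.EM w a * Φ.XM (mat A))
    (hkb : mat k = Φ.EM y b * Φ.XM (mat B)) :
    mat B *ᵥ w - w = mat A *ᵥ y - y := by
  have h1 := lift_mul hF Φ hga hkb
  have h2 := lift_mul hF Φ hkb hga
  rw [← hAB] at h2
  have := (lift_unique hF Φ K hX (mul_mem hg hk) (mul_mem hk hg) h1 h2).1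
  rw [sub_eq_sub_iff_add_eq_add, add_comm (mat B *ᵥ w) y, ← this, add_comm w]

omit hI hX in
theorem exists_diag {m' : ℕ} (Ψ : Fr F q m m') (hm' : 1 ≤ m') (j : Fin m') {l : F} (hl : l ≠ 0) :
    ∃ D : Cfsg.SU m F q, mat D *ᵥ Ψ.u = l • Ψ.u ∧
      ∀ y, mat D *ᵥ Ψ.ι y = Ψ.ι (fun i => if i = j then l ^ q * l⁻¹ * y i else y i) := by
  set ν := l ^ q * l⁻¹ with hνd
  have hν : ν ^ (q + 1) = 1 := by
    rw [hνd, mul_pow, inv_pow, ← pow_mul, mul_comm q, pow_mul, pow_succ l q, mul_pow, pow_qq hF]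
    field_simp
  let d : Fin m' → F := fun i => if i = j then ν else 1
  have hd : ∀ i, d i ^ (q + 1) = 1 := fun i => by simp only [d]; split_ifs <;> simp [hν]
  have hT : ∀ x y, Hm (Ψ.TM l *ᵥ x) (Ψ.TM l *ᵥ y) = Hm x y := by
    have e : ∀ z, Ψ.TM l *ᵥ z = (Hm z Ψ.s * l) • Ψ.u + (Hm z Ψ.u * (l ^ q)⁻¹) • Ψ.s + Ψ.ι (Ψ.π z) := by
      intro z
      conv_lhs => rw [Ψ.decomp' z]
      simp only [Matrix.mulVec_add, Matrix.mulVec_smul, Ψ.TM_u hF, Ψ.TM_s hF, Ψ.TM_ι hF, smul_smul]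
    intro x y
    rw [e x, e y]
    conv_rhs => rw [Ψ.decomp' x, Ψ.decomp' y]
    simp only [H_add_left, H_add_right hF, H_smul_left, H_smul_right, Ψ.uu, Ψ.ss, Ψ.us, Ψ.su, Ψ.iu,
      Ψ.iss, Ψ.ui hF, Ψ.si hF, Ψ.ii, mul_pow, inv_pow, pow_qq hF]
    field_simp
    ring
  refine ⟨suMk (Ψ.XM (Matrix.diagonal d) * Ψ.TM l) ?_ ?_, ?_, fun y => ?_⟩
  · rw [Matrix.det_mul, Ψ.det_XM hF, Ψ.det_TM hF, Matrix.det_diagonal, Finset.prod_ite_eq']
    simp [hνd]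
    field_simp
  · intro x y
    rw [← Matrix.mulVec_mulVec, ← Matrix.mulVec_mulVec,
      Ψ.XM_preserves hF (fun a b => diag_preserves hF d hd a b), hT]
  · rw [suMk_mulVec, ← Matrix.mulVec_mulVec, Ψ.TM_u hF, Matrix.mulVec_smul, Ψ.XM_u hF]
  · rw [suMk_mulVec, ← Matrix.mulVec_mulVec, Ψ.TM_ι hF, Ψ.XM_ι hF]
    congr 1
    funext i
    simp only [Matrix.mulVec_diagonal, d]
    split_ifs <;> simp

omit hI hX in
theorem comm_tvu {v : Wc} (hv : Hm v v = 0) {c : F} (hc : c + c ^ q = 0) {D : Cfsg.SU m F q} {l : F}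
    (hD : mat D *ᵥ v = l • v) (hl : l ^ (q + 1) = 1) : tvu hF hv hc * D = D * tvu hF hv hc := by
  have hw : Hm (l • v) (l • v) = 0 := by rw [UnitaryCount.hermForm_smul_smul, hv, mul_zero]
  have h1 := tvu_conj hF D hD hv hw hc
  have h2 : tvu hF hw hc = tvu hF hv hc := SU_ext fun x => by
    rw [tvu_mulVec, tvu_mulVec, H_smul_right, smul_smul]
    congr 2
    linear_combination (c * Hm x v) * hl
  rw [h2, mul_inv_eq_iff_eq_mul] at h1
  exact h1.symm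

/-- The residual vector of a lift of a transvection is a multiple of its centre, linear in the parameter. -/
theorem exists_kappa (hm : 3 ≤ m) {v : Wc} (hv0 : v ≠ 0) (hv : Hm v v = 0) :
    ∃ κ : F, ∀ (c : F) (hc : c + c ^ q = 0) (g : Cfsg.SU n F q) (w : Wc) (a : F), g ∈ K →
      mat g = Φ.EM w a * Φ.XM (mat (tvu hF hv hc)) → w = (c * κ) • v := by
  obtain ⟨Ψ, hΨ⟩ := exists_fr_at hF (m := m - 2) (by omega) hv0 hv
  obtain ⟨μ, hμ, hμ1, hμ2⟩ := exists_normOne_ne hF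
  have hμ0 : μ ≠ 0 := fun e => by simp [e] at hμ
  have hν : μ ^ q * μ⁻¹ ≠ 1 := by
    intro e
    refine hμ2 ?_
    have e' : μ ^ q = μ := by
      field_simp at e
      exact e
    rw [sq, ← hμ, pow_succ, e']
  have hT : ∀ (c : F) (hc : c + c ^ q = 0) (x : Wc), mat (tvu hF hv hc) *ᵥ x - x = (c * Hm x v) • v :=
    fun c hc x => by rw [tvu_mulVec, add_sub_cancel_left]
  obtain ⟨D₀, hD₀u, -⟩ := exists_diag hF Ψ (by omega) ⟨0, by omega⟩ hμ0
  obtain ⟨d, hd, y₀, b₀, hdy⟩ := exists_lift hF Φ K hI D₀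
  refine ⟨Hm y₀ v / (μ - 1), fun c hc g w a hg hga => ?_⟩
  have key : ∀ B : Cfsg.SU m F q, tvu hF hv hc * B = B * tvu hF hv hc →
      ∃ l : F, mat B *ᵥ w - w = l • v := by
    intro B hB
    obtain ⟨k, hk, y, b, hkb⟩ := exists_lift hF Φ K hI B
    exact ⟨_, (lift_comm hF Φ K hI hX hB hg hk hga hkb).trans (hT c hc y)⟩
  -- orthogonality to the centre
  have hwv : Hm w v = 0 := by
    obtain ⟨b, hb⟩ := exists_trace_eq hF (c := -(1 : F)) (by rw [← HermStd.qHom_apply hF, map_neg, map_one])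
    have hE : b + b ^ q = - Cfsg.hermForm (m - 2) F q (Pi.single ⟨0, by omega⟩ 1) (Pi.single ⟨0, by omega⟩ 1) := by
      rw [H_single_single hF, if_pos rfl]; exact hb
    have hcom : tvu hF hv hc * Ψ.E hF _ b hE = Ψ.E hF _ b hE * tvu hF hv hc :=
      (comm_tvu hF hv hc (D := Ψ.E hF _ b hE) (l := 1)
        (by rw [one_smul, ← hΨ]; exact Ψ.EM_u hF _ _) (one_pow _))
    obtain ⟨l, hl⟩ := key _ hcom
    have hl' : Ψ.EM (Pi.single ⟨0, by omega⟩ 1) b *ᵥ w - w = l • v := hl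
    rw [Ψ.EM_mulVec, add_sub_cancel_left, hΨ] at hl'
    have := congrArg Ψ.π hl'
    rw [← hΨ] at this
    simp only [map_add, map_smul, map_neg, Ψ.π_ι hF, Ψ.π_u hF, smul_zero, neg_zero, add_zero] at this
    have := congrFun this ⟨0, by omega⟩
    simpa [hΨ] using this
  have hdec := Ψ.decomp' w
  rw [hΨ, hwv, zero_smul, add_zero] at hdec
  -- no component in the complement
  have hy : Ψ.π w = 0 := by
    funext j
    obtain ⟨D, hDu, hDι⟩ := exists_diag hF Ψ (by omega) j hμ0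
    rw [hΨ] at hDu
    obtain ⟨l, hl⟩ := key D (comm_tvu hF hv hc hDu hμ)
    rw [hdec, Matrix.mulVec_add, Matrix.mulVec_smul, hDu, hDι] at hl
    have := congrArg Ψ.π hl
    rw [← hΨ] at this
    simp only [map_add, map_sub, map_smul, Ψ.π_ι hF, Ψ.π_u hF, smul_zero, zero_add] at this
    have h5 := congrFun this j
    simp only [Pi.sub_apply, if_pos, Pi.zero_apply] at h5
    by_contra h0
    exact hν (mul_right_cancel₀ h0 (by rw [one_mul]; linear_combination h5))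
  rw [hy, map_zero, add_zero] at hdec
  -- the multiple
  rw [hΨ] at hD₀u
  have h6 := (lift_comm hF Φ K hI hX (comm_tvu hF hv hc hD₀u hμ) hg hd hga hdy).trans (hT c hc y₀)
  rw [hdec, Matrix.mulVec_smul, hD₀u, smul_smul, ← sub_smul] at h6
  have h7 := smul_left_injective F hv0 h6
  rw [hdec]
  congr 1
  field_simp [sub_ne_zero.2 hμ1]
  linear_combination h7

omit hI hX in
theorem tv_decomp {v : Wc} (hv : Hm v v = 0) {c : F} (hc : c + c ^ q = 0) (α ψ : F) :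
    Cfsg.unitaryTransvection n q Φ.u ψ * Cfsg.unitaryTransvection n q (Φ.ι v + α • Φ.u) c =
      Φ.EM ((c * α ^ q) • v) (ψ + c * α ^ (q + 1)) * Φ.XM (mat (tvu hF hv hc)) := by
  have hcq : c ^ q = -c := eq_neg_of_add_eq_zero_right hc
  rw [← Φ.EM_zero hF]
  refine Φ.mat_eq hF ?_ ?_ (fun x => ?_) <;>
    rw [← Matrix.mulVec_mulVec, ← Matrix.mulVec_mulVec, HermStd.transvection_mulVec, H_add_right hF,
      H_smul_right]
  · rw [Φ.ui hF, Φ.uu, Φ.XM_u hF, Φ.EM_u hF]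
    simp [Φ.EM_u hF]
  · rw [Φ.si hF, Φ.su, Φ.XM_s hF, Φ.EM_s hF]
    simp only [Matrix.mulVec_add, Matrix.mulVec_smul, Φ.EM_u hF, Φ.EM_s hF, Φ.EM_ι hF, map_zero,
      H_zero_right hF, map_smul, pow_succ]
    module
  · rw [Φ.ii, Φ.iu, Φ.XM_ι hF, Φ.EM_ι hF, tvu_mulVec]
    simp only [Matrix.mulVec_add, Matrix.mulVec_smul, Φ.EM_u hF, Φ.EM_ι hF, H_zero_right hF, zero_smul,
      sub_zero, map_add, map_smul, H_add_left, H_smul_left, H_smul_right, mul_pow, hcq, pow_qq hF, hv]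
    module

omit hI hX in
theorem iso_line {v : Wc} (hv : Hm v v = 0) (α : F) : Hn (Φ.ι v + α • Φ.u) (Φ.ι v + α • Φ.u) = 0 := by
  simp [H_add_left, H_add_right hF, H_smul_left, H_smul_right, Φ.ii, hv, Φ.iu, Φ.ui hF, Φ.uu]

/-- The lifts of a transvection. -/
theorem exists_alpha (hm : 3 ≤ m) {v : Wc} (hv0 : v ≠ 0) (hv : Hm v v = 0) :
    ∃ α : F, (∀ (c : F) (hc : c + c ^ q = 0), ∃ (ψ : F) (hψ : ψ + ψ ^ q = 0),
      tvu hF Φ.uu hψ * tvu hF (iso_line hF Φ hv α) hc ∈ K) ∧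
      ∀ (c : F) (hc : c + c ^ q = 0), c ≠ 0 → ∀ (β ψ : F) (hψ : ψ + ψ ^ q = 0),
        tvu hF Φ.uu hψ * tvu hF (iso_line hF Φ hv β) hc ∈ K → β = α := by
  obtain ⟨κ, hκ⟩ := exists_kappa hF Φ K hI hX hm hv0 hv
  refine ⟨κ ^ q, fun c hc => ?_, fun c hc hc0 β ψ hψ hmem => ?_⟩
  · obtain ⟨g, hg, w, a, hga⟩ := exists_lift hF Φ K hI (tvu hF hv hc)
    obtain rfl := hκ c hc g w a hg hga
    have hgu : a + a ^ q = 0 := by
      have hX1 : ∀ z, Φ.XM (mat (tvu hF hv hc)) *ᵥ z = z + Φ.ι ((c * Hm (Φ.π z) v) • v) := fun z => by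
        rw [Φ.XM_mulVec, tvu_mulVec, add_sub_cancel_left]
      have e := SU_H g Φ.s Φ.s
      rw [hga, ← Matrix.mulVec_mulVec, Φ.XM_s hF, Φ.EM_s hF] at e
      simp only [H_add_left, H_add_right hF, H_smul_left, H_smul_right, Φ.ss, Φ.si hF, Φ.iss, Φ.su,
        Φ.us, Φ.iu, Φ.ui hF, Φ.uu, Φ.ii, hv, map_smul] at e
      linear_combination e
    have hψ : (a - c * (κ ^ q) ^ (q + 1)) + (a - c * (κ ^ q) ^ (q + 1)) ^ q = 0 := by
      have hN : ((κ ^ q) ^ (q + 1)) ^ q = (κ ^ q) ^ (q + 1) := by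
        rw [pow_succ, mul_pow, pow_qq hF (κ ^ q), mul_comm]
      rw [← HermStd.qHom_apply hF (a - c * (κ ^ q) ^ (q + 1)), map_sub, map_mul, HermStd.qHom_apply,
        HermStd.qHom_apply, HermStd.qHom_apply, hN]
      linear_combination hgu - (κ ^ q) ^ (q + 1) * hc
    refine ⟨_, hψ, ?_⟩
    convert hg using 1
    refine SU_ext fun x => ?_
    rw [show mat (tvu hF Φ.uu hψ * tvu hF (iso_line hF Φ hv (κ ^ q)) hc) =
      Cfsg.unitaryTransvection n q Φ.u _ * Cfsg.unitaryTransvection n q (Φ.ι v + κ ^ q • Φ.u) c from rfl,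
      tv_decomp hF Φ hv hc, hga, pow_qq hF, sub_add_cancel]
  · have := hκ c hc _ _ _ hmem ((mat_mul _ _).trans (tv_decomp hF Φ hv hc β ψ))
    have h2 := mul_left_cancel₀ hc0 (smul_left_injective F hv0 this)
    rw [← h2, pow_qq hF]

theorem alpha_unique (hm : 3 ≤ m) {v : Wc} (hv0 : v ≠ 0) (hv : Hm v v = 0) {α β : F}
    (hα : Good K (Φ.ι v + α • Φ.u)) (hβ : Good K (Φ.ι v + β • Φ.u)) : α = β := by
  obtain ⟨a, -, ha⟩ := exists_alpha hF Φ K hI hX hm hv0 hv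
  obtain ⟨c, hc0, hc⟩ := exists_traceZero hF
  have h0 : (0 : F) + 0 ^ q = 0 := by simp [zero_pow (q_ne_zero hF)]
  have h1 : ∀ γ, Good K (Φ.ι v + γ • Φ.u) → γ = a := fun γ hγ => ha c hc hc0 γ 0 h0 (by
    rw [show tvu hF Φ.uu h0 = 1 from SU_ext fun x => by simp [tvu_mulVec, mat_one], one_mul]
    exact (good_iff hF K (iso_line hF Φ hv γ)).1 hγ c hc)
  rw [h1 α hα, h1 β hβ]

/-- For more than two elements there is a good point on every line. -/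
theorem exists_good_of_three_le (hq : 3 ≤ q) (hm : 3 ≤ m) {v : Wc} (hv0 : v ≠ 0) (hv : Hm v v = 0) :
    ∃ α : F, Good K (Φ.ι v + α • Φ.u) := by
  obtain ⟨α, hex, huniq⟩ := exists_alpha hF Φ K hI hX hm hv0 hv
  refine ⟨α, (good_iff hF K (iso_line hF Φ hv α)).2 fun c hc => ?_⟩
  -- a scalar with norm different from one
  obtain ⟨l, hl0, hl⟩ := exists_pow_ne_one hF (by omega : q ≠ 2)
  obtain ⟨Ψ, hΨ⟩ := exists_fr_at hF (m := m - 2) (by omega) hv0 hv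
  obtain ⟨D, hDu, -⟩ := exists_diag hF Ψ (by omega) ⟨0, by omega⟩ hl0
  rw [hΨ] at hDu
  obtain ⟨d, hd, y, b, hdy⟩ := exists_lift hF Φ K hI D
  have hdu : mat d *ᵥ Φ.u = Φ.u := by rw [hdy, ← Matrix.mulVec_mulVec, Φ.XM_u hF, Φ.EM_u hF]
  set r := l ^ (q + 1)
  have hr : r ^ q = r := by simp only [r]; rw [pow_succ, mul_pow, pow_qq hF, mul_comm]
  have hrs : (r - 1) ^ q = r - 1 := by rw [← HermStd.qHom_apply hF, map_sub, map_one, HermStd.qHom_apply, hr]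
  set c₁ := (r - 1)⁻¹ * c with hc1def
  have hc₁ : c₁ + c₁ ^ q = 0 := by
    rw [hc1def, mul_pow, inv_pow, hrs]
    linear_combination (r - 1)⁻¹ * hc
  have hrc : r * c₁ + (r * c₁) ^ q = 0 := by rw [mul_pow, hr]; linear_combination r * hc₁
  obtain ⟨ψ₁, hψ₁, h1⟩ := hex c₁ hc₁
  -- conjugation
  set r' := Φ.ι v + ((α - Hm (mat D *ᵥ v) y) * l⁻¹) • Φ.u with hr'
  have hdr : mat d *ᵥ (Φ.ι v + α • Φ.u) = l • r' := by
    rw [Matrix.mulVec_add, Matrix.mulVec_smul, hdu, hdy, ← Matrix.mulVec_mulVec, Φ.XM_ι hF, Φ.EM_ι hF,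
      hr', smul_add, ← map_smul, ← hDu, smul_smul, mul_left_comm, mul_inv_cancel₀ hl0, mul_one,
      sub_smul]
    abel
  have hiso' := iso_line hF Φ hv ((α - Hm (mat D *ᵥ v) y) * l⁻¹)
  have hsc : Hn (l • r') (l • r') = 0 := by rw [UnitaryCount.hermForm_smul_smul, hiso', mul_zero]
  have h2 : tvu hF Φ.uu hψ₁ * tvu hF hiso' hrc ∈ K := by
    have := mul_mem (mul_mem hd h1) (inv_mem hd)
    rw [show d * (tvu hF Φ.uu hψ₁ * tvu hF (iso_line hF Φ hv α) hc₁) * d⁻¹ =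
      (d * tvu hF Φ.uu hψ₁ * d⁻¹) * (d * tvu hF (iso_line hF Φ hv α) hc₁ * d⁻¹) by group,
      tvu_conj hF d hdu Φ.uu Φ.uu, tvu_conj hF d hdr (iso_line hF Φ hv α) hsc] at this
    convert this using 2
    refine SU_ext fun x => ?_
    rw [tvu_mulVec, tvu_mulVec, H_smul_right, smul_smul]
    congr 2
    simp only [r, pow_succ]
    ring
  by_cases hc0 : c = 0
  · subst hc0
    convert one_mem K using 1
    exact SU_ext fun x => by simp [tvu_mulVec, mat_one]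
  have hrc0 : r * c₁ ≠ 0 := mul_ne_zero (pow_ne_zero _ hl0)
    (mul_ne_zero (inv_ne_zero (sub_ne_zero.2 hl)) hc0)
  have hα := huniq _ hrc hrc0 _ _ hψ₁ h2
  -- divide the two lifts
  have h3 := mul_mem (inv_mem h1) h2
  convert h3 using 1
  refine eq_inv_mul_of_mul_eq ?_
  rw [mul_assoc, tvu_mul hF]
  congr 1
  refine SU_ext fun x => ?_
  rw [tvu_mulVec, tvu_mulVec, hα]
  congr 2
  rw [hc1def]
  field_simp [sub_ne_zero.2 hl]
  ring

end Cfsg.Agent.Classical.Unitary.MinIndex
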