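import Cfsg.Agent.Lib.Classical.UnitaryMinIndex.Frame

/-!
# The orbits of the group generated by the transvections on vectors
-/

set_option autoImplicit false
set_option linter.unusedSectionVars false

namespace Cfsg.Agent.Classical.Unitary.MinIndex

open Matrix Cfsg.Agent.Forms Cfsg.Agent.Classical

variable {F : Type*} [Field F] [Fintype F] {q n : ℕ} (hF : Fintype.card F = q ^ 2)

local notation "Vec" => (Fin n → F)
local notation "H" => Cfsg.hermForm n F q

include hF

/-- A nonzero vector of given norm supported on the first two coordinates. -/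
theorem exists_low_vector (hn : 3 ≤ n) {c : F} (hc : c ^ q = c) :
    ∃ u : Vec, u ≠ 0 ∧ H u u = c ∧ u ⟨2, by omega⟩ = 0 := by
  by_cases hc0 : c = 0
  · obtain ⟨v, hv, hv1, -, hv2⟩ := exists_isotropic_pair hF (n := n) ⟨0, by omega⟩ ⟨1, by omega⟩
      (by simp [Fin.ext_iff])
    exact ⟨v, fun h0 => by simp [h0] at hv1, hv.trans hc0.symm,
      hv2 _ (by simp [Fin.ext_iff]) (by simp [Fin.ext_iff])⟩
  · obtain ⟨x, hx⟩ := UnitaryCount.exists_norm_eq hF hc0 hc
    refine ⟨x • Pi.single ⟨0, by omega⟩ 1, fun h0 => ?_, ?_, by simp [Fin.ext_iff]⟩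
    · have := congrFun h0 ⟨0, by omega⟩
      simp at this
      rw [this, zero_pow (by omega)] at hx
      exact hc0 hx.symm
    · rw [UnitaryCount.hermForm_smul_smul, H_single_single hF, if_pos rfl, mul_one, hx]

/-- The special unitary group is transitive on nonzero vectors of a given norm. -/
theorem exists_su_map (hn : 3 ≤ n) {v w : Vec} (hv : v ≠ 0) (hw : w ≠ 0) (h : H v v = H w w) :
    ∃ k : Cfsg.SU n F q, mat k *ᵥ v = w := by
  obtain ⟨u, hu0, huu, hu2⟩ := exists_low_vector hF hn (H_conj hF v v)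
  obtain ⟨g₁, hg₁⟩ := exists_gu_map hF hu0 hv huu
  obtain ⟨g₂, hg₂⟩ := exists_gu_map hF hu0 hw (huu.trans h)
  have h1 := HermStd.det_norm hF _ (GU_H g₁)
  have h2 := HermStd.det_norm hF _ (GU_H g₂)
  set δ := (gmat g₁).det * ((gmat g₂).det)⁻¹ with hδd
  have hδ : δ ^ (q + 1) = 1 := by rw [hδd, mul_pow, inv_pow, h1, h2, inv_one, mul_one]
  let d : Fin n → F := fun i => if i = ⟨2, by omega⟩ then δ else 1
  have hd : ∀ i, d i ^ (q + 1) = 1 := fun i => by simp only [d]; split_ifs <;> simp [hδ]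
  have hdu : gmat (diagGU hF d hd) *ᵥ u = u := by
    funext i
    rw [gmat_diagGU, Matrix.mulVec_diagonal]
    by_cases hi : i = ⟨2, by omega⟩
    · subst hi; simp [hu2]
    · simp [d, hi]
  have hdet : (gmat (g₂ * diagGU hF d hd * g₁⁻¹)).det = 1 := by
    have e : (gmat g₁⁻¹).det * (gmat g₁).det = 1 := by
      rw [← Matrix.det_mul, gmat_inv_mul, Matrix.det_one]
    have hD : (gmat (diagGU hF d hd)).det = δ := by
      rw [gmat_diagGU, Matrix.det_diagonal, Finset.prod_ite_eq']
      simp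
    rw [gmat_mul, gmat_mul, Matrix.det_mul, Matrix.det_mul, hD, hδd]
    have := det_ne_zero_of_preserves hF (GU_H g₂)
    field_simp
    linear_combination e
  refine ⟨suOfGU _ hdet, ?_⟩
  show gmat (g₂ * diagGU hF d hd * g₁⁻¹) *ᵥ v = w
  rw [gmul_mulVec, gmul_mulVec, ginv_mulVec g₁ hg₁, hdu, hg₂]

/-- A vector of given norm with a given product with a nonzero vector. -/
theorem exists_target (hn : 3 ≤ n) {b : Vec} (hb : b ≠ 0) {c τ : F} (hc : c ^ q = c) :
    ∃ z : Vec, z ≠ 0 ∧ H z z = c ∧ H z b = τ := by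
  by_cases hbb : H b b = 0
  · obtain ⟨Φ, rfl⟩ := exists_fr_at hF (m := n - 2) (by omega) hb hbb
    by_cases hτ : τ = 0
    · subst hτ
      by_cases hc0 : c = 0
      · exact ⟨Φ.u, hb, hbb.trans hc0.symm, hbb⟩
      obtain ⟨x, hx⟩ := UnitaryCount.exists_norm_eq hF hc0 hc
      refine ⟨Φ.ι (x • Pi.single ⟨0, by omega⟩ 1), fun h0 => ?_, ?_, Φ.iu _⟩
      · have e := Φ.ii (x • Pi.single ⟨0, by omega⟩ 1) (x • Pi.single ⟨0, by omega⟩ 1)
        rw [h0, H_zero_left, UnitaryCount.hermForm_smul_smul, H_single_single hF, if_pos rfl, mul_one,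
          hx] at e
        exact hc0 e.symm
      · rw [Φ.ii, UnitaryCount.hermForm_smul_smul, H_single_single hF, if_pos rfl, mul_one, hx]
    · obtain ⟨t, ht⟩ := exists_trace_eq hF hc
      refine ⟨(t / τ ^ q) • Φ.u + τ • Φ.s, fun h0 => hτ ?_, ?_, ?_⟩
      · have := congrArg (fun z => H z Φ.u) h0
        simp [H_add_left, H_smul_left, Φ.uu, Φ.su, H_zero_left] at this
        exact this
      · simp only [H_add_left, H_add_right hF, H_smul_left, H_smul_right, Φ.uu, Φ.ss, Φ.us, Φ.su,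
          div_pow, pow_qq hF]
        field_simp
        linear_combination (τ * τ ^ q) * ht
      · simp [H_add_left, H_smul_left, Φ.uu, Φ.su]
  · -- complete an orthogonal vector
    obtain ⟨r, hr⟩ := UnitaryCount.exists_norm_eq hF hbb (H_conj hF b b)
    have hr0 : r ≠ 0 := fun e => hbb (by rw [← hr, e, zero_pow (by omega)])
    set u : Vec := r • Pi.single ⟨0, by omega⟩ 1 with hud
    have hu0 : u ≠ 0 := fun h0 => by
      have := congrFun h0 ⟨0, by omega⟩
      simp [hud, hr0] at this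
    have huu : H u u = H b b := by
      rw [hud, UnitaryCount.hermForm_smul_smul, H_single_single hF, if_pos rfl, mul_one, hr]
    have hyu0 : ∀ p : Vec, p ⟨0, by omega⟩ = 0 → H p u = 0 := fun p hp => by
      rw [hud, H_smul_right, H_single_right hF, hp, mul_zero]
    obtain ⟨g, hg⟩ := exists_gu_map hF hu0 hb huu
    have hN : (τ / H b b) ^ (q + 1) * H b b = τ ^ (q + 1) / H b b := by
      rw [pow_succ, div_pow, H_conj hF, pow_succ]; field_simp
    have hc' : (c - τ ^ (q + 1) / H b b) ^ q = c - τ ^ (q + 1) / H b b := by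
      rw [← HermStd.qHom_apply hF, map_sub, map_div₀, HermStd.qHom_apply, HermStd.qHom_apply,
        HermStd.qHom_apply, hc, H_conj hF, pow_succ, mul_pow, pow_qq hF, mul_comm (τ : F)]
    -- an orthogonal vector of the remaining norm
    obtain ⟨y, hy0, hyy, hyu⟩ : ∃ y : Vec, y ≠ 0 ∧ H y y = c - τ ^ (q + 1) / H b b ∧ H y b = 0 := by
      by_cases hd : c - τ ^ (q + 1) / H b b = 0
      · obtain ⟨p, hp, hp1, -, hp2⟩ := exists_isotropic_pair hF (n := n) ⟨1, by omega⟩ ⟨2, by omega⟩
          (by simp [Fin.ext_iff])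
        refine ⟨gmat g *ᵥ p, fun h0 => ?_, by rw [GU_H, hp, hd], ?_⟩
        · have := congrArg (gmat g⁻¹ *ᵥ ·) h0
          rw [ginv_mulVec g rfl, Matrix.mulVec_zero] at this
          simp [this] at hp1
        · rw [← hg, GU_H]
          exact hyu0 p (hp2 _ (by simp [Fin.ext_iff]) (by simp [Fin.ext_iff]))
      · obtain ⟨x, hx⟩ := UnitaryCount.exists_norm_eq hF hd hc'
        have hef : ∀ e : Fin n, e = ⟨2, by omega⟩ →
            H (gmat g *ᵥ (x • Pi.single e 1)) b = 0 := by
          rintro e rfl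
          rw [← hg, GU_H]
          exact hyu0 _ (by simp [Fin.ext_iff])
        refine ⟨gmat g *ᵥ (x • Pi.single ⟨2, by omega⟩ 1), fun h0 => ?_, ?_, hef _ rfl⟩
        · have e := GU_H g (x • Pi.single ⟨2, by omega⟩ 1) (x • Pi.single ⟨2, by omega⟩ 1)
          rw [h0, H_zero_left, UnitaryCount.hermForm_smul_smul, H_single_single hF, if_pos rfl, mul_one,
            hx] at e
          exact hd e.symm
        · rw [GU_H, UnitaryCount.hermForm_smul_smul, H_single_single hF, if_pos rfl, mul_one, hx]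
    refine ⟨(τ / H b b) • b + y, fun h0 => ?_, ?_, ?_⟩
    · have := congrArg (fun z => H z b) h0
      simp only [H_add_left, H_smul_left, hyu, add_zero, H_zero_left, div_mul_cancel₀ _ hbb] at this
      rw [this, zero_div, zero_smul, zero_add] at h0
      exact hy0 h0
    · simp only [H_add_left, H_add_right hF, H_smul_left, H_smul_right, hyu, (H_eq_zero_comm hF).1 hyu,
        hyy, mul_zero, add_zero, zero_add]
      rw [← mul_assoc, ← pow_succ, hN]
      ring
    · rw [H_add_left, H_smul_left, hyu, add_zero, div_mul_cancel₀ _ hbb]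

theorem tv_step (hq : q = 2) {v w : Vec} (hv : H v v = 0) (hw : H w w = 0) (hvw : H v w = 1) :
    ∃ k ∈ tvGroup F q n, mat k *ᵥ v = w := by
  have h2 := two_eq_zero_of_two hF hq
  have hwv : H w v = 1 := by rw [← H_conj hF, hvw, one_pow]
  have hz : H (w - v) (w - v) = 0 := by
    simp only [H_sub_left, H_sub_right hF, hv, hw, hvw, hwv]
    linear_combination -h2
  have hc : (1 : F) + 1 ^ q = 0 := by rw [one_pow]; linear_combination h2
  refine ⟨_, tvu_mem hF hz hc, ?_⟩
  rw [tvu_mulVec, H_sub_right hF, hvw, hv, sub_zero, one_mul, one_smul, add_sub_cancel]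

theorem tv_two_step (hn : n = 3) (hq : q = 2) {v w : Vec} (hv : H v v = 0) (hw : H w w = 0)
    (hvw : H v w ≠ 0) : ∃ k ∈ tvGroup F q n, mat k *ᵥ v = w := by
  set η := H v w
  obtain ⟨Φ, hu, hs⟩ := exists_fr hF (m := 1) (by omega) hv (s := (η ^ q)⁻¹ • w)
    (by rw [UnitaryCount.hermForm_smul_smul, hw, mul_zero])
    (by rw [H_smul_right, inv_pow, pow_qq hF, inv_mul_cancel₀ hvw])
  obtain ⟨y, hy⟩ := UnitaryCount.exists_norm_eq' hF (μ := -(η⁻¹ + η⁻¹ ^ q)) (by
    rw [← HermStd.qHom_apply hF, map_neg, map_add, HermStd.qHom_apply, HermStd.qHom_apply, pow_qq hF,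
      add_comm])
  set z := η⁻¹ • Φ.u + Φ.s + Φ.ι (y • Pi.single 0 1) with hz
  have hzz : H z z = 0 := by
    simp only [hz, H_add_left, H_add_right hF, H_smul_left, H_smul_right, Φ.uu, Φ.ss, Φ.us, Φ.su, Φ.iu,
      Φ.iss, Φ.ui hF, Φ.si hF, map_smul, Φ.ii, H_single_single hF, if_pos]
    linear_combination hy
  have hw' : w = η ^ q • Φ.s := by
    rw [hs, smul_smul, mul_inv_cancel₀ (pow_ne_zero _ hvw), one_smul]
  have hvz : H v z = 1 := by
    rw [← hu, hz]; simp [H_add_right hF, H_smul_right, Φ.uu, Φ.us, Φ.ui hF]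
  have hzw : H z w = 1 := by
    rw [hw', hz, H_smul_right, pow_qq hF]
    simp [H_add_left, H_smul_left, Φ.us, Φ.ss, Φ.iss, hvw]
  obtain ⟨k₁, h₁, e₁⟩ := tv_step hF hq hv hzz hvz
  obtain ⟨k₂, h₂, e₂⟩ := tv_step hF hq hzz hw hzw
  exact ⟨k₂ * k₁, mul_mem h₂ h₁, by rw [mul_mulVec, e₁, e₂]⟩

/-- The orbits of the group generated by the transvections. -/
theorem exists_tv_map (hn : 3 ≤ n) {v w : Vec} (hv : v ≠ 0) (hw : w ≠ 0) (h : H v v = H w w)
    (hex : n = 3 → q = 2 → H v v = 0) : ∃ k ∈ tvGroup F q n, mat k *ᵥ v = w := by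
  by_cases hbad : n = 3 ∧ q = 2
  · obtain ⟨hn3, hq⟩ := hbad
    have hvv := hex hn3 hq
    have hww : H w w = 0 := by rw [← h, hvv]
    by_cases hη : H v w = 0
    · obtain ⟨Φ, rfl⟩ := exists_fr_at hF (m := 1) (by omega) hv hvv
      have hwu : H w Φ.u = 0 := (H_eq_zero_comm hF).1 hη
      have hw' := Φ.decomp' w
      rw [hwu, zero_smul, add_zero] at hw'
      have hy : Φ.π w = 0 := by
        have e := hww
        rw [hw'] at e
        simp only [H_add_left, H_add_right hF, H_smul_left, H_smul_right, Φ.uu, Φ.iu, Φ.ui hF, Φ.ii,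
          mul_zero, zero_add, add_zero] at e
        funext i
        have hi : i = 0 := Subsingleton.elim _ _
        subst hi
        have : Φ.π w 0 * Φ.π w 0 ^ q = 0 := by simpa [Cfsg.hermForm] using e
        rcases mul_eq_zero.1 this with h' | h'
        · exact h'
        · exact pow_eq_zero_iff (q_ne_zero hF) |>.1 h'
      rw [hy, map_zero, add_zero] at hw'
      have ha : H Φ.s w ≠ 0 := fun e => hw (by
        rw [hw', ← H_conj hF, e, zero_pow (q_ne_zero hF), zero_smul])
      obtain ⟨k₁, h₁, e₁⟩ := tv_step hF hq Φ.uu Φ.ss Φ.us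
      obtain ⟨k₂, h₂, e₂⟩ := tv_two_step hF hn3 hq Φ.ss hww ha
      exact ⟨k₂ * k₁, mul_mem h₂ h₁, by rw [mul_mulVec, e₁, e₂]⟩
    · exact tv_two_step hF hn3 hq hvv hww hη
  · obtain ⟨k, hk⟩ := exists_su_map hF hn hv hw h
    exact ⟨k, by rw [tvGroup_eq_top hF (by omega) hbad]; trivial, hk⟩

end Cfsg.Agent.Classical.Unitary.MinIndex
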