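import Cfsg.Agent.Lib.Classical.UnitaryMinIndex.Count
import Cfsg.Agent.Lib.Classical.UnitaryMinIndex.Orbit

/-!
# The index of a subgroup fixing a point
-/

set_option autoImplicit false
set_option linter.unusedSectionVars false

namespace Cfsg.Agent.Classical.Unitary.MinIndex

open Matrix Cfsg.Agent.Forms Cfsg.Agent.Classical

variable {F : Type*} [Field F] [Fintype F] {q n : ℕ} (hF : Fintype.card F = q ^ 2)

local notation "Vec" => (Fin n → F)
local notation "Hn" => Cfsg.hermForm n F q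

/-- The least index of a proper subgroup of `SU n q`, apart from small degrees. -/
def Bd (q n : ℕ) : ℕ :=
  if Even n then
    if q = 2 then 2 ^ (n - 1) * (2 ^ n - 1) / 3 else (q ^ n - 1) * (q ^ (n - 1) + 1) / (q ^ 2 - 1)
  else (q ^ n + 1) * (q ^ (n - 1) - 1) / (q ^ 2 - 1)

/-- The subgroup fixing a line. -/
def lineStab (hF : Fintype.card F = q ^ 2) (e : Vec) : Subgroup (Cfsg.SU n F q) where
  carrier := {g | ∃ μ : F, μ ≠ 0 ∧ mat g *ᵥ e = μ • e}
  one_mem' := ⟨1, one_ne_zero, by rw [mat_one, one_mulVec, one_smul]⟩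
  mul_mem' := by
    rintro a b ⟨μ, hμ0, hμ⟩ ⟨ν, hν0, hν⟩
    exact ⟨ν * μ, mul_ne_zero hν0 hμ0, by rw [mul_mulVec, hν, Matrix.mulVec_smul, hμ, smul_smul]⟩
  inv_mem' := by
    rintro a ⟨μ, hμ0, hμ⟩
    refine ⟨μ⁻¹, inv_ne_zero hμ0, inv_mulVec a ?_⟩
    rw [Matrix.mulVec_smul, hμ, inv_smul_smul₀ hμ0]

include hF

theorem le_lineStab {e : Vec} (he : e ≠ 0) {K : Subgroup (Cfsg.SU n F q)}
    (h : ∀ g ∈ K, ∃ μ : F, mat g *ᵥ e = μ • e) : K ≤ lineStab hF e := fun g hg => by
  obtain ⟨μ, hμ⟩ := h g hg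
  exact ⟨μ, fun h0 => mat_mulVec_ne_zero g he (by rw [hμ, h0, zero_smul]), hμ⟩

/-- The index of the stabiliser of an isotropic point. -/
theorem index_lineStab_iso {e : Vec} (he : e ≠ 0) (hee : Hn e e = 0) :
    (lineStab hF e).index = Nat.card (IsoPt F q n) := by
  have := su_isPretransitive (n := n) hF
  rw [← MulAction.index_stabilizer_of_transitive (Cfsg.SU n F q) (pt e he hee)]
  congr 1
  ext g
  rw [MulAction.mem_stabilizer_iff, smul_pt, pt_eq_pt]
  constructor
  · rintro ⟨μ, -, hμ⟩; exact ⟨μ, hμ.symm⟩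
  · rintro ⟨μ, hμ⟩
    exact ⟨μ, fun h0 => mat_mulVec_ne_zero g he (by rw [← hμ, h0, zero_smul]), hμ.symm⟩

/-- The index of the stabiliser of an anisotropic point. -/
theorem index_lineStab_aniso (hn : 3 ≤ n) {e : Vec} (hee : Hn e e ≠ 0) :
    (lineStab hF e).index * (q + 1) = UnitaryCount.cnt F q n 1 := by
  classical
  set c := Hn e e with hc
  have he : e ≠ 0 := fun h0 => hee (by rw [hc, h0, H_zero_left])
  -- the stabiliser of the vector
  let S : Subgroup (Cfsg.SU n F q) :=
    { carrier := {g | mat g *ᵥ e = e}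
      one_mem' := by simp [mat_one]
      mul_mem' := fun {a b} (ha : _ = _) (hb : _ = _) => show _ = _ by rw [mul_mulVec, hb, ha]
      inv_mem' := fun {a} (ha : _ = _) => inv_mulVec a ha }
  have hS : S.index = UnitaryCount.cnt F q n 1 := by
    rw [← UnitaryCount.cnt_eq_one hF hee (H_conj hF e e)]
    let f : Cfsg.SU n F q ⧸ S → {v : Vec // Hn v v = c} := fun x =>
      Quotient.liftOn' x (fun g => ⟨mat g *ᵥ e, by rw [SU_H]⟩) fun a b hab => by
        rw [QuotientGroup.leftRel_apply] at hab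
        refine Subtype.ext ?_
        show mat a *ᵥ e = mat b *ᵥ e
        conv_rhs => rw [← mul_inv_cancel_left a b, mul_mulVec, show mat (a⁻¹ * b) *ᵥ e = e from hab]
    have hf : Function.Bijective f := by
      constructor
      · intro x y
        refine Quotient.inductionOn₂' x y fun a b h => Quotient.sound' ?_
        rw [QuotientGroup.leftRel_apply]
        show mat (a⁻¹ * b) *ᵥ e = e
        have h' : mat a *ᵥ e = mat b *ᵥ e := congrArg Subtype.val h
        rw [mul_mulVec, ← h', ← mul_mulVec, inv_mul_cancel, mat_one, one_mulVec]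
      · rintro ⟨v, hv⟩
        obtain ⟨k, hk⟩ := exists_su_map hF hn he (w := v) (fun h0 => hee (by rw [← hv, h0, H_zero_left]))
          (by rw [hv])
        exact ⟨Quotient.mk'' k, Subtype.ext hk⟩
    rw [Subgroup.index, Nat.card_eq_of_bijective f hf]
    rfl
  -- the scalars
  have hle : S ≤ lineStab hF e := fun g hg => ⟨1, one_ne_zero, by rw [one_smul]; exact hg⟩
  have hrel : S.relIndex (lineStab hF e) = q + 1 := by
    rw [Subgroup.relIndex, Subgroup.index]
    have hspec : ∀ g : lineStab hF e, ∃ μ : (powMonoidHom (q + 1) : Fˣ →* Fˣ).ker,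
        mat g.1 *ᵥ e = ((μ.1 : Fˣ) : F) • e := by
      rintro ⟨g, μ, hμ0, hμ⟩
      refine ⟨⟨Units.mk0 μ hμ0, ?_⟩, hμ⟩
      refine MonoidHom.mem_ker.2 (Units.ext ?_)
      show μ ^ (q + 1) = 1
      have := SU_H g e e
      rw [hμ, UnitaryCount.hermForm_smul_smul] at this
      exact mul_right_cancel₀ hee (this.trans (one_mul _).symm)
    choose χ hχ using hspec
    let f : lineStab hF e ⧸ S.subgroupOf (lineStab hF e) → (powMonoidHom (q + 1) : Fˣ →* Fˣ).ker :=
      fun x => Quotient.liftOn' x χ fun a b hab => by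
        rw [QuotientGroup.leftRel_apply, Subgroup.mem_subgroupOf] at hab
        have h1 : mat b.1 *ᵥ e = mat a.1 *ᵥ e := by
          rw [← mul_inv_cancel_left a b, Subgroup.coe_mul, mul_mulVec,
            show mat (a⁻¹ * b).1 *ᵥ e = e from hab]
        rw [hχ, hχ] at h1
        exact Subtype.ext (Units.ext (smul_left_injective F he h1).symm)
    have hf : Function.Bijective f := by
      constructor
      · intro x y
        refine Quotient.inductionOn₂' x y fun a b h => Quotient.sound' ?_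
        rw [QuotientGroup.leftRel_apply, Subgroup.mem_subgroupOf]
        show mat (a.1⁻¹ * b.1) *ᵥ e = e
        rw [mul_mulVec]
        refine inv_mulVec a.1 ?_
        rw [hχ, hχ, show χ a = χ b from h]
      · intro μ
        have hN : ((μ.1 : Fˣ) : F) ^ (q + 1) = 1 := by
          rw [← Units.val_pow_eq_pow_val, show μ.1 ^ (q + 1) = 1 from μ.2, Units.val_one]
        obtain ⟨k, hk⟩ := exists_su_map hF hn he (w := ((μ.1 : Fˣ) : F) • e)
          (smul_ne_zero μ.1.ne_zero he) (by rw [UnitaryCount.hermForm_smul_smul, hN, one_mul])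
        refine ⟨Quotient.mk'' ⟨k, _, μ.1.ne_zero, hk⟩, Subtype.ext (Units.ext ?_)⟩
        exact smul_left_injective F he ((hχ ⟨k, _, μ.1.ne_zero, hk⟩).symm.trans hk)
    rw [Nat.card_eq_of_bijective f hf, natCard_normOne hF]
  rw [← hS, ← hrel, mul_comm, Subgroup.relIndex_mul_index hle]

theorem Bd_le_iso : Bd q n ≤ Nat.card (IsoPt F q n) := by
  have hq := HermStd.one_lt_q hF
  have hpos : 0 < q ^ 2 - 1 := by
    have : 2 ^ 2 ≤ q ^ 2 := Nat.pow_le_pow_left hq 2
    omega
  unfold Bd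
  by_cases he : Even n
  · rw [if_pos he]
    have := natCard_isoPt_even hF he
    by_cases h2 : q = 2
    · subst h2
      rw [if_pos rfl]
      norm_num at this ⊢
      refine Nat.div_le_of_le_mul ?_
      rw [mul_comm 3, this, mul_comm]
      exact Nat.mul_le_mul_left _ (Nat.le_succ _)
    · rw [if_neg h2]
      exact Nat.div_le_of_le_mul (by rw [← this, mul_comm])
  · rw [if_neg he]
    exact Nat.div_le_of_le_mul (by rw [← natCard_isoPt_odd hF (Nat.not_even_iff_odd.1 he), mul_comm])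

theorem Bd_le_aniso (hn : 3 ≤ n) : Bd q n * (q + 1) ≤ UnitaryCount.cnt F q n 1 := by
  have hq := HermStd.one_lt_q hF
  have hsq : q ^ 2 - 1 = (q - 1) * (q + 1) := by
    rw [mul_comm]; simpa using Nat.sq_sub_sq q 1
  obtain ⟨k, rfl⟩ : ∃ k, n = k + 1 := ⟨n - 1, by omega⟩
  rw [UnitaryCount.cnt_one_eq hF, Bd]
  simp only [Nat.add_sub_cancel]
  have key : ∀ a b : ℕ, a ≤ (q - 1) * (q ^ k) → a * b / (q ^ 2 - 1) * (q + 1) ≤ q ^ k * b := by
    intro a b hab
    have h1 : a * b / (q ^ 2 - 1) * (q + 1) * (q - 1) ≤ q ^ k * b * (q - 1) := by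
      rw [mul_assoc, mul_comm (q + 1), ← hsq]
      refine (Nat.div_mul_le_self _ _).trans ?_
      rw [mul_comm (q ^ k), mul_assoc, mul_comm a, mul_comm (q ^ k)]
      exact Nat.mul_le_mul_left _ hab
    exact Nat.le_of_mul_le_mul_right h1 (by omega)
  have hqk : q ≤ q ^ k := Nat.le_self_pow (by omega) q
  by_cases he : Even (k + 1)
  · rw [if_pos he, if_pos he]
    by_cases h2 : q = 2
    · subst h2
      rw [if_pos rfl]
      exact Nat.div_mul_le_self _ _
    · rw [if_neg h2, mul_comm (q ^ (k + 1) - 1)]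
      refine key _ _ ?_
      have : 2 * q ^ k ≤ (q - 1) * q ^ k := Nat.mul_le_mul_right _ (by omega)
      omega
  · rw [if_neg he, if_neg he, mul_comm (q ^ (k + 1) + 1)]
    refine key _ _ ?_
    have : 1 * q ^ k ≤ (q - 1) * q ^ k := Nat.mul_le_mul_right _ (by omega)
    omega

/-- A subgroup that fixes a point has large index. -/
theorem Bd_le_index (hn : 3 ≤ n) {K : Subgroup (Cfsg.SU n F q)} {e : Vec} (he : e ≠ 0)
    (h : ∀ g ∈ K, ∃ μ : F, mat g *ᵥ e = μ • e) : Bd q n ≤ K.index := by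
  classical
  refine le_trans ?_ (Nat.le_of_dvd (Nat.pos_of_ne_zero K.index_ne_zero_of_finite)
    (Subgroup.index_dvd_of_le (le_lineStab hF he h)))
  by_cases hee : Hn e e = 0
  · rw [index_lineStab_iso hF he hee]; exact Bd_le_iso hF
  · refine Nat.le_of_mul_le_mul_right ?_ (by omega : 0 < q + 1)
    rw [index_lineStab_aniso hF hn hee]
    exact Bd_le_aniso hF hn

end Cfsg.Agent.Classical.Unitary.MinIndex
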