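import Cfsg.Agent.Lib.Classical.UnitaryMinIndex.Frame

/-!
# The stabiliser of an isotropic point in a subgroup of `SU n q`

The kernel of the action on the residual space gives an additive group `Xs` of residual vectors and an additive
group `Zs` of parameters of transvections; the order of the stabiliser is at most the product of the orders of
these with the sizes of the two images.
-/

set_option autoImplicit false
set_option linter.unusedSectionVars false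

namespace Cfsg.Agent.Classical.Unitary.MinIndex

open Matrix Cfsg.Agent.Forms Cfsg.Agent.Classical

variable {F : Type*} [Field F] [Fintype F] {q n m : ℕ} (hF : Fintype.card F = q ^ 2)

local notation "Vec" => (Fin n → F)
local notation "Wc" => (Fin m → F)
local notation "Hn" => Cfsg.hermForm n F q
local notation "Hm" => Cfsg.hermForm m F q
local notation "G" => Cfsg.SU n F q

variable (Φ : Fr F q n m)

/-- The map induced on the residual space. -/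
def Fr.Amat (g : G) : Matrix (Fin m) (Fin m) F :=
  LinearMap.toMatrix' (Φ.π.comp ((Matrix.mulVecLin (mat g)).comp Φ.ι))

theorem Fr.Amat_mulVec (g : G) (x : Wc) : Φ.Amat g *ᵥ x = Φ.π (mat g *ᵥ Φ.ι x) := by
  rw [Fr.Amat, LinearMap.toMatrix'_mulVec]; rfl

include hF

theorem mu_ne {g : G} {μ : F} (hg : mat g *ᵥ Φ.u = μ • Φ.u) : μ ≠ 0 := fun e =>
  mat_mulVec_ne_zero g Φ.u_ne (by rw [hg, e, zero_smul])

theorem Fr.move_ι {g : G} {μ : F} (hg : mat g *ᵥ Φ.u = μ • Φ.u) (x : Wc) :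
    ∃ c : F, mat g *ᵥ Φ.ι x = c • Φ.u + Φ.ι (Φ.Amat g *ᵥ x) := by
  refine ⟨Hn (mat g *ᵥ Φ.ι x) Φ.s, ?_⟩
  have h0 : Hn (mat g *ᵥ Φ.ι x) Φ.u = 0 := by
    have := SU_H g (Φ.ι x) Φ.u
    rw [hg, H_smul_right, Φ.iu] at this
    exact (mul_eq_zero.1 this).resolve_left (pow_ne_zero _ (mu_ne hF Φ hg))
  conv_lhs => rw [Φ.decomp' (mat g *ᵥ Φ.ι x)]
  rw [h0, zero_smul, add_zero, Φ.Amat_mulVec]

theorem Fr.Amat_preserves {g : G} {μ : F} (hg : mat g *ᵥ Φ.u = μ • Φ.u) (x y : Wc) :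
    Hm (Φ.Amat g *ᵥ x) (Φ.Amat g *ᵥ y) = Hm x y := by
  obtain ⟨c, hc⟩ := Φ.move_ι hF hg x
  obtain ⟨d, hd⟩ := Φ.move_ι hF hg y
  have e := SU_H g (Φ.ι x) (Φ.ι y)
  rw [hc, hd] at e
  simpa [H_add_left, H_add_right hF, H_smul_left, H_smul_right, Φ.uu, Φ.iu, Φ.ui hF, Φ.ii] using e

theorem Fr.decompose {g : G} {μ : F} (hg : mat g *ᵥ Φ.u = μ • Φ.u) :
    mat g = Φ.EM (μ ^ q • Φ.π (mat g *ᵥ Φ.s)) (μ ^ q * Hn (mat g *ᵥ Φ.s) Φ.s) *
      Φ.XM (Φ.Amat g) * Φ.TM μ := by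
  have hμ := mu_ne hF Φ hg
  have hμq : μ ^ q ≠ 0 := pow_ne_zero _ hμ
  have hgsu : Hn (mat g *ᵥ Φ.s) Φ.u = (μ ^ q)⁻¹ := by
    have := SU_H g Φ.s Φ.u
    rw [hg, H_smul_right, Φ.su] at this
    exact eq_inv_of_mul_eq_one_right this
  refine Φ.mat_eq hF ?_ ?_ (fun x => ?_) <;> simp only [← Matrix.mulVec_mulVec]
  · rw [Φ.TM_u hF, Matrix.mulVec_smul, Φ.XM_u hF, Matrix.mulVec_smul, Φ.EM_u hF, hg]
  · rw [Φ.TM_s hF, Matrix.mulVec_smul, Φ.XM_s hF, Matrix.mulVec_smul, Φ.EM_s hF]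
    conv_lhs => rw [Φ.decomp' (mat g *ᵥ Φ.s)]
    rw [hgsu, map_smul, smul_add, smul_add, smul_smul, smul_smul, ← mul_assoc, inv_mul_cancel₀ hμq,
      one_mul, one_smul]
    abel
  · rw [Φ.TM_ι hF, Φ.XM_ι hF, Φ.EM_ι hF]
    obtain ⟨c, hc⟩ := Φ.move_ι hF hg x
    have e := SU_H g (Φ.ι x) Φ.s
    have hug : Hn Φ.u (mat g *ᵥ Φ.s) = μ⁻¹ := by rw [← H_conj hF, hgsu, inv_pow, pow_qq hF]
    rw [hc, H_add_left, H_smul_left, hug, Φ.ι_h hF, Φ.iss] at e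
    rw [H_smul_right, pow_qq hF, hc]
    have hc' : c = -(μ * Hm (Φ.Amat g *ᵥ x) (Φ.π (mat g *ᵥ Φ.s))) := by
      field_simp at e
      linear_combination e
    rw [hc']
    module

theorem Fr.det_Amat {g : G} {μ : F} (hg : mat g *ᵥ Φ.u = μ • Φ.u) :
    (Φ.Amat g).det * (μ * (μ ^ q)⁻¹) = 1 := by
  have e := congrArg Matrix.det (Φ.decompose hF hg)
  rw [Matrix.det_mul, Matrix.det_mul, Φ.det_EM hF, Φ.det_XM hF, Φ.det_TM hF, one_mul] at e
  rw [← e]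
  exact g.1.2

theorem Fr.Amat_det_one {g : G} (hg : mat g *ᵥ Φ.u = Φ.u) : (Φ.Amat g).det = 1 := by
  have := Φ.det_Amat hF (g := g) (μ := 1) (by rw [one_smul, hg])
  simpa using this

theorem Fr.TM_one : Φ.TM 1 = 1 := by
  refine Φ.mat_eq hF ?_ ?_ (fun x => ?_) <;> rw [one_mulVec]
  · rw [Φ.TM_u hF, one_smul]
  · rw [Φ.TM_s hF]; simp
  · rw [Φ.TM_ι hF]

theorem Fr.XM_one : Φ.XM 1 = 1 := by
  refine Φ.mat_eq hF ?_ ?_ (fun x => ?_) <;> rw [one_mulVec]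
  · rw [Φ.XM_u hF]
  · rw [Φ.XM_s hF]
  · rw [Φ.XM_ι hF, one_mulVec]

theorem Fr.decompose_one {g : G} (hg : mat g *ᵥ Φ.u = Φ.u) :
    mat g = Φ.EM (Φ.π (mat g *ᵥ Φ.s)) (Hn (mat g *ᵥ Φ.s) Φ.s) * Φ.XM (Φ.Amat g) := by
  have := Φ.decompose hF (g := g) (μ := 1) (by rw [one_smul, hg])
  rwa [one_pow, one_smul, one_mul, Φ.TM_one hF, Matrix.mul_one] at this

theorem Fr.Amat_EM {g : G} {w : Wc} {a : F} (hg : mat g = Φ.EM w a) : Φ.Amat g = 1 := by
  refine mat_ext fun x => ?_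
  rw [Φ.Amat_mulVec, hg, Φ.EM_ι hF, map_sub, map_smul, Φ.π_u hF, smul_zero, sub_zero, Φ.π_ι hF,
    one_mulVec]

theorem Fr.eq_EM {g : G} (hg : mat g *ᵥ Φ.u = Φ.u) (hA : Φ.Amat g = 1) :
    mat g = Φ.EM (Φ.π (mat g *ᵥ Φ.s)) (Hn (mat g *ᵥ Φ.s) Φ.s) := by
  conv_lhs => rw [Φ.decompose_one hF hg, hA, Φ.XM_one hF, Matrix.mul_one]

/-- Conjugation of a unipotent element by an element fixing the point. -/
theorem Fr.conj_EM {g e : G} {μ : F} (hg : mat g *ᵥ Φ.u = μ • Φ.u) {w : Wc} {a : F}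
    (he : mat e = Φ.EM w a) :
    ∃ a', mat (g * e * g⁻¹) = Φ.EM (μ ^ q • (Φ.Amat g *ᵥ w)) a' := by
  have hμ := mu_ne hF Φ hg
  have hgi : mat g⁻¹ *ᵥ Φ.u = μ⁻¹ • Φ.u := by
    have := inv_mulVec g hg
    rw [Matrix.mulVec_smul] at this
    conv_rhs => rw [← this, inv_smul_smul₀ hμ]
  set k := g * e * g⁻¹ with hk
  have hku : mat k *ᵥ Φ.u = Φ.u := by
    rw [hk, mul_mulVec, hgi, mul_mulVec, Matrix.mulVec_smul, he, Φ.EM_u hF, Matrix.mulVec_smul, hg,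
      smul_smul, inv_mul_cancel₀ hμ, one_smul]
  have hgy : ∀ y, mat g *ᵥ (mat g⁻¹ *ᵥ y) = y := fun y => by
    rw [← mul_mulVec, mul_inv_cancel, mat_one, one_mulVec]
  have hky : ∀ y, mat k *ᵥ y = y + Hn (mat g⁻¹ *ᵥ y) Φ.u • (mat g *ᵥ Φ.ι w + (a * μ) • Φ.u) -
      (Hn (mat g⁻¹ *ᵥ y) (Φ.ι w) * μ) • Φ.u := by
    intro y
    rw [hk, mul_mulVec, mul_mulVec, he, Φ.EM_mulVec, Matrix.mulVec_add, hgy]
    simp only [Matrix.mulVec_add, Matrix.mulVec_smul, Matrix.mulVec_neg, hg]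
    module
  have hpair : ∀ y, Hn (mat g⁻¹ *ᵥ y) Φ.u = μ ^ q * Hn y Φ.u := by
    intro y
    conv_rhs => rw [← hgy y]
    have := SU_H g (mat g⁻¹ *ᵥ y) Φ.u
    rw [hg, H_smul_right] at this
    rw [this]
  have hA : Φ.Amat k = 1 := by
    refine mat_ext fun x => ?_
    rw [Φ.Amat_mulVec, hky, hpair, Φ.iu, mul_zero, zero_smul, add_zero, map_sub, map_smul, Φ.π_u hF,
      smul_zero, sub_zero, Φ.π_ι hF, one_mulVec]
  have hw : Φ.π (mat k *ᵥ Φ.s) = μ ^ q • (Φ.Amat g *ᵥ w) := by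
    rw [hky, hpair, Φ.su, mul_one, map_sub, map_add, map_smul, map_add, map_smul, map_smul,
      Φ.π_u hF, smul_zero, smul_zero, Φ.π_s hF, zero_add, add_zero, sub_zero, Φ.Amat_mulVec]
  exact ⟨_, hw ▸ Φ.eq_EM hF hku hA⟩

theorem Fr.EM_inv {g : G} {w : Wc} {a : F} (hg : mat g = Φ.EM w a) :
    mat g⁻¹ = Φ.EM (-w) (-a - Hm w w) := by
  have h1 : Φ.EM w a * Φ.EM (-w) (-a - Hm w w) = 1 := by
    rw [Φ.EM_mul hF, add_neg_cancel, H_neg_left, ← Φ.EM_one hF]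
    congr 1
    ring
  calc mat g⁻¹ = mat g⁻¹ * (Φ.EM w a * Φ.EM (-w) (-a - Hm w w)) := by rw [h1, Matrix.mul_one]
    _ = _ := by rw [← Matrix.mul_assoc, ← hg, ← mat_mul, inv_mul_cancel, mat_one, Matrix.one_mul]

/-- The additive group of trace zero elements. -/
def skewF : AddSubgroup F where
  carrier := {a | a + a ^ q = 0}
  zero_mem' := by simp [zero_pow (q_ne_zero hF)]
  add_mem' {a b} ha hb := by
    simp only [Set.mem_setOf_eq] at ha hb ⊢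
    rw [HermStd.add_pow_q hF]
    linear_combination ha + hb
  neg_mem' {a} ha := by
    simp only [Set.mem_setOf_eq] at ha ⊢
    rw [← HermStd.qHom_apply hF, map_neg, HermStd.qHom_apply]
    linear_combination -ha

theorem mem_skewF {a : F} : a ∈ skewF hF ↔ a + a ^ q = 0 := Iff.rfl

theorem mul_mem_skewF {r a : F} (hr : r ^ q = r) (ha : a ∈ skewF hF) : r * a ∈ skewF hF := by
  rw [mem_skewF, mul_pow, hr] at *
  linear_combination r * ha

theorem natCard_skewF : Nat.card (skewF hF) = q := by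
  obtain ⟨δ, hδ0, hδ⟩ := exists_traceZero hF
  refine (Nat.card_congr ?_).trans (natCard_fixField hF)
  refine
    { toFun := fun a => ⟨a.1 / δ, by
        rw [mem_fixField, div_pow, show δ ^ q = -δ from eq_neg_of_add_eq_zero_right hδ,
          show (a.1) ^ q = -a.1 from eq_neg_of_add_eq_zero_right a.2, neg_div_neg_eq]⟩
      invFun := fun r => ⟨r.1 * δ, mul_mem_skewF hF r.2 hδ⟩
      left_inv := fun a => Subtype.ext (div_mul_cancel₀ _ hδ0)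
      right_inv := fun r => Subtype.ext (mul_div_cancel_right₀ _ hδ0) }

variable (K : Subgroup (Cfsg.SU n F q))

/-- The parameters of the transvections at `u` in the subgroup. -/
def Zs : AddSubgroup F where
  carrier := {a | ∃ g : G, g ∈ K ∧ mat g = Φ.EM 0 a}
  zero_mem' := ⟨1, one_mem _, by rw [Φ.EM_one hF, mat_one]⟩
  add_mem' := by
    rintro a b ⟨g, hg, hga⟩ ⟨k, hk, hkb⟩
    exact ⟨g * k, mul_mem hg hk, by rw [mat_mul, hga, hkb, Φ.EM_mul hF]; simp [H_zero_left]⟩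
  neg_mem' := by
    rintro a ⟨g, hg, hga⟩
    exact ⟨g⁻¹, inv_mem hg, by rw [Φ.EM_inv hF hga]; simp [H_zero_left]⟩

/-- The residual vectors of the unipotent elements at `u` in the subgroup. -/
def Xs : AddSubgroup Wc where
  carrier := {w | ∃ a, ∃ g : G, g ∈ K ∧ mat g = Φ.EM w a}
  zero_mem' := ⟨0, 1, one_mem _, by rw [Φ.EM_one hF, mat_one]⟩
  add_mem' := by
    rintro v w ⟨a, g, hg, hga⟩ ⟨b, k, hk, hkb⟩
    exact ⟨_, g * k, mul_mem hg hk, by rw [mat_mul, hga, hkb, Φ.EM_mul hF]⟩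
  neg_mem' := by
    rintro w ⟨a, g, hg, hga⟩
    exact ⟨_, g⁻¹, inv_mem hg, Φ.EM_inv hF hga⟩

theorem mem_Zs {a : F} : a ∈ Zs hF Φ K ↔ ∃ g : G, g ∈ K ∧ mat g = Φ.EM 0 a := Iff.rfl

theorem mem_Xs {w : Wc} : w ∈ Xs hF Φ K ↔ ∃ a, ∃ g : G, g ∈ K ∧ mat g = Φ.EM w a := Iff.rfl

theorem Zs_le : Zs hF Φ K ≤ skewF hF := by
  rintro a ⟨g, -, hg⟩
  have := Φ.trace_of_preserves hF hg
  rw [H_zero_left, neg_zero] at this
  exact this

/-- Two elements with the same residual vector differ by a transvection. -/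
theorem sub_mem_Zs {w : Wc} {a b : F} {g k : G} (hg : g ∈ K) (hk : k ∈ K) (hga : mat g = Φ.EM w a)
    (hkb : mat k = Φ.EM w b) : a - b ∈ Zs hF Φ K := by
  refine ⟨g * k⁻¹, mul_mem hg (inv_mem hk), ?_⟩
  rw [mat_mul, hga, Φ.EM_inv hF hkb, Φ.EM_mul hF, add_neg_cancel, H_neg_left]
  congr 1
  ring

theorem comm_mem_Zs {v w : Wc} (hv : v ∈ Xs hF Φ K) (hw : w ∈ Xs hF Φ K) :
    Hm v w - Hm w v ∈ Zs hF Φ K := by
  obtain ⟨a, g, hg, hga⟩ := hv
  obtain ⟨b, k, hk, hkb⟩ := hw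
  have h1 : mat (g * k) = Φ.EM (v + w) (a + b - Hm w v) := by rw [mat_mul, hga, hkb, Φ.EM_mul hF]
  have h2 : mat (k * g) = Φ.EM (v + w) (b + a - Hm v w) := by
    rw [mat_mul, hga, hkb, Φ.EM_mul hF, add_comm w v]
  have := sub_mem_Zs hF Φ K (mul_mem hg hk) (mul_mem hk hg) h1 h2
  convert this using 1
  ring

theorem Xs_invariant {g : G} (hgK : g ∈ K) {μ : F} (hg : mat g *ᵥ Φ.u = μ • Φ.u) {w : Wc}
    (hw : w ∈ Xs hF Φ K) : μ ^ q • (Φ.Amat g *ᵥ w) ∈ Xs hF Φ K := by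
  obtain ⟨a, e, he, hea⟩ := hw
  obtain ⟨a', ha'⟩ := Φ.conj_EM hF hg hea
  exact ⟨a', g * e * g⁻¹, mul_mem (mul_mem hgK he) (inv_mem hgK), ha'⟩

theorem tvu_mem_iff {a : F} (ha : a + a ^ q = 0) :
    tvu hF Φ.uu ha ∈ K ↔ a ∈ Zs hF Φ K := by
  have e : mat (tvu hF Φ.uu ha) = Φ.EM 0 a := by rw [Φ.EM_zero hF]; rfl
  refine ⟨fun hm => ⟨_, hm, e⟩, ?_⟩
  rintro ⟨g, hg, hga⟩
  rwa [show tvu hF Φ.uu ha = g from SU_ext fun x => by rw [e, hga]]

theorem Zs_invariant {g : G} (hgK : g ∈ K) {μ : F} (hg : mat g *ᵥ Φ.u = μ • Φ.u) {a : F}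
    (ha : a ∈ Zs hF Φ K) : μ ^ (q + 1) * a ∈ Zs hF Φ K := by
  have hat : a + a ^ q = 0 := Zs_le hF Φ K ha
  have hw : Hn (μ • Φ.u) (μ • Φ.u) = 0 := by rw [H_smul_left, H_smul_right, Φ.uu, mul_zero, mul_zero]
  have := mul_mem (mul_mem hgK ((tvu_mem_iff hF Φ K hat).2 ha)) (inv_mem hgK)
  rw [tvu_conj hF g hg Φ.uu hw] at this
  refine ⟨_, this, ?_⟩
  rw [Φ.EM_zero hF]
  refine mat_ext fun x => ?_
  rw [tvu_mulVec, HermStd.transvection_mulVec, H_smul_right, smul_smul]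
  congr 2
  ring

/-- The stabiliser of the point. -/
def RK : Subgroup G where
  carrier := {g | g ∈ K ∧ ∃ μ : F, mat g *ᵥ Φ.u = μ • Φ.u}
  one_mem' := ⟨one_mem _, 1, by rw [mat_one, one_mulVec, one_smul]⟩
  mul_mem' := by
    rintro a b ⟨ha, μ, hμ⟩ ⟨hb, ν, hν⟩
    exact ⟨mul_mem ha hb, ν * μ, by rw [mul_mulVec, hν, Matrix.mulVec_smul, hμ, smul_smul]⟩
  inv_mem' := by
    rintro a ⟨ha, μ, hμ⟩
    refine ⟨inv_mem ha, μ⁻¹, ?_⟩
    have := inv_mulVec a hμ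
    rw [Matrix.mulVec_smul] at this
    conv_rhs => rw [← this, inv_smul_smul₀ (mu_ne hF Φ hμ)]

theorem hn_us {g : G} {μ : F} (hg : mat g *ᵥ Φ.u = μ • Φ.u) : Hn (mat g *ᵥ Φ.u) Φ.s = μ := by
  rw [hg, H_smul_left, Φ.us, mul_one]

/-- The scalar by which an element of the stabiliser acts on `u`. -/
noncomputable def muHom : RK hF Φ K →* Fˣ :=
  MonoidHom.mk' (fun g => Units.mk0 (Hn (mat g.1 *ᵥ Φ.u) Φ.s) (by
      obtain ⟨μ, hμ⟩ := g.2.2
      rw [hn_us hF Φ hμ]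
      exact mu_ne hF Φ hμ)) (fun g k => by
    obtain ⟨μ, hμ⟩ := g.2.2
    obtain ⟨ν, hν⟩ := k.2.2
    have : mat (g * k).1 *ᵥ Φ.u = (μ * ν) • Φ.u := by
      show mat (g.1 * k.1) *ᵥ Φ.u = _
      rw [mul_mulVec, hν, Matrix.mulVec_smul, hμ, smul_smul, mul_comm]
    refine Units.ext ?_
    simp only [Units.val_mk0, Units.val_mul, hn_us hF Φ hμ, hn_us hF Φ hν, hn_us hF Φ this])

theorem muHom_spec (g : RK hF Φ K) : mat g.1 *ᵥ Φ.u = ((muHom hF Φ K g : Fˣ) : F) • Φ.u := by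
  obtain ⟨μ, hμ⟩ := g.2.2
  show _ = Hn (mat g.1 *ᵥ Φ.u) Φ.s • Φ.u
  rw [hn_us hF Φ hμ, hμ]

theorem ker_fix (g : (muHom hF Φ K).ker) : mat g.1.1 *ᵥ Φ.u = Φ.u := by
  rw [muHom_spec hF Φ K g.1, MonoidHom.mem_ker.1 g.2, Units.val_one, one_smul]

/-- The map to the residual group. -/
noncomputable def aHom : (muHom hF Φ K).ker →* Cfsg.SU m F q :=
  MonoidHom.mk' (fun g => suMk (Φ.Amat g.1.1) (Φ.Amat_det_one hF (ker_fix hF Φ K g))
    (Φ.Amat_preserves hF (μ := 1) (by rw [one_smul]; exact ker_fix hF Φ K g))) (fun g k => by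
    refine SU_ext fun x => ?_
    rw [mul_mulVec, suMk_mulVec, suMk_mulVec, suMk_mulVec]
    show Φ.Amat (g.1.1 * k.1.1) *ᵥ x = _
    obtain ⟨c, hc⟩ := Φ.move_ι hF (g := k.1.1) (μ := 1) (by rw [one_smul]; exact ker_fix hF Φ K k) x
    rw [Φ.Amat_mulVec, mul_mulVec, hc, Matrix.mulVec_add, Matrix.mulVec_smul, ker_fix hF Φ K g,
      map_add, map_smul, Φ.π_u hF, smul_zero, zero_add, ← Φ.Amat_mulVec])

/-- The image in the residual group. -/
noncomputable def IK : Subgroup (Cfsg.SU m F q) := (aHom hF Φ K).range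

theorem mem_IK {A : Cfsg.SU m F q} :
    A ∈ IK hF Φ K ↔ ∃ g : G, g ∈ K ∧ mat g *ᵥ Φ.u = Φ.u ∧ Φ.Amat g = mat A := by
  constructor
  · rintro ⟨g, rfl⟩
    exact ⟨g.1.1, g.1.2.1, ker_fix hF Φ K g, rfl⟩
  · rintro ⟨g, hg, hu, hA⟩
    refine ⟨⟨⟨g, hg, 1, by rw [one_smul]; exact hu⟩, MonoidHom.mem_ker.2 (Units.ext ?_)⟩, ?_⟩
    · show Hn (mat g *ᵥ Φ.u) Φ.s = 1
      rw [hu, Φ.us]
    · exact SU_ext fun x => by rw [← hA]; rfl

theorem IK_Xs {A : Cfsg.SU m F q} (hA : A ∈ IK hF Φ K) {w : Wc} (hw : w ∈ Xs hF Φ K) :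
    mat A *ᵥ w ∈ Xs hF Φ K := by
  obtain ⟨g, hg, hu, hAg⟩ := (mem_IK hF Φ K).1 hA
  have := Xs_invariant hF Φ K hg (μ := 1) (by rw [one_smul, hu]) hw
  rwa [one_pow, one_smul, hAg] at this

set_option maxHeartbeats 1000000 in
/-- The bound for the order of the stabiliser. -/
theorem card_RK_le :
    Nat.card (RK hF Φ K) ≤ Nat.card (muHom hF Φ K).range * (Nat.card (IK hF Φ K) *
      (Nat.card (Xs hF Φ K) * Nat.card (Zs hF Φ K))) := by
  rw [← (muHom hF Φ K).ker.card_mul_index, Subgroup.index_ker, mul_comm]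
  refine Nat.mul_le_mul_left _ ?_
  rw [← (aHom hF Φ K).ker.card_mul_index, Subgroup.index_ker, mul_comm]
  refine Nat.mul_le_mul_left _ ?_
  rw [← Nat.card_prod]
  have hspec : ∀ g : (aHom hF Φ K).ker, ∃ w a, mat g.1.1.1 = Φ.EM w a := fun g =>
    ⟨_, _, Φ.eq_EM hF (ker_fix hF Φ K g.1) (congrArg mat (MonoidHom.mem_ker.1 g.2))⟩
  choose w a hwa using hspec
  have hX : ∀ g, w g ∈ Xs hF Φ K := fun g => ⟨_, _, g.1.1.2.1, hwa g⟩
  have hbase : ∀ v : Xs hF Φ K, ∃ b, ∃ g : G, g ∈ K ∧ mat g = Φ.EM v.1 b := fun v => v.2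
  choose b k hk hkb using hbase
  refine Nat.card_le_card_of_injective (fun g => (⟨w g, hX g⟩,
    (⟨a g - b ⟨w g, hX g⟩, sub_mem_Zs hF Φ K g.1.1.2.1 (hk ⟨w g, hX g⟩) (hwa g) (hkb ⟨w g, hX g⟩)⟩ : Zs hF Φ K))) ?_
  intro g g' e
  simp only [Prod.mk.injEq, Subtype.mk.injEq] at e
  obtain ⟨e1, e2⟩ := e
  have e3 : a g = a g' := by
    have : (⟨w g, hX g⟩ : Xs hF Φ K) = ⟨w g', hX g'⟩ := Subtype.ext e1
    rw [this] at e2
    linear_combination e2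
  refine Subtype.ext (Subtype.ext (Subtype.ext (SU_ext fun x => ?_)))
  rw [hwa g, hwa g', e1, e3]

/-- The norms of the scalars act on the cosets of the parameters. -/
theorem card_norm_mul_Zs (hbad : Zs hF Φ K ≠ skewF hF) :
    Nat.card ((muHom hF Φ K).range.map (powMonoidHom (q + 1) : Fˣ →* Fˣ)) * Nat.card (Zs hF Φ K) +
      Nat.card (Zs hF Φ K) ≤ q := by
  set A := (muHom hF Φ K).range
  let N : Fˣ →* Fˣ := powMonoidHom (q + 1)
  obtain ⟨y, hy, hyZ⟩ := SetLike.exists_of_lt (lt_of_le_of_ne (Zs_le hF Φ K) hbad)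
  have hM : ∀ r ∈ A.map N, (∀ a ∈ Zs hF Φ K, (r : F) * a ∈ Zs hF Φ K) ∧ (r : F) ^ q = r := by
    rintro r ⟨μ, ⟨g, rfl⟩, rfl⟩
    refine ⟨fun a ha => Zs_invariant hF Φ K g.2.1 (muHom_spec hF Φ K g) ha, ?_⟩
    simp only [N, powMonoidHom_apply, Units.val_pow_eq_pow_val]
    rw [pow_succ, mul_pow, pow_qq hF, mul_comm]
  let ψ : (A.map N × Zs hF Φ K) ⊕ Zs hF Φ K → skewF hF := Sum.elim
    (fun p => ⟨(p.1.1 : F) * y + p.2.1, add_mem (mul_mem_skewF hF (hM _ p.1.2).2 hy) (Zs_le hF Φ K p.2.2)⟩)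
    (fun z => ⟨z.1, Zs_le hF Φ K z.2⟩)
  have hψ : Function.Injective ψ := by
    have hrne : ∀ r : A.map N, ∀ z ∈ Zs hF Φ K, (r.1 : F) * y + z ∉ Zs hF Φ K := by
      intro r z hz hmem
      have h1 : (r.1 : F) * y ∈ Zs hF Φ K := by simpa using sub_mem hmem hz
      have h2 := (hM _ (inv_mem r.2)).1 _ h1
      rw [← mul_assoc, Units.val_inv_eq_inv_val, inv_mul_cancel₀ r.1.ne_zero, one_mul] at h2
      exact hyZ h2
    rintro (⟨r, z⟩ | z) (⟨r', z'⟩ | z') e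
    · have e' : (r.1 : F) * y + z.1 = (r'.1 : F) * y + z'.1 := congrArg Subtype.val e
      have hd : ∀ a ∈ Zs hF Φ K, ((r.1 : F) - r'.1) * a ∈ Zs hF Φ K := fun a ha => by
        rw [sub_mul]; exact sub_mem ((hM _ r.2).1 a ha) ((hM _ r'.2).1 a ha)
      have hrr : r = r' := by
        by_contra hne
        have hd0 : (r.1 : F) - r'.1 ≠ 0 := sub_ne_zero.2 fun e0 => hne (Subtype.ext (Units.ext e0))
        let μd : Zs hF Φ K → Zs hF Φ K := fun a => ⟨_, hd a.1 a.2⟩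
        have hinj : Function.Injective μd := fun a b eab =>
          Subtype.ext (mul_left_cancel₀ hd0 (congrArg Subtype.val eab))
        obtain ⟨a, ha⟩ := Finite.surjective_of_injective hinj ⟨z'.1 - z.1, sub_mem z'.2 z.2⟩
        refine hyZ ?_
        have : ((r.1 : F) - r'.1) * a.1 = ((r.1 : F) - r'.1) * y := by
          rw [show ((r.1 : F) - r'.1) * a.1 = z'.1 - z.1 from congrArg Subtype.val ha]
          linear_combination -e'
        rw [← mul_left_cancel₀ hd0 this]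
        exact a.2
      subst hrr
      exact congrArg Sum.inl (Prod.ext rfl (Subtype.ext (add_left_cancel e')))
    · refine absurd ?_ (hrne r z.1 z.2)
      rw [show (r.1 : F) * y + z.1 = z'.1 from congrArg Subtype.val e]
      exact z'.2
    · refine absurd ?_ (hrne r' z'.1 z'.2)
      rw [← show z.1 = (r'.1 : F) * y + z'.1 from congrArg Subtype.val e]
      exact z.2
    · exact congrArg Sum.inr (Subtype.ext (congrArg Subtype.val e :))
  have := Nat.card_le_card_of_injective ψ hψ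
  rwa [Nat.card_sum, Nat.card_prod, natCard_skewF hF] at this

/-- A proper group of parameters leaves little room for the scalars. -/
theorem card_muHom_mul_Zs (hbad : Zs hF Φ K ≠ skewF hF) :
    Nat.card (muHom hF Φ K).range * Nat.card (Zs hF Φ K) ≤
      (q + 1) * (q - Nat.card (Zs hF Φ K)) := by
  set A := (muHom hF Φ K).range
  let N : Fˣ →* Fˣ := powMonoidHom (q + 1)
  have hA : Nat.card A ≤ (q + 1) * Nat.card (A.map N) := by
    let f : A →* Fˣ := N.comp A.subtype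
    have hker : Nat.card f.ker ≤ q + 1 := by
      refine (Nat.card_le_card_of_injective (fun x => (⟨x.1.1, x.2⟩ :
        (powMonoidHom (q + 1) : Fˣ →* Fˣ).ker)) ?_).trans_eq (natCard_normOne hF)
      intro x y e
      exact Subtype.ext (Subtype.ext (congrArg Subtype.val e :))
    have hr : f.range = A.map N := by rw [MonoidHom.range_comp, Subgroup.range_subtype]
    rw [← f.ker.card_mul_index, Subgroup.index_ker, hr]
    exact Nat.mul_le_mul_right _ hker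
  have hkey : Nat.card (A.map N) * Nat.card (Zs hF Φ K) + Nat.card (Zs hF Φ K) ≤ q :=
    card_norm_mul_Zs hF Φ K hbad
  calc Nat.card A * Nat.card (Zs hF Φ K)
      ≤ (q + 1) * Nat.card (A.map N) * Nat.card (Zs hF Φ K) := Nat.mul_le_mul_right _ hA
    _ ≤ (q + 1) * (q - Nat.card (Zs hF Φ K)) := by
      rw [mul_assoc]
      exact Nat.mul_le_mul_left _ (by omega)

end Cfsg.Agent.Classical.Unitary.MinIndex
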