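import Cfsg.Agent.Lib.Classical.UnitaryMinIndex.Frame

/-!
# Passing between `SU n q` and `PSU n q`
-/

set_option autoImplicit false
set_option linter.unusedSectionVars false

namespace Cfsg.Agent.Classical.Unitary.MinIndex

open Matrix Cfsg.Agent.Forms Cfsg.Agent.Classical
open scoped commutatorElement

theorem sup_center_ne_top {G : Type*} [Group G] (hG : commutator G = ⊤) {I : Subgroup G}
    (hI : I ≠ ⊤) : I ⊔ Subgroup.center G ≠ ⊤ := by
  intro htop
  refine hI (eq_top_iff.2 ?_)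
  rw [← hG, commutator_def, Subgroup.commutator_le]
  intro a _ b _
  obtain ⟨x, hx, z, hz, rfl⟩ := Subgroup.mem_sup_of_normal_right.1 (htop.symm ▸ Subgroup.mem_top a)
  obtain ⟨y, hy, w, hw, rfl⟩ := Subgroup.mem_sup_of_normal_right.1 (htop.symm ▸ Subgroup.mem_top b)
  have hz' := Subgroup.mem_center_iff.1 hz
  have hw' := Subgroup.mem_center_iff.1 hw
  have e : ⁅x * z, y * w⁆ = ⁅x, y⁆ := by
    simp only [commutatorElement_def, _root_.mul_inv_rev]
    calc x * z * (y * w) * (z⁻¹ * x⁻¹) * (w⁻¹ * y⁻¹)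
        = x * (z * (y * w)) * z⁻¹ * x⁻¹ * w⁻¹ * y⁻¹ := by group
      _ = x * ((y * w) * z) * z⁻¹ * x⁻¹ * w⁻¹ * y⁻¹ := by rw [hz' (y * w)]
      _ = x * y * (w * x⁻¹) * w⁻¹ * y⁻¹ := by group
      _ = x * y * (x⁻¹ * w) * w⁻¹ * y⁻¹ := by rw [hw' x⁻¹]
      _ = _ := by group
  rw [e]
  exact mul_mem (mul_mem (mul_mem hx hy) (inv_mem hx)) (inv_mem hy)

variable {F : Type*} [Field F] [Fintype F] {q n : ℕ} (hF : Fintype.card F = q ^ 2)

include hF

theorem psu_map_ne_top (hn : 3 ≤ n) (h : ¬ (n = 3 ∧ q = 2)) {I : Subgroup (Cfsg.SU n F q)}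
    (hI : I ≠ ⊤) : I.map (QuotientGroup.mk' (Subgroup.center (Cfsg.SU n F q))) ≠ ⊤ := by
  intro htop
  refine sup_center_ne_top (commutator_SU_eq_top hF hn h) hI ?_
  have e := Subgroup.comap_map_eq (QuotientGroup.mk' (Subgroup.center (Cfsg.SU n F q))) I
  rwa [htop, Subgroup.comap_top, QuotientGroup.ker_mk', eq_comm] at e

/-- Bounds descend from the projective group. -/
theorem index_bound_SU (hn : 3 ≤ n) (h : ¬ (n = 3 ∧ q = 2)) {B : ℕ}
    (hB : ∀ H : Subgroup (Cfsg.PSU n F q), H ≠ ⊤ → B ≤ H.index) (I : Subgroup (Cfsg.SU n F q))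
    (hI : I ≠ ⊤) : B * I.relIndex (I ⊔ Subgroup.center (Cfsg.SU n F q)) ≤ I.index := by
  have hb : B ≤ (I.map (QuotientGroup.mk' (Subgroup.center (Cfsg.SU n F q)))).index :=
    hB _ (psu_map_ne_top hF hn h hI)
  rw [Subgroup.index_map, QuotientGroup.ker_mk', MonoidHom.range_eq_top.2
    (QuotientGroup.mk'_surjective _), Subgroup.index_top, mul_one] at hb
  rw [← Subgroup.relIndex_mul_index (le_sup_left : I ≤ I ⊔ Subgroup.center _), mul_comm B]
  exact Nat.mul_le_mul_left _ hb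

/-- Bounds ascend to the projective group. -/
theorem index_bound_PSU {B : ℕ}
    (hB : ∀ I : Subgroup (Cfsg.SU n F q), I ≠ ⊤ → B ≤ I.index) (H : Subgroup (Cfsg.PSU n F q))
    (hH : H ≠ ⊤) : B ≤ H.index := by
  let f : Cfsg.SU n F q →* Cfsg.PSU n F q := QuotientGroup.mk' (Subgroup.center (Cfsg.SU n F q))
  have hf : Function.Surjective f := QuotientGroup.mk'_surjective _
  rw [← Subgroup.index_comap_of_surjective H hf]
  refine hB _ fun e => hH ?_
  rw [← Subgroup.map_comap_eq_self_of_surjective hf H, e]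
  exact Subgroup.map_top_of_surjective f hf

/-- A subgroup containing the centre gives a subgroup of the projective group of the same index. -/
theorem exists_index_PSU {I : Subgroup (Cfsg.SU n F q)}
    (hI : Subgroup.center (Cfsg.SU n F q) ≤ I) :
    ∃ H : Subgroup (Cfsg.PSU n F q), H.index = I.index :=
  ⟨I.map (QuotientGroup.mk' (Subgroup.center (Cfsg.SU n F q))),
    Subgroup.index_map_eq _ (QuotientGroup.mk'_surjective _) (by rwa [QuotientGroup.ker_mk'])⟩

end Cfsg.Agent.Classical.Unitary.MinIndex
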