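import Cfsg.Agent.S0278
import Cfsg.Agent.S0806
import Cfsg.Agent.Lib.Classical.UnitaryTwo
import Cfsg.Agent.Lib.Classical.UnitaryMinIndex.Stab
import Cfsg.Agent.Lib.Classical.UnitaryMinIndex.PointBound
import Cfsg.Agent.Lib.Classical.UnitaryMinIndex.Transfer

/-!
# The subgroups of small index of `SU 2 q`
-/

set_option autoImplicit false
set_option linter.unusedSectionVars false

namespace Cfsg.Agent.Classical.Unitary.MinIndex

open Matrix Cfsg.Agent.Forms Cfsg.Agent.Classical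
open scoped MatrixGroups

variable {F : Type*} [Field F] [Fintype F] {q : ℕ} (hF : Fintype.card F = q ^ 2)

local notation "V2" => (Fin 2 → F)
local notation "H2" => Cfsg.hermForm 2 F q

/-- The stabiliser of a vector of the plane. -/
def vecStab (hF : Fintype.card F = q ^ 2) (v : V2) : Subgroup (Cfsg.SU 2 F q) where
  carrier := {g | mat g *ᵥ v = v}
  one_mem' := show _ = _ by rw [mat_one, one_mulVec]
  mul_mem' {a b} (ha : _ = _) (hb : _ = _) := show _ = _ by rw [mul_mulVec, hb, ha]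
  inv_mem' {a} (ha : _ = _) := inv_mulVec a ha

include hF

theorem exists_prime_pow :
    ∃ p k : ℕ, p.Prime ∧ 0 < k ∧ p ^ k = q ∧ CharP F p := by
  obtain ⟨p, hpc⟩ := CharP.exists F
  obtain ⟨j, hp, hj⟩ := FiniteField.card F p
  rw [hF] at hj
  have hppow : q ∣ p ^ (j : ℕ) := hj ▸ dvd_pow_self q two_ne_zero
  obtain ⟨k, -, hk⟩ := (Nat.dvd_prime_pow hp).1 hppow
  refine ⟨p, k, hp, Nat.pos_of_ne_zero fun h0 => ?_, hk.symm, hpc⟩
  have := HermStd.one_lt_q hF
  rw [h0, pow_zero] at hk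
  omega

variable (Ψ : Fr F q 2 0)

theorem Fr.decomp_two (x : V2) : x = H2 x Ψ.s • Ψ.u + H2 x Ψ.u • Ψ.s := by
  have e := Ψ.decomp' x
  rwa [Subsingleton.elim (Ψ.π x) 0, map_zero, add_zero] at e

theorem Fr.ext_two {g h : Cfsg.SU 2 F q} (hu : mat g *ᵥ Ψ.u = mat h *ᵥ Ψ.u)
    (hs : mat g *ᵥ Ψ.s = mat h *ᵥ Ψ.s) : g = h :=
  SU_ext fun x => by
    rw [Ψ.decomp_two hF x]
    simp only [Matrix.mulVec_add, Matrix.mulVec_smul, hu, hs]

theorem exists_tvu_of_fix {g : Cfsg.SU 2 F q} (hg : mat g *ᵥ Ψ.u = Ψ.u) :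
    ∃ (a : F) (ha : a + a ^ q = 0), g = tvu hF Ψ.uu ha := by
  have hA : Ψ.Amat g = 1 := Subsingleton.elim _ _
  have e := Ψ.eq_EM hF hg hA
  rw [Subsingleton.elim (Ψ.π (mat g *ᵥ Ψ.s)) 0] at e
  have ht := Ψ.trace_of_preserves hF e
  rw [H_zero_left, neg_zero] at ht
  exact ⟨_, ht, SU_ext fun x => by
    rw [tvu_mulVec, ← HermStd.transvection_mulVec, ← Ψ.EM_zero hF, ← e]⟩

theorem natCard_fixSub_two :
    Nat.card (vecStab hF Ψ.u) = q := by
  let f : skewF hF → vecStab hF Ψ.u := fun a =>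
    ⟨tvu hF Ψ.uu ((mem_skewF hF).1 a.2), by
      have e : mat (tvu hF Ψ.uu ((mem_skewF hF).1 a.2)) *ᵥ Ψ.u = Ψ.u := by
        rw [tvu_mulVec, Ψ.uu, mul_zero, zero_smul, add_zero]
      exact e⟩
  have hf : Function.Bijective f := by
    constructor
    · intro a b e
      have e' := congrArg (fun g => H2 (mat g.1 *ᵥ Ψ.s) Ψ.s) e
      simpa [f, tvu_mulVec, H_add_left, H_smul_left, Ψ.ss, Ψ.su, Ψ.us] using e'
    · intro g
      obtain ⟨a, ha, e⟩ := exists_tvu_of_fix hF Ψ g.2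
      exact ⟨⟨a, ha⟩, Subtype.ext e.symm⟩
  rw [← Nat.card_eq_of_bijective f hf, natCard_skewF hF]

omit Ψ

theorem natCard_SU_two : Nat.card (Cfsg.SU 2 F q) = q * (q ^ 2 - 1) := by
  have h := Cfsg.Agent.S0278.result hF 2 (by norm_num)
  norm_num [Finset.prod_range_succ] at h
  exact Nat.eq_of_mul_eq_mul_left (by omega : 0 < q + 1) (h.trans (by ring))

variable (Ψ : Fr F q 2 0)

theorem index_lineStab_two : (lineStab hF Ψ.u).index = q + 1 := by
  have hq := HermStd.one_lt_q hF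
  have h := natCard_isoPt_even hF (n := 2) even_two
  rw [index_lineStab_iso hF Ψ.u_ne Ψ.uu]
  have : 2 ^ 2 ≤ q ^ 2 := Nat.pow_le_pow_left hq 2
  refine Nat.eq_of_mul_eq_mul_right (by omega : 0 < q ^ 2 - 1) ?_
  rw [h, mul_comm]
  norm_num

/-- The torus. -/
theorem exists_torus_two {l : F} (hl0 : l ≠ 0) (hl : l ^ q = l) :
    ∃ D : Cfsg.SU 2 F q, mat D *ᵥ Ψ.u = l • Ψ.u ∧ mat D *ᵥ Ψ.s = l⁻¹ • Ψ.s := by
  refine ⟨suMk (Ψ.TM l) (by rw [Ψ.det_TM hF, hl, mul_inv_cancel₀ hl0]) (fun x y => ?_), ?_, ?_⟩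
  · have e : ∀ z, Ψ.TM l *ᵥ z = (H2 z Ψ.s * l) • Ψ.u + (H2 z Ψ.u * l⁻¹) • Ψ.s := by
      intro z
      conv_lhs => rw [Ψ.decomp_two hF z]
      simp only [Matrix.mulVec_add, Matrix.mulVec_smul, Ψ.TM_u hF, Ψ.TM_s hF, hl, smul_smul]
    rw [e x, e y]
    conv_rhs => rw [Ψ.decomp_two hF x, Ψ.decomp_two hF y]
    simp only [H_add_left, H_add_right hF, H_smul_left, H_smul_right, Ψ.uu, Ψ.ss, Ψ.us, Ψ.su, mul_pow,
      inv_pow, hl]
    field_simp
    ring
  · rw [suMk_mulVec, Ψ.TM_u hF]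
  · rw [suMk_mulVec, Ψ.TM_s hF, hl]

/-- An overgroup of a root group fixes the point or is everything. -/
theorem overgroup_root (I : Subgroup (Cfsg.SU 2 F q))
    (hU : ∀ (a : F) (ha : a + a ^ q = 0), tvu hF Ψ.uu ha ∈ I) :
    I ≤ lineStab hF Ψ.u ∨ I = ⊤ := by
  refine or_iff_not_imp_left.2 fun hI => eq_top_iff.2 ?_
  obtain ⟨g, hg, hgl⟩ := SetLike.not_le_iff_exists.1 hI
  set w := mat g *ᵥ Ψ.u with hw
  have hww : H2 w w = 0 := by rw [hw, SU_H, Ψ.uu]
  have hwu : H2 w Ψ.u ≠ 0 := fun h0 => hgl (by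
    have e := Ψ.decomp_two hF w
    rw [h0, zero_smul, add_zero] at e
    exact ⟨_, fun h => mat_mulVec_ne_zero g Ψ.u_ne (by rw [← hw, e, h, zero_smul]), e⟩)
  rw [← tvGroup_eq_top hF (by norm_num : 1 ≤ 2) (by norm_num), tvGroup, Subgroup.closure_le]
  rintro t ⟨v, c, hv, hc, ht⟩
  obtain rfl : t = tvu hF hv hc := SU_ext fun x => by rw [ht]; rfl
  by_cases hb : H2 v Ψ.u = 0
  · have e := Ψ.decomp_two hF v
    rw [hb, zero_smul, add_zero] at e
    have hc' : c * H2 v Ψ.s * H2 v Ψ.s ^ q + (c * H2 v Ψ.s * H2 v Ψ.s ^ q) ^ q = 0 := by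
      rw [mul_pow, mul_pow, pow_qq hF]
      linear_combination (H2 v Ψ.s * H2 v Ψ.s ^ q) * hc
    suffices e2 : tvu hF hv hc = tvu hF Ψ.uu hc' by
      rw [SetLike.mem_coe, e2]
      exact hU _ hc'
    refine SU_ext fun x => ?_
    rw [tvu_mulVec, tvu_mulVec]
    conv_lhs => rw [e, H_smul_right, smul_smul]
    congr 2
    ring
  · -- move the second point onto `v`
    set b := H2 v Ψ.u / H2 w Ψ.u
    have hb0 : b ≠ 0 := div_ne_zero hb hwu
    set d := (H2 v Ψ.s / b - H2 w Ψ.s) / H2 w Ψ.u with hd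
    have hmove : d + d ^ q = 0 := by
      have h1 : H2 (v - b • w) Ψ.u = 0 := by
        rw [H_sub_left, H_smul_left]; simp only [b]; rw [div_mul_cancel₀ _ hwu, sub_self]
      have h2 := Ψ.decomp_two hF (v - b • w)
      rw [h1, zero_smul, add_zero] at h2
      have hv' : v = b • (w + (d * H2 w Ψ.u) • Ψ.u) := by
        rw [smul_add, smul_smul, hd, div_mul_cancel₀ _ hwu, mul_sub, mul_div_cancel₀ _ hb0, ← H_smul_left,
          ← H_sub_left, ← h2]
        abel
      rw [hv', UnitaryCount.hermForm_smul_smul, mul_eq_zero] at hv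
      have h3 := hv.resolve_left (pow_ne_zero _ hb0)
      simp only [H_add_left, H_add_right hF, H_smul_left, H_smul_right, hww, Ψ.uu,
        ← H_conj hF w Ψ.u, mul_pow] at h3
      have : H2 w Ψ.u * H2 w Ψ.u ^ q ≠ 0 := mul_ne_zero hwu (pow_ne_zero _ hwu)
      refine mul_left_cancel₀ this ?_
      linear_combination h3
    set k := tvu hF Ψ.uu hmove * g
    have hk : k ∈ I := mul_mem (hU d hmove) hg
    have hkv : mat k *ᵥ Ψ.u = b⁻¹ • v := by
      show mat (tvu hF Ψ.uu hmove * g) *ᵥ Ψ.u = _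
      rw [mul_mulVec, ← hw, tvu_mulVec]
      refine smul_right_injective _ hb0 ?_
      show b • (w + (d * H2 w Ψ.u) • Ψ.u) = b • (b⁻¹ • v)
      rw [smul_inv_smul₀ hb0]
      have h1 : H2 (v - b • w) Ψ.u = 0 := by
        rw [H_sub_left, H_smul_left]; simp only [b]; rw [div_mul_cancel₀ _ hwu, sub_self]
      have h2 := Ψ.decomp_two hF (v - b • w)
      rw [h1, zero_smul, add_zero] at h2
      rw [smul_add, smul_smul, hd, div_mul_cancel₀ _ hwu, mul_sub, mul_div_cancel₀ _ hb0, ← H_smul_left,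
        ← H_sub_left, ← h2]
      abel
    have hbv : H2 (b⁻¹ • v) (b⁻¹ • v) = 0 := by rw [UnitaryCount.hermForm_smul_smul, hv, mul_zero]
    have hc' : c * b * b ^ q + (c * b * b ^ q) ^ q = 0 := by
      rw [mul_pow, mul_pow, pow_qq hF]
      linear_combination (b * b ^ q) * hc
    have h := mul_mem (mul_mem hk (hU _ hc')) (inv_mem hk)
    rw [tvu_conj hF k hkv Ψ.uu hbv hc'] at h
    have e : tvu hF hv hc = tvu hF hbv hc' := by
      refine SU_ext fun x => ?_
      rw [tvu_mulVec, tvu_mulVec, H_smul_right, smul_smul]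
      congr 2
      rw [inv_pow]
      field_simp
    rw [SetLike.mem_coe, e]
    exact h

omit Ψ

/-- A subgroup containing a Sylow subgroup for the characteristic. -/
theorem overgroup_sylow (I : Subgroup (Cfsg.SU 2 F q)) (hI : I ≠ ⊤) (hdvd : q ∣ Nat.card I) :
    ∃ Ψ : Fr F q 2 0, I ≤ lineStab hF Ψ.u := by
  classical
  obtain ⟨p, k, hp, hk, hpk, hpc⟩ := exists_prime_pow hF
  have : Fact p.Prime := ⟨hp⟩
  obtain ⟨u, hu, hu1, -, -⟩ := exists_isotropic_pair hF (n := 2) 0 1 (by decide)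
  obtain ⟨Ψ, rfl⟩ := exists_fr_at hF (n := 2) (m := 0) rfl (fun h => by simp [h] at hu1) hu
  let U : Subgroup (Cfsg.SU 2 F q) := vecStab hF Ψ.u
  have hUc : Nat.card U = p ^ k := (natCard_fixSub_two hF Ψ).trans hpk.symm
  have hfac : (Nat.card (Cfsg.SU 2 F q)).factorization p = k := by
    have hq := HermStd.one_lt_q hF
    have h2 : 2 ^ 2 ≤ q ^ 2 := Nat.pow_le_pow_left hq 2
    rw [natCard_SU_two hF, Nat.factorization_mul (by omega) (by omega), Finsupp.add_apply,
      Nat.factorization_eq_zero_of_not_dvd (n := q ^ 2 - 1), add_zero, ← hpk, hp.factorization_pow,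
      Finsupp.single_eq_same]
    intro hd
    have hdq : p ∣ q ^ 2 := dvd_pow (by rw [← hpk]; exact dvd_pow_self p (by omega)) two_ne_zero
    have h1 := Nat.dvd_sub hdq hd
    rw [Nat.sub_sub_self (by omega)] at h1
    exact hp.ne_one (Nat.dvd_one.1 h1)
  let S : Sylow p (Cfsg.SU 2 F q) := Sylow.ofCard U (by rw [hUc, hfac])
  obtain ⟨P, hP⟩ := Sylow.exists_subgroup_card_pow_prime p (G := I) (n := k) (by rw [hpk]; exact hdvd)
  let S' : Sylow p (Cfsg.SU 2 F q) := Sylow.ofCard (P.map I.subtype) (by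
    rw [Subgroup.card_map_of_injective I.subtype_injective, hP, hfac])
  obtain ⟨g, hg⟩ := MulAction.exists_smul_eq (Cfsg.SU 2 F q) S S'
  have hgu : H2 (mat g *ᵥ Ψ.u) (mat g *ᵥ Ψ.u) = 0 := by rw [SU_H, Ψ.uu]
  obtain ⟨Θ, hΘ⟩ := exists_fr_at hF (n := 2) (m := 0) rfl (mat_mulVec_ne_zero g Ψ.u_ne) hgu
  refine ⟨Θ, (overgroup_root hF Θ I fun a ha => ?_).resolve_right hI⟩
  have hfix : mat (tvu hF Θ.uu ha) *ᵥ Θ.u = Θ.u := by
    rw [tvu_mulVec, Θ.uu, mul_zero, zero_smul, add_zero]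
  have hmem : g⁻¹ * tvu hF Θ.uu ha * g ∈ U := by
    have e : mat (g⁻¹ * tvu hF Θ.uu ha * g) *ᵥ Ψ.u = Ψ.u := by
      rw [mul_mulVec, mul_mulVec, ← hΘ, hfix, hΘ, inv_mulVec g rfl]
    exact e
  have h : tvu hF Θ.uu ha ∈ (g • S : Sylow p (Cfsg.SU 2 F q)).toSubgroup := by
    rw [Sylow.coe_subgroup_smul]
    refine Subgroup.mem_pointwise_smul_iff_inv_smul_mem.2 ?_
    show (MulAut.conj g)⁻¹ (tvu hF Θ.uu ha) ∈ S.toSubgroup
    rw [MulAut.inv_apply, MulAut.conj_symm_apply]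
    exact hmem
  rw [hg] at h
  exact Subgroup.map_subtype_le P h

/-- The bound for the index when `q` is not exceptional. -/
theorem index_two_ge (hexc : q ∉ ({2, 3, 5, 7, 9, 11} : Finset ℕ)) (I : Subgroup (Cfsg.SU 2 F q))
    (hI : I ≠ ⊤) : q + 1 ≤ I.index := by
  classical
  have hq := HermStd.one_lt_q hF
  have : Fintype (fixField hF) := Fintype.ofFinite _
  have hK : Fintype.card (fixField hF) = q := by
    rw [← Nat.card_eq_fintype_card, natCard_fixField hF]
  obtain ⟨e⟩ := nonempty_SU_two_equiv hF (fixField hF) hK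
  have hJ : I.map e.toMonoidHom ≠ ⊤ := fun h => hI (Subgroup.map_injective (f := e.toMonoidHom)
    e.injective (by rw [h, Subgroup.map_top_of_surjective _ e.surjective]))
  rw [← Subgroup.index_map_equiv I e]
  set J := I.map e.toMonoidHom
  have hperf : commutator SL(2, fixField hF) = ⊤ := by
    obtain ⟨a, ha⟩ : ∃ a : fixField hF, a ≠ 0 ∧ a ^ 2 ≠ 1 := by
      by_contra hc
      push Not at hc
      have hle : (Finset.univ : Finset (fixField hF)).card ≤ ({0, 1, -1} : Finset (fixField hF)).card := by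
        refine Finset.card_le_card fun t _ => ?_
        by_cases ht : t = 0
        · simp [ht]
        · rcases sq_eq_one_iff.1 (hc t ht) with h | h <;> simp [h]
      have := hle.trans Finset.card_le_three
      rw [Finset.card_univ, hK] at this
      simp only [Finset.mem_insert, Finset.mem_singleton, not_or] at hexc
      omega
    exact Matrix.SL2.commutator_eq_top ha.1 (fun h => ha.2 (by first | exact h | (rw [sq]; exact h)))
  have hne : J.map (QuotientGroup.mk' (Subgroup.center SL(2, fixField hF))) ≠ ⊤ := by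
    intro htop
    refine sup_center_ne_top hperf hJ ?_
    have e' := Subgroup.comap_map_eq (QuotientGroup.mk' (Subgroup.center SL(2, fixField hF))) J
    rwa [htop, Subgroup.comap_top, QuotientGroup.ker_mk', eq_comm] at e'
  refine le_trans ((Cfsg.Agent.S0806.result hK hexc).1 _ hne) (Nat.le_of_dvd
    (Nat.pos_of_ne_zero Subgroup.index_ne_zero_of_finite)
    (Subgroup.index_map_dvd _ (QuotientGroup.mk'_surjective _)))

/-- The subgroups of index at most `q + 1`. -/
theorem two_cases (I : Subgroup (Cfsg.SU 2 F q)) (hidx : I.index ≤ q + 1) :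
    I = ⊤ ∨ (∃ Ψ : Fr F q 2 0, I = lineStab hF Ψ.u ∧ I.index = q + 1) ∨
      (q.Prime ∧ I.index = q) ∨ (q = 9 ∧ 5 ∣ Nat.card I) := by
  classical
  refine or_iff_not_imp_left.2 fun hI => ?_
  have hq := HermStd.one_lt_q hF
  obtain ⟨p, k, hp, hk, hpk, hpc⟩ := exists_prime_pow hF
  have hmul := I.card_mul_index
  rw [natCard_SU_two hF] at hmul
  have hipos : 0 < I.index := Nat.pos_of_ne_zero Subgroup.index_ne_zero_of_finite
  by_cases hqI : q ∣ Nat.card I
  · obtain ⟨Ψ, hle⟩ := overgroup_sylow hF I hI hqI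
    refine Or.inl ⟨Ψ, ?_⟩
    have h1 := Subgroup.relIndex_mul_index hle
    rw [index_lineStab_two hF Ψ] at h1
    have hr : 0 < I.relIndex (lineStab hF Ψ.u) := Nat.pos_of_ne_zero Subgroup.index_ne_zero_of_finite
    have hr1 : I.relIndex (lineStab hF Ψ.u) = 1 := by
      by_contra hne
      have : 2 * (q + 1) ≤ I.relIndex (lineStab hF Ψ.u) * (q + 1) := Nat.mul_le_mul_right _ (by omega)
      omega
    exact ⟨le_antisymm hle (Subgroup.relIndex_eq_one.1 hr1), by rw [hr1, one_mul] at h1; exact h1.symm⟩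
  -- the characteristic divides the index
  have hpI : p ∣ I.index := by
    by_contra hnp
    have h : p ^ k ∣ Nat.card I := by
      refine (((hp.coprime_iff_not_dvd).2 hnp).pow_left k).dvd_of_dvd_mul_right ?_
      rw [hmul, hpk]
      exact dvd_mul_right q _
    rw [hpk] at h
    exact hqI h
  right
  by_cases hexc : q ∉ ({2, 3, 5, 7, 9, 11} : Finset ℕ)
  · exfalso
    have hge := index_two_ge hF hexc I hI
    have hi : I.index = q + 1 := by omega
    rw [hi] at hpI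
    have hd : p ∣ q := hpk ▸ dvd_pow_self p (by omega : k ≠ 0)
    exact hp.ne_one (Nat.dvd_one.1 ((Nat.dvd_add_right hd).1 hpI))
  push Not at hexc
  have hd : p ∣ q := hpk ▸ dvd_pow_self p (by omega : k ≠ 0)
  have key : q.Prime → q.Prime ∧ I.index = q := by
    intro hqp
    refine ⟨hqp, ?_⟩
    obtain rfl : p = q := (Nat.prime_dvd_prime_iff_eq hp hqp).1 hd
    obtain ⟨j, hj⟩ := hpI
    rcases j with _ | _ | j
    · omega
    · omega
    · exfalso; nlinarith
  simp only [Finset.mem_insert, Finset.mem_singleton] at hexc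
  rcases hexc with rfl | rfl | rfl | rfl | rfl | rfl
  · exact Or.inl (key (by norm_num))
  · exact Or.inl (key (by norm_num))
  · exact Or.inl (key (by norm_num))
  · exact Or.inl (key (by norm_num))
  · refine Or.inr ⟨rfl, ?_⟩
    obtain rfl : p = 3 := (Nat.prime_dvd_prime_iff_eq hp Nat.prime_three).1
      (hp.dvd_of_dvd_pow (n := 2) (by norm_num; exact hd))
    have h5 : 5 ∣ Nat.card I * I.index := by rw [hmul]; norm_num
    refine ((Nat.Prime.dvd_mul (by norm_num)).1 h5).resolve_right fun h => ?_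
    have := Nat.le_of_dvd hipos (Nat.Coprime.mul_dvd_of_dvd_of_dvd (by norm_num : Nat.Coprime 5 3) h hpI)
    omega
  · exact Or.inl (key (by norm_num))

end Cfsg.Agent.Classical.Unitary.MinIndex
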