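import Cfsg.Agent.Lib.Classical.UnitaryMinIndex.Count
import Cfsg.Agent.Lib.Classical.UnitaryMinIndex.Pairing
import Cfsg.Agent.Lib.Classical.UnitaryMinIndex.Sections
import Cfsg.Agent.Lib.Classical.UnitaryMinIndex.Two

/-!
# The inequalities at a bad point of `SU 4 q`
-/

set_option autoImplicit false
set_option linter.unusedSectionVars false

namespace Cfsg.Agent.Classical.Unitary.MinIndex

open Matrix Cfsg.Agent.Forms Cfsg.Agent.Classical

variable {F : Type*} [Field F] [Fintype F] {q : ℕ} (hF : Fintype.card F = q ^ 2)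
  (K : Subgroup (Cfsg.SU 4 F q)) (Φ : Fr F q 4 2)

include hF

theorem natCard_isoPt_four : Nat.card (IsoPt F q 4) = (q ^ 2 + 1) * (q ^ 3 + 1) := by
  have hq := HermStd.one_lt_q hF
  have h1 : 2 ^ 2 ≤ q ^ 2 := Nat.pow_le_pow_left hq 2
  have h := natCard_isoPt_even hF (n := 4) (by decide)
  have e : q ^ 4 - 1 = (q ^ 2 + 1) * (q ^ 2 - 1) := by
    have := Nat.sq_sub_sq (q ^ 2) 1
    rw [one_pow, ← pow_mul] at this
    exact this
  rw [e, show 4 - 1 = 3 from rfl, mul_right_comm] at h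
  exact Nat.eq_of_mul_eq_mul_right (by omega) h

/-- The order of the subgroup through the orbit of the point. -/
theorem card_le_orbit_mul :
    Nat.card K ≤ Nat.card (MulAction.orbit K (pt Φ.u Φ.u_ne Φ.uu)) * Nat.card (RK hF Φ K) := by
  classical
  set p := pt Φ.u Φ.u_ne Φ.uu
  rw [← (MulAction.stabilizer K p).card_mul_index, MulAction.index_stabilizer, mul_comm,
    Nat.card_coe_set_eq]
  refine Nat.mul_le_mul_left _ ?_
  refine Nat.card_le_card_of_injective (fun g => ⟨g.1.1, g.1.2, ?_⟩) fun x y e =>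
    Subtype.ext (Subtype.ext (congrArg (·.1) e))
  exact (mem_ptStab hF (Φ := Φ)).1 g.2

/-- The inequality at a point. -/
theorem bad_ineq (hidx : K.index < (q + 1) * (q ^ 3 + 1)) :
    (q ^ 2 + 1) * (q ^ 3 + 1) * q ^ 5 * (q ^ 2 - 1) * (IK hF Φ K).index <
      (q + 1) * (q ^ 3 + 1) * Nat.card (MulAction.orbit K (pt Φ.u Φ.u_ne Φ.uu)) *
        (Nat.card (muHom hF Φ K).range * Nat.card (Zs hF Φ K)) * Nat.card (Xs hF Φ K) := by
  classical
  set O := Nat.card (MulAction.orbit K (pt Φ.u Φ.u_ne Φ.uu))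
  set A := Nat.card (muHom hF Φ K).range
  set Z := Nat.card (Zs hF Φ K)
  set X := Nat.card (Xs hF Φ K)
  set I := IK hF Φ K
  have hK := (card_le_orbit_mul hF K Φ).trans (Nat.mul_le_mul_left _ (card_RK_le hF Φ K))
  have hG := card_SU_ge hF Φ (by norm_num : 1 ≤ 2)
  rw [natCard_isoPt_four hF, ← K.card_mul_index, ← I.card_mul_index, show 2 * 2 + 1 = 5 from rfl] at hG
  have hO : 0 < O := by
    have : Nonempty (MulAction.orbit K (pt Φ.u Φ.u_ne Φ.uu)) := ⟨⟨_, MulAction.mem_orbit_self _⟩⟩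
    exact Nat.card_pos
  have hI : 0 < Nat.card I := Nat.card_pos
  have hA : 0 < A := Nat.card_pos
  have hZ : 0 < Z := Nat.card_pos
  have hX : 0 < X := Nat.card_pos
  refine Nat.lt_of_mul_lt_mul_left (a := Nat.card I) ?_
  calc Nat.card I * ((q ^ 2 + 1) * (q ^ 3 + 1) * q ^ 5 * (q ^ 2 - 1) * I.index)
      = (q ^ 2 + 1) * (q ^ 3 + 1) * (q ^ 5 * (q ^ 2 - 1) * (Nat.card I * I.index)) := by ring
    _ ≤ Nat.card K * K.index := hG
    _ ≤ O * (A * (Nat.card I * (X * Z))) * K.index := Nat.mul_le_mul_right _ hK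
    _ < O * (A * (Nat.card I * (X * Z))) * ((q + 1) * (q ^ 3 + 1)) :=
        Nat.mul_lt_mul_of_pos_left hidx (by positivity)
    _ = _ := by ring

theorem orbit_le_isoPt :
    Nat.card (MulAction.orbit K (pt Φ.u Φ.u_ne Φ.uu)) ≤ (q ^ 2 + 1) * (q ^ 3 + 1) :=
  (Nat.card_le_card_of_injective _ Subtype.val_injective).trans_eq (natCard_isoPt_four hF)

theorem card_muHom_le : Nat.card (muHom hF Φ K).range ≤ q ^ 2 - 1 := by
  refine (Subgroup.card_le_card_group _).trans_eq ?_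
  rw [natCard_units_F hF, mul_comm]
  simpa using (Nat.sq_sub_sq q 1).symm

variable (hbad : ¬ Good K Φ.u)

include hbad

theorem muZ_le : Nat.card (muHom hF Φ K).range * Nat.card (Zs hF Φ K) ≤
    (q + 1) * (q - Nat.card (Zs hF Φ K)) :=
  card_muHom_mul_Zs hF Φ K fun e => hbad ((good_u_iff hF Φ K).2 e)

theorem muZ_le_sq : Nat.card (muHom hF Φ K).range * Nat.card (Zs hF Φ K) ≤ q ^ 2 - 1 := by
  have hZ : 0 < Nat.card (Zs hF Φ K) := Nat.card_pos
  refine (muZ_le hF K Φ hbad).trans ?_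
  rw [show q ^ 2 - 1 = (q + 1) * (q - 1) by simpa using Nat.sq_sub_sq q 1]
  exact Nat.mul_le_mul_left _ (by omega)

theorem card_Xs_le : Nat.card (Xs hF Φ K) ≤ q ^ 2 :=
  card_le_of_comm hF (Zs_le hF Φ K) (fun e => hbad ((good_u_iff hF Φ K).2 e)) _
    fun _ hv _ hw => comm_mem_Zs hF Φ K hv hw

variable (hidx : K.index < (q + 1) * (q ^ 3 + 1))

include hidx

/-- The inequality without the scalars. -/
theorem orbit_ineq : q ^ 5 * (q ^ 2 + 1) * (IK hF Φ K).index <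
    (q + 1) * Nat.card (MulAction.orbit K (pt Φ.u Φ.u_ne Φ.uu)) * Nat.card (Xs hF Φ K) := by
  have hq := HermStd.one_lt_q hF
  have h1 : 2 ^ 2 ≤ q ^ 2 := Nat.pow_le_pow_left hq 2
  set O := Nat.card (MulAction.orbit K (pt Φ.u Φ.u_ne Φ.uu))
  set X := Nat.card (Xs hF Φ K)
  refine Nat.lt_of_mul_lt_mul_left (a := (q ^ 3 + 1) * (q ^ 2 - 1)) ?_
  calc (q ^ 3 + 1) * (q ^ 2 - 1) * (q ^ 5 * (q ^ 2 + 1) * (IK hF Φ K).index)
      = (q ^ 2 + 1) * (q ^ 3 + 1) * q ^ 5 * (q ^ 2 - 1) * (IK hF Φ K).index := by ring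
    _ < _ := bad_ineq hF K Φ hidx
    _ ≤ (q + 1) * (q ^ 3 + 1) * O * (q ^ 2 - 1) * X :=
        Nat.mul_le_mul_right _ (Nat.mul_le_mul_left _ (muZ_le_sq hF K Φ hbad))
    _ = _ := by ring

theorem Xs_ineq : q ^ 5 * (IK hF Φ K).index < (q + 1) * (q ^ 3 + 1) * Nat.card (Xs hF Φ K) := by
  refine Nat.lt_of_mul_lt_mul_left (a := q ^ 2 + 1) ?_
  calc (q ^ 2 + 1) * (q ^ 5 * (IK hF Φ K).index) = q ^ 5 * (q ^ 2 + 1) * (IK hF Φ K).index := by ring
    _ < _ := orbit_ineq hF K Φ hbad hidx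
    _ ≤ (q + 1) * ((q ^ 2 + 1) * (q ^ 3 + 1)) * Nat.card (Xs hF Φ K) :=
        Nat.mul_le_mul_right _ (Nat.mul_le_mul_left _ (orbit_le_isoPt hF K Φ))
    _ = _ := by ring

theorem index_IK_le : (IK hF Φ K).index ≤ q + 1 := by
  by_contra h
  rw [not_le] at h
  have h1 := ((Nat.mul_le_mul_left (q ^ 5) h).trans_lt (Xs_ineq hF K Φ hbad hidx)).trans_le
    (Nat.mul_le_mul_left _ (card_Xs_le hF K Φ hbad))
  have hq := HermStd.one_lt_q hF
  have e1 : q ^ 5 * (q + 1).succ = q ^ 6 + q ^ 5 + q ^ 5 := by rw [Nat.succ_eq_add_one]; ring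
  have e2 : (q + 1) * (q ^ 3 + 1) * q ^ 2 = q ^ 6 + q ^ 5 + q ^ 3 + q ^ 2 := by ring
  have e3 : q ^ 2 < q ^ 3 := Nat.pow_lt_pow_right hq (by norm_num)
  have e4 : 2 * q ^ 4 ≤ q ^ 5 := by
    rw [show q ^ 5 = q * q ^ 4 by ring]; exact Nat.mul_le_mul_right _ hq
  have e5 : q ^ 3 < q ^ 4 := Nat.pow_lt_pow_right hq (by norm_num)
  omega

theorem Xs_ne_bot : Xs hF Φ K ≠ ⊥ := by
  intro e
  have h := Xs_ineq hF K Φ hbad hidx
  rw [e, AddSubgroup.card_bot, mul_one] at h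
  have hq := HermStd.one_lt_q hF
  have hi : 0 < (IK hF Φ K).index := Nat.pos_of_ne_zero Subgroup.index_ne_zero_of_finite
  have h' := (Nat.le_mul_of_pos_right (q ^ 5) hi).trans_lt h
  have e1 : (q + 1) * (q ^ 3 + 1) = q ^ 4 + q ^ 3 + q + 1 := by ring
  have e4 : 2 * q ^ 4 ≤ q ^ 5 := by
    rw [show q ^ 5 = q * q ^ 4 by ring]; exact Nat.mul_le_mul_right _ hq
  have e5 : 2 * q ^ 3 ≤ q ^ 4 := by
    rw [show q ^ 4 = q * q ^ 3 by ring]; exact Nat.mul_le_mul_right _ hq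
  have e6 : q + 1 < q ^ 3 := by nlinarith
  omega

end Cfsg.Agent.Classical.Unitary.MinIndex
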