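import Cfsg.Agent.Lib.Classical.UnitaryMinIndex.FourLines

/-!
# No point stabiliser as residual group at a bad point of `SU 4 q`
-/

set_option autoImplicit false
set_option linter.unusedSectionVars false

namespace Cfsg.Agent.Classical.Unitary.MinIndex

open Matrix Cfsg.Agent.Forms Cfsg.Agent.Classical

variable {F : Type*} [Field F] [Fintype F] {q : ℕ} (hF : Fintype.card F = q ^ 2)
  (K : Subgroup (Cfsg.SU 4 F q)) (Φ : Fr F q 4 2)

local notation "V4" => (Fin 4 → F)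
local notation "H4" => Cfsg.hermForm 4 F q
local notation "G4" => Cfsg.SU 4 F q

theorem Fr.smul_mem_lineSet {v : Fin 2 → F} {x : V4} (hx : x ∈ Φ.lineSet v) (c : F) :
    c • x ∈ Φ.lineSet v := by
  obtain ⟨a, b, rfl⟩ := hx
  exact ⟨c * a, c * b, by rw [smul_add, smul_smul, smul_smul]⟩

include hF

theorem good_map_iff {g : G4} (hg : g ∈ K) {r : V4} (hr : H4 r r = 0) :
    Good K (mat g *ᵥ r) ↔ Good K r := by
  refine ⟨fun h => ?_, good_map hF K hg hr⟩
  have := good_map hF K (inv_mem hg) (by rw [SU_H]; exact hr) h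
  rwa [inv_mulVec g rfl] at this

theorem mem_orbit_pt {u : V4} (hu : u ≠ 0) (huu : H4 u u = 0) {p : IsoPt F q 4} :
    p ∈ MulAction.orbit K (pt u hu huu) ↔
      ∃ g ∈ K, ∃ a : F, a ≠ 0 ∧ mat g *ᵥ u = a • p.1.rep := by
  constructor
  · rintro ⟨g, rfl⟩
    obtain ⟨a, ha0, ha⟩ := rep_mk (mat g.1 *ᵥ u) (mat_mulVec_ne_zero g.1 hu)
    refine ⟨g.1, g.2, a⁻¹, inv_ne_zero ha0, ?_⟩
    have e : (g • pt u hu huu).1.rep = a • (mat g.1 *ᵥ u) := by
      show (g.1 • pt u hu huu).1.rep = _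
      rw [smul_pt]
      exact ha
    show _ = a⁻¹ • (g • pt u hu huu).1.rep
    rw [e, inv_smul_smul₀ ha0]
  · rintro ⟨g, hg, a, -, h⟩
    refine ⟨⟨g, hg⟩, ?_⟩
    show g • pt u hu huu = p
    rw [smul_pt]
    have hp : p = pt p.1.rep p.1.rep_nonzero p.2 := Subtype.ext p.1.mk_rep.symm
    rw [hp]
    exact pt_eq_pt.2 ⟨a, h.symm⟩

variable (Ψ : Fr F q 2 0) (hbad : ¬ Good K Φ.u) (hidx : K.index < (q + 1) * (q ^ 3 + 1))
  (hI : IK hF Φ K = lineStab hF Ψ.u)

include hbad hidx hI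

/-- The bad points form one orbit, which contains almost all points. -/
theorem borel_orbit :
    q ^ 3 * (q ^ 2 + 1) < Nat.card (MulAction.orbit K (pt Φ.u Φ.u_ne Φ.uu)) ∧
      ∀ p : IsoPt F q 4, ¬ Good K p.1.rep ↔ p ∈ MulAction.orbit K (pt Φ.u Φ.u_ne Φ.uu) := by
  classical
  have hq := HermStd.one_lt_q hF
  set O := MulAction.orbit K (pt Φ.u Φ.u_ne Φ.uu) with hO
  have hbig : q ^ 3 * (q ^ 2 + 1) < Nat.card O := by
    have h := orbit_ineq hF K Φ hbad hidx
    rw [hI, index_lineStab_two hF Ψ] at h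
    refine Nat.lt_of_mul_lt_mul_left (a := (q + 1) * q ^ 2) ?_
    calc (q + 1) * q ^ 2 * (q ^ 3 * (q ^ 2 + 1)) = q ^ 5 * (q ^ 2 + 1) * (q + 1) := by ring
      _ < _ := h
      _ ≤ (q + 1) * Nat.card O * q ^ 2 := Nat.mul_le_mul_left _ (card_Xs_le hF K Φ hbad)
      _ = _ := by ring
  refine ⟨hbig, fun p => ⟨fun hp => ?_, fun hp hgood => ?_⟩⟩
  · by_contra hout
    obtain ⟨Θ, hΘ⟩ := exists_fr_at hF (n := 4) (m := 2) rfl p.1.rep_nonzero p.2
    have hp' : ¬ Good K Θ.u := by rw [hΘ]; exact hp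
    have hpt : pt Θ.u Θ.u_ne Θ.uu = p := by
      refine Subtype.ext ?_
      show Projectivization.mk F Θ.u _ = p.1
      conv_rhs => rw [← p.1.mk_rep]
      simp only [hΘ]
    have h := orbit_ineq hF K Θ hp' hidx
    rw [hpt] at h
    set O' := MulAction.orbit K p with hO'
    have hi : 0 < (IK hF Θ K).index := Nat.pos_of_ne_zero Subgroup.index_ne_zero_of_finite
    have h' : q ^ 3 * (q ^ 2 + 1) < (q + 1) * Nat.card O' := by
      refine Nat.lt_of_mul_lt_mul_left (a := q ^ 2) ?_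
      calc q ^ 2 * (q ^ 3 * (q ^ 2 + 1)) = q ^ 5 * (q ^ 2 + 1) := by ring
        _ ≤ q ^ 5 * (q ^ 2 + 1) * (IK hF Θ K).index := Nat.le_mul_of_pos_right _ hi
        _ < _ := h
        _ ≤ (q + 1) * Nat.card O' * q ^ 2 := Nat.mul_le_mul_left _ (card_Xs_le hF K Θ hp')
        _ = _ := by ring
    have hdis : Disjoint O O' := Set.disjoint_left.2 fun x hx hx' => hout (by
      rw [hO, ← MulAction.orbit_eq_iff.2 hx, MulAction.orbit_eq_iff.2 hx']
      exact MulAction.mem_orbit_self p)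
    have hsum : Nat.card O + Nat.card O' ≤ (q ^ 2 + 1) * (q ^ 3 + 1) := by
      rw [← natCard_isoPt_four hF, ← Nat.card_sum]
      exact Nat.card_le_card_of_injective (Sum.elim Subtype.val Subtype.val)
        (Subtype.val_injective.sumElim Subtype.val_injective fun a b e =>
          Set.disjoint_left.1 hdis a.2 (e ▸ b.2))
    have e1 : q ^ 3 * (q ^ 2 + 1) = q ^ 5 + q ^ 3 := by ring
    have e2 : (q ^ 2 + 1) * (q ^ 3 + 1) = q ^ 5 + q ^ 3 + q ^ 2 + 1 := by ring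
    have h3 : Nat.card O' ≤ q ^ 2 := by omega
    have h4 := h'.trans_le (Nat.mul_le_mul_left _ h3)
    have e3 : (q + 1) * q ^ 2 = q ^ 3 + q ^ 2 := by ring
    have e4 : q ^ 2 ≤ q ^ 5 := Nat.pow_le_pow_right (by omega) (by norm_num)
    omega
  · obtain ⟨g, hg, a, ha, h⟩ := (mem_orbit_pt hF K _ _).1 hp
    refine hbad ((good_map_iff hF K hg Φ.uu).1 ?_)
    rwa [h, good_smul hF K ha]

set_option maxHeartbeats 1000000 in
/-- The residual group is not a point stabiliser. -/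
theorem borel_false : False := by
  classical
  have hq := HermStd.one_lt_q hF
  obtain ⟨κ, δ, hδ, hS1, hS2⟩ := borel_params hF K Φ Ψ hbad hidx hI
  obtain ⟨hbig, hall⟩ := borel_orbit hF K Φ Ψ hbad hidx hI
  set v := Ψ.u with hvdef
  have hv : Cfsg.hermForm 2 F q v v = 0 := Ψ.uu
  have hv0 : v ≠ 0 := Ψ.u_ne
  set O := MulAction.orbit K (pt Φ.u Φ.u_ne Φ.uu) with hO
  set L := Φ.lineSet v with hL
  let vec : Option F → V4 := Φ.lineVec v
  have hne : ∀ o, vec o ≠ 0 := Φ.lineVec_ne hF hv0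
  have hiso : ∀ o, H4 (vec o) (vec o) = 0 := Φ.lineVec_iso hF hv
  have hstab : ∀ g ∈ K, mat g *ᵥ Φ.u ∈ L → (mat g *ᵥ ·) '' L = L := fun g hg hgu =>
    line_stable hF K Φ Ψ hbad hidx hI hS1 hS2 hg hgu
  have hreach : ∀ o, ¬ Good K (vec o) → ∃ g ∈ K, ∃ a : F, a ≠ 0 ∧ mat g *ᵥ Φ.u = a • vec o := by
    intro o ho
    obtain ⟨g, hg, a, ha, h⟩ := (mem_orbit_pt hF K _ _).1
      ((hall (pt (vec o) (hne o) (hiso o))).1 (fun h => ho ((good_pt_iff hF K _ _).1 h)))
    obtain ⟨b, hb, hb'⟩ := rep_mk (vec o) (hne o)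
    refine ⟨g, hg, a * b, mul_ne_zero ha hb, ?_⟩
    rw [h, show (pt (vec o) (hne o) (hiso o)).1.rep = b • vec o from hb', smul_smul]
  -- the lines
  let Lines := {S : Set V4 // ∃ g ∈ K, (mat g *ᵥ ·) '' L = S}
  have hLex : ∀ S : Lines, ∃ g ∈ K, (mat g *ᵥ ·) '' L = S.1 := fun S => S.2
  choose hh hhK hhS using hLex
  have hback : ∀ (g g' : G4), (mat (g'⁻¹ * g) *ᵥ ·) '' L = L →
      (mat g *ᵥ ·) '' L = (mat g' *ᵥ ·) '' L := by
    intro g g' h
    conv_rhs => rw [← h]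
    rw [← image_image_mul, mul_inv_cancel_left]
  let Bp := {o : Option F // ¬ Good K (vec o)}
  let Gp := {o : Option F // Good K (vec o)}
  let f : Lines × Bp → O := fun x => ⟨pt (mat (hh x.1) *ᵥ vec x.2.1)
    (mat_mulVec_ne_zero _ (hne _)) (by rw [SU_H]; exact hiso _), (hall _).1 (fun h => x.2.2
      ((good_map_iff hF K (hhK x.1) (hiso _)).1 ((good_pt_iff hF K _ _).1 h)))⟩
  have hfinj : Function.Injective f := by
    rintro ⟨S, o⟩ ⟨S', o'⟩ e
    have e' := congrArg Subtype.val e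
    simp only [f, pt_eq_pt] at e'
    obtain ⟨a, ha⟩ := e'
    obtain ⟨k, hk, b, hb, hkb⟩ := hreach o.1 o.2
    obtain ⟨k', hk', b', hb', hkb'⟩ := hreach o'.1 o'.2
    have hkL : (mat k *ᵥ ·) '' L = L :=
      hstab k hk (by rw [hkb]; exact Φ.smul_mem_lineSet (Φ.lineVec_mem v _) _)
    have hkL' : (mat k' *ᵥ ·) '' L = L :=
      hstab k' hk' (by rw [hkb']; exact Φ.smul_mem_lineSet (Φ.lineVec_mem v _) _)
    have hjL := hstab ((hh S' * k')⁻¹ * (hh S * k))
      (mul_mem (inv_mem (mul_mem (hhK S') hk')) (mul_mem (hhK S) hk)) (by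
        have h1 : mat (hh S * k) *ᵥ Φ.u = (b * a / b') • (mat (hh S' * k') *ᵥ Φ.u) := by
          rw [mul_mulVec, hkb, Matrix.mulVec_smul, ← ha, mul_mulVec, hkb', Matrix.mulVec_smul, smul_smul,
            smul_smul, div_mul_cancel₀ _ hb']
        rw [mul_mulVec, h1, Matrix.mulVec_smul, inv_mulVec (hh S' * k') rfl]
        exact ⟨b * a / b', 0, by rw [zero_smul, add_zero]⟩)
    have hSS : S = S' := by
      refine Subtype.ext ?_
      have := hback _ _ hjL
      rwa [image_image_mul, image_image_mul, hkL, hkL', hhS, hhS] at this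
    subst hSS
    have hoo : o.1 = o'.1 := (Φ.lineVec_inj hF hv0 (a := a) (by
      have := congrArg (mat (hh S)⁻¹ *ᵥ ·) ha
      simpa only [Matrix.mulVec_smul, ← mul_mulVec, inv_mul_cancel, mat_one, one_mulVec] using this)).symm
    rw [Subtype.ext hoo]
  have hfsurj : Function.Surjective f := by
    rintro ⟨p, hp⟩
    obtain ⟨g, hg, a, ha, h⟩ := (mem_orbit_pt hF K _ _).1 hp
    let S : Lines := ⟨_, g, hg, rfl⟩
    set j := (hh S)⁻¹ * g
    have hj : (mat j *ᵥ ·) '' L = L := by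
      rw [image_image_mul]
      show (mat (hh S)⁻¹ *ᵥ ·) '' S.1 = L
      rw [← hhS S, ← image_image_mul, inv_mul_cancel]
      simp [mat_one]
    have hju : mat j *ᵥ Φ.u ∈ L := by
      rw [← hj]
      exact ⟨Φ.u, ⟨1, 0, by rw [one_smul, zero_smul, add_zero]⟩, rfl⟩
    obtain ⟨o, b, hb, hob⟩ := Φ.exists_lineVec hF hju (mat_mulVec_ne_zero j Φ.u_ne)
    have hjK : j ∈ K := mul_mem (inv_mem (hhK S)) hg
    have hobad : ¬ Good K (vec o) := fun hgd => hbad ((good_map_iff hF K hjK Φ.uu).1 (by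
      rw [hob, good_smul hF K hb]; exact hgd))
    refine ⟨(S, ⟨o, hobad⟩), Subtype.ext ?_⟩
    show (f (S, ⟨o, hobad⟩)).1 = p
    simp only [f]
    have hp' : p = pt p.1.rep p.1.rep_nonzero p.2 := Subtype.ext p.1.mk_rep.symm
    rw [hp']
    refine pt_eq_pt.2 ⟨a / b, ?_⟩
    have h1 : mat (hh S) *ᵥ (mat j *ᵥ Φ.u) = a • p.1.rep := by
      rw [← mul_mulVec, mul_inv_cancel_left, h]
    rw [hob, Matrix.mulVec_smul] at h1
    refine smul_right_injective _ hb ?_
    show b • ((a / b) • p.1.rep) = b • (mat (hh S) *ᵥ vec o)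
    rw [smul_smul, mul_div_cancel₀ _ hb, h1]
  have hOcard : Nat.card O = Nat.card Lines * Nat.card Bp := by
    rw [← Nat.card_prod]
    exact (Nat.card_eq_of_bijective f ⟨hfinj, hfsurj⟩).symm
  have hBG : Nat.card Gp + Nat.card Bp = q ^ 2 + 1 := by
    have h1 := Nat.card_congr (Equiv.sumCompl fun o : Option F => Good K (vec o))
    rw [Nat.card_sum] at h1
    rw [h1, Finite.card_option, Nat.card_eq_fintype_card, hF]
  -- the good points
  let GP := {p : IsoPt F q 4 // Good K p.1.rep}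
  have hS : Nat.card GP + Nat.card O = (q ^ 2 + 1) * (q ^ 3 + 1) := by
    rw [← natCard_isoPt_four hF, ← Nat.card_congr (Equiv.sumCompl fun p : IsoPt F q 4 => Good K p.1.rep),
      Nat.card_sum]
    congr 1
    exact Nat.card_congr (Equiv.subtypeEquivRight fun p => (hall p).symm)
  have hSle : Nat.card GP ≤ q ^ 2 := by
    have e1 : q ^ 3 * (q ^ 2 + 1) = q ^ 5 + q ^ 3 := by ring
    have e2 : (q ^ 2 + 1) * (q ^ 3 + 1) = q ^ 5 + q ^ 3 + q ^ 2 + 1 := by ring
    omega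
  -- pairs of good points
  let ρ := δ + κ * κ ^ q
  have hQ : ∀ x : F, x * x ^ q - κ * x ^ q - κ ^ q * x - δ = (x - κ) ^ (q + 1) - ρ := fun x => by
    rw [pow_succ', ← HermStd.qHom_apply hF (x - κ), map_sub, HermStd.qHom_apply, HermStd.qHom_apply]
    ring
  have hgood : ∀ x : F, Good K (vec (some x)) ↔ (x - κ) ^ (q + 1) = ρ := fun x => by
    rw [show vec (some x) = Φ.ι Ψ.u + x • Φ.u from rfl, good_line_iff hF K Φ Ψ hbad hidx hI hS1 hS2,
      hQ, sub_eq_zero]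
  have hGnone : ∀ o : Gp, ∃ x, o.1 = some x := by
    rintro ⟨_ | x, ho⟩
    · exact absurd ho hbad
    · exact ⟨x, rfl⟩
  rcases eq_or_ne ρ 0 with hρ | hρ
  · -- one good point on each line
    have hg1 : Nat.card Gp = 1 := by
      rw [Nat.card_eq_one_iff_unique]
      refine ⟨⟨fun o o' => Subtype.ext ?_⟩, ⟨⟨some κ, (hgood κ).2 (by rw [hρ, sub_self]; simp)⟩⟩⟩
      obtain ⟨x, hx⟩ := hGnone o
      obtain ⟨y, hy⟩ := hGnone o'
      have h1 := (hgood x).1 (hx ▸ o.2)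
      have h2 := (hgood y).1 (hy ▸ o'.2)
      rw [hρ, pow_eq_zero_iff (by omega), sub_eq_zero] at h1 h2
      rw [hx, hy, h1, h2]
    rw [hg1, add_comm, add_left_inj] at hBG
    rw [hBG] at hOcard
    have e2 : (q ^ 2 + 1) * (q ^ 3 + 1) = q ^ 2 * (q ^ 3 + q + 1) + 1 := by ring
    rw [e2, hOcard] at hS
    have hS1' : Nat.card GP = 1 := by
      rcases Nat.lt_trichotomy (Nat.card Lines) (q ^ 3 + q + 1) with h | h | h
      · exfalso
        have hmul : q ^ 2 * (Nat.card Lines + 1) ≤ q ^ 2 * (q ^ 3 + q + 1) := Nat.mul_le_mul_left _ h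
        rw [Nat.mul_add, mul_one, mul_comm (q ^ 2) (Nat.card Lines)] at hmul
        omega
      · rw [h, mul_comm] at hS
        omega
      · exfalso
        have hmul : q ^ 2 * (q ^ 3 + q + 1 + 1) ≤ q ^ 2 * Nat.card Lines := Nat.mul_le_mul_left _ h
        rw [Nat.mul_add _ (q ^ 3 + q + 1), mul_one, mul_comm (q ^ 2) (Nat.card Lines)] at hmul
        have : 4 ≤ q ^ 2 := Nat.pow_le_pow_left (show 2 ≤ q from hq) 2
        omega
    obtain ⟨hsub, ⟨P⟩⟩ := Nat.card_eq_one_iff_unique.1 hS1'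
    have hfix : ∀ g ∈ K, ∃ μ : F, mat g *ᵥ P.1.1.rep = μ • P.1.1.rep := by
      intro g hg
      have hgg := good_map hF K hg P.1.2 P.2
      have hne' := mat_mulVec_ne_zero g P.1.1.rep_nonzero
      have hii : H4 (mat g *ᵥ P.1.1.rep) (mat g *ᵥ P.1.1.rep) = 0 := by rw [SU_H]; exact P.1.2
      have e := congrArg Subtype.val
        (@Subsingleton.elim GP hsub ⟨pt _ hne' hii, (good_pt_iff hF K _ _).2 hgg⟩ P)
      have hP : P.1 = pt P.1.1.rep P.1.1.rep_nonzero P.1.2 := Subtype.ext P.1.1.mk_rep.symm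
      obtain ⟨μ, hμ⟩ := (pt_eq_pt (hu := hne') (huu := hii)).1 (e.trans hP)
      exact ⟨μ, hμ.symm⟩
    have hdvd := Subgroup.index_dvd_of_le (le_lineStab hF P.1.1.rep_nonzero hfix)
    rw [index_lineStab_iso hF P.1.1.rep_nonzero P.1.2, natCard_isoPt_four hF] at hdvd
    have hle := Nat.le_of_dvd (Nat.pos_of_ne_zero Subgroup.index_ne_zero_of_finite) hdvd
    have : (q + 1) * (q ^ 3 + 1) ≤ (q ^ 2 + 1) * (q ^ 3 + 1) :=
      Nat.mul_le_mul_right _ (Nat.add_le_add_right (Nat.le_self_pow two_ne_zero q) 1)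
    omega
  · -- several good points on each line
    have hρq : ρ ^ q = ρ := by
      show (δ + κ * κ ^ q) ^ q = δ + κ * κ ^ q
      rw [HermStd.add_pow_q hF, hδ, mul_pow, pow_qq hF, mul_comm]
    obtain ⟨x₀, hx₀⟩ := UnitaryCount.exists_norm_eq hF hρ hρq
    have hx₀0 : x₀ ≠ 0 := fun e => hρ (by rw [← hx₀, e, zero_pow (by omega)])
    have hgq : q + 1 ≤ Nat.card Gp := by
      rw [← natCard_normOne hF]
      refine Nat.card_le_card_of_injective (fun ζ => ⟨some (κ + x₀ * ((ζ.1 : Fˣ) : F)), (hgood _).2 ?_⟩)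
        fun ζ ζ' e => ?_
      · have hN : ((ζ.1 : Fˣ) : F) ^ (q + 1) = 1 := by
          rw [← Units.val_pow_eq_pow_val, show ζ.1 ^ (q + 1) = 1 from ζ.2, Units.val_one]
        rw [add_sub_cancel_left, mul_pow, hN, mul_one, hx₀]
      · have e' := Option.some.inj (congrArg Subtype.val e :)
        exact Subtype.ext (Units.ext (mul_left_cancel₀ hx₀0 (add_left_cancel e')))
    let Pairs := {x : Gp × Gp // x.1 ≠ x.2}
    have hpairs : Nat.card Gp * Nat.card Gp ≤ Nat.card Gp + Nat.card Pairs := by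
      rw [← Nat.card_prod, ← Nat.card_congr (Equiv.sumCompl fun x : Gp × Gp => x.1 = x.2), Nat.card_sum]
      exact Nat.add_le_add_right (Nat.card_le_card_of_injective (fun x => x.1.1) fun x y e =>
        Subtype.ext (Prod.ext e (x.2.symm.trans (e.trans y.2)))) _
    let P4 : Lines → Gp → IsoPt F q 4 := fun S o => pt (mat (hh S) *ᵥ vec o.1)
      (mat_mulVec_ne_zero _ (hne _)) (by rw [SU_H]; exact hiso _)
    have hGPpt : ∀ (S : Lines) (o : Gp), Good K (P4 S o).1.rep := fun S o =>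
      (good_pt_iff hF K _ _).2 (good_map hF K (hhK S) (hiso _) o.2)
    let F2 : Lines × Pairs → GP × GP := fun x =>
      (⟨P4 x.1 x.2.1.1, hGPpt x.1 x.2.1.1⟩, ⟨P4 x.1 x.2.1.2, hGPpt x.1 x.2.1.2⟩)
    have hF2 : Function.Injective F2 := by
      rintro ⟨S, P⟩ ⟨S', P'⟩ e
      have ea : P4 S P.1.1 = P4 S' P'.1.1 := congrArg (fun z : GP × GP => z.1.1) e
      have eb : P4 S P.1.2 = P4 S' P'.1.2 := congrArg (fun z : GP × GP => z.2.1) e
      simp only [P4, pt_eq_pt] at ea eb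
      obtain ⟨a, ha⟩ := ea
      obtain ⟨b, hb⟩ := eb
      obtain ⟨x, hx⟩ := hGnone P.1.1
      obtain ⟨y, hy⟩ := hGnone P.1.2
      have hxy : x ≠ y := fun e => P.2 (Subtype.ext (by rw [hx, hy, e]))
      set j := (hh S')⁻¹ * hh S with hj
      have e1 : mat j *ᵥ vec P.1.1.1 = a • vec P'.1.1.1 := by
        rw [hj, mul_mulVec, ← ha, Matrix.mulVec_smul, inv_mulVec (hh S') rfl]
      have e2 : mat j *ᵥ vec P.1.2.1 = b • vec P'.1.2.1 := by
        rw [hj, mul_mulVec, ← hb, Matrix.mulVec_smul, inv_mulVec (hh S') rfl]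
      obtain ⟨a₁, b₁, hab₁⟩ := Φ.smul_mem_lineSet (Φ.lineVec_mem v P'.1.1.1) a
      obtain ⟨a₂, b₂, hab₂⟩ := Φ.smul_mem_lineSet (Φ.lineVec_mem v P'.1.2.1) b
      rw [show a • vec P'.1.1.1 = _ from hab₁, hx] at e1
      rw [show b • vec P'.1.2.1 = _ from hab₂, hy] at e2
      simp only [vec, Fr.lineVec, Option.elim, Matrix.mulVec_add, Matrix.mulVec_smul] at e1 e2
      have hd : x - y ≠ 0 := sub_ne_zero.2 hxy
      have hju : mat j *ᵥ Φ.u = ((a₁ - a₂) / (x - y)) • Φ.u + ((b₁ - b₂) / (x - y)) • Φ.ι v := by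
        refine smul_right_injective _ hd ?_
        show (x - y) • _ = (x - y) • _
        rw [smul_add, smul_smul, smul_smul, mul_div_cancel₀ _ hd, mul_div_cancel₀ _ hd]
        linear_combination (norm := module) e1 - e2
      have hjv : mat j *ᵥ Φ.ι v = (a₁ - x * ((a₁ - a₂) / (x - y))) • Φ.u +
          (b₁ - x * ((b₁ - b₂) / (x - y))) • Φ.ι v := by
        rw [eq_sub_of_add_eq e1, hju]
        module
      have hSS : S = S' := Subtype.ext (by
        rw [← hhS S, ← hhS S']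
        exact hback _ _ (image_lineSet Φ j ⟨_, _, hju⟩ ⟨_, _, hjv⟩))
      subst hSS
      have hinj : ∀ (o o' : Gp) (c : F), c • (mat (hh S) *ᵥ vec o'.1) = mat (hh S) *ᵥ vec o.1 →
          o = o' := fun o o' c h => Subtype.ext (Φ.lineVec_inj hF hv0 (a := c) (by
        have := congrArg (mat (hh S)⁻¹ *ᵥ ·) h
        simpa only [Matrix.mulVec_smul, ← mul_mulVec, inv_mul_cancel, mat_one, one_mulVec]
          using this)).symm
      rw [Subtype.ext (Prod.ext (hinj _ _ a ha) (hinj _ _ b hb) : P.1 = P'.1)]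
    have hc := Nat.card_le_card_of_injective F2 hF2
    rw [Nat.card_prod, Nat.card_prod] at hc
    have hB : Nat.card Bp ≤ q ^ 2 := by omega
    have hP : q ^ 2 ≤ Nat.card Pairs := by
      have h1 : (q + 1) * Nat.card Gp ≤ Nat.card Gp * Nat.card Gp := Nat.mul_le_mul_right _ hgq
      have h2 : q * (q + 1) ≤ q * Nat.card Gp := Nat.mul_le_mul_left _ hgq
      rw [add_mul, one_mul] at h1
      rw [mul_add, mul_one, ← sq] at h2
      omega
    have h4 : Nat.card O ≤ q ^ 2 * q ^ 2 := by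
      rw [hOcard]
      calc Nat.card Lines * Nat.card Bp ≤ Nat.card Lines * Nat.card Pairs :=
            Nat.mul_le_mul_left _ (hB.trans hP)
        _ ≤ _ := hc
        _ ≤ _ := Nat.mul_le_mul hSle hSle
    have : q ^ 2 * q ^ 2 ≤ q ^ 3 * (q ^ 2 + 1) :=
      Nat.mul_le_mul (Nat.pow_le_pow_right (by omega) (by norm_num)) (Nat.le_succ _)
    omega

end Cfsg.Agent.Classical.Unitary.MinIndex
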