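import Cfsg.Agent.Lib.Classical.UnitaryMinIndex.Two
import Cfsg.Agent.Lib.Classical.UnitaryMinIndex.Pairing

/-!
# Invariant isotropic subgroups of the hermitian plane
-/

set_option autoImplicit false
set_option linter.unusedSectionVars false

namespace Cfsg.Agent.Classical.Unitary.MinIndex

open Matrix Cfsg.Agent.Forms Cfsg.Agent.Classical

variable {F : Type*} [Field F] [Fintype F] {q : ℕ} (hF : Fintype.card F = q ^ 2)

local notation "V2" => (Fin 2 → F)
local notation "H2" => Cfsg.hermForm 2 F q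

include hF

theorem perp_det {x : V2} : H2 x x = x 0 * x 0 ^ q + x 1 * x 1 ^ q := by
  simp [Cfsg.hermForm, Fin.sum_univ_two]

/-- An element fixing an anisotropic vector is trivial. -/
theorem eq_one_of_fix_aniso {A : Cfsg.SU 2 F q} {x : V2} (hxx : H2 x x ≠ 0) (hA : mat A *ᵥ x = x) :
    A = 1 := by
  set y : V2 := ![-x 1 ^ q, x 0 ^ q] with hy
  have hdet : x 0 * y 1 - x 1 * y 0 ≠ 0 := by
    simpa [hy, perp_det hF, sub_neg_eq_add] using hxx
  have hyx : H2 y x = 0 := by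
    simp [Cfsg.hermForm, Fin.sum_univ_two, hy]; ring
  set z := mat A *ᵥ y with hz
  have hzx : H2 z x = 0 := by
    have := SU_H A y x
    rwa [hA, hyx] at this
  -- write the image in the basis
  obtain ⟨a, k, hak⟩ : ∃ a k : F, z = a • x + k • y := by
    refine ⟨(z 0 * y 1 - z 1 * y 0) / (x 0 * y 1 - x 1 * y 0),
      (x 0 * z 1 - x 1 * z 0) / (x 0 * y 1 - x 1 * y 0), funext fun i => ?_⟩
    fin_cases i <;>
      · simp only [Pi.add_apply, Pi.smul_apply, smul_eq_mul, Fin.zero_eta, Fin.mk_one, Fin.isValue]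
        rw [eq_comm, div_mul_eq_mul_div, div_mul_eq_mul_div, ← add_div, div_eq_iff hdet]
        ring
  have ha : a = 0 := by
    rw [hak, H_add_left, H_smul_left, H_smul_left, hyx, mul_zero, add_zero, mul_eq_zero] at hzx
    exact hzx.resolve_right hxx
  rw [ha, zero_smul, zero_add] at hak
  have hdA : (mat A).det = 1 := A.1.2
  have hk : k = 1 := by
    have e1 : ∀ i, mat A i 0 * x 0 + mat A i 1 * x 1 = x i := fun i => by
      have := congrFun hA i
      simpa [Matrix.mulVec, dotProduct, Fin.sum_univ_two] using this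
    have e2 : ∀ i, mat A i 0 * y 0 + mat A i 1 * y 1 = k * y i := fun i => by
      have := congrFun hak i
      simp only [hz, Matrix.mulVec, dotProduct, Fin.sum_univ_two, Pi.smul_apply, smul_eq_mul] at this
      exact this
    rw [Matrix.det_fin_two] at hdA
    refine mul_right_cancel₀ hdet ?_
    linear_combination (-(k * y 1)) * e1 0 + (k * y 0) * e1 1 +
      (mat A 1 0 * x 0 + mat A 1 1 * x 1) * e2 0 - (mat A 0 0 * x 0 + mat A 0 1 * x 1) * e2 1 +
      (x 0 * y 1 - x 1 * y 0) * hdA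
  refine SU_ext fun v => ?_
  rw [mat_one, one_mulVec]
  obtain ⟨a', b', rfl⟩ : ∃ a' b' : F, v = a' • x + b' • y := by
    refine ⟨(v 0 * y 1 - v 1 * y 0) / (x 0 * y 1 - x 1 * y 0),
      (x 0 * v 1 - x 1 * v 0) / (x 0 * y 1 - x 1 * y 0), funext fun i => ?_⟩
    fin_cases i <;>
      · simp only [Pi.add_apply, Pi.smul_apply, smul_eq_mul, Fin.zero_eta, Fin.mk_one, Fin.isValue]
        rw [eq_comm, div_mul_eq_mul_div, div_mul_eq_mul_div, ← add_div, div_eq_iff hdet]
        ring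
  rw [Matrix.mulVec_add, Matrix.mulVec_smul, Matrix.mulVec_smul, hA, ← hz, hak, hk, one_smul]

omit hF

/-- The real span of the basis of a frame. -/
def RealSpan (Ψ : Fr F q 2 0) (x : V2) : Prop := H2 x Ψ.u ^ q = H2 x Ψ.u ∧ H2 x Ψ.s ^ q = H2 x Ψ.s

include hF

/-- The determinant in the basis of a frame. -/
theorem det_frame (Ψ : Fr F q 2 0) (P : Matrix (Fin 2) (Fin 2) F) :
    P.det = H2 (P *ᵥ Ψ.u) Ψ.s * H2 (P *ᵥ Ψ.s) Ψ.u - H2 (P *ᵥ Ψ.u) Ψ.u * H2 (P *ᵥ Ψ.s) Ψ.s := by
  have eu := Ψ.decomp_two hF (P *ᵥ Ψ.u)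
  have es := Ψ.decomp_two hF (P *ᵥ Ψ.s)
  set a := H2 (P *ᵥ Ψ.u) Ψ.s
  set b := H2 (P *ᵥ Ψ.u) Ψ.u
  set c := H2 (P *ᵥ Ψ.s) Ψ.s
  set d := H2 (P *ᵥ Ψ.s) Ψ.u
  have hdet : Ψ.u 0 * Ψ.s 1 - Ψ.u 1 * Ψ.s 0 ≠ 0 := by
    intro h
    have h1 : Ψ.u 1 • Ψ.s - Ψ.s 1 • Ψ.u = 0 := funext fun i => by
      fin_cases i <;> simp <;> first | linear_combination -h | ring
    have h2 : Ψ.u 0 • Ψ.s - Ψ.s 0 • Ψ.u = 0 := funext fun i => by
      fin_cases i <;> simp <;> first | linear_combination h | ring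
    have e1 := congrArg (fun z => H2 z Ψ.u) h1
    have e2 := congrArg (fun z => H2 z Ψ.u) h2
    simp only [H_sub_left, H_smul_left, Ψ.su, Ψ.uu, H_zero_left, mul_one, mul_zero, sub_zero] at e1 e2
    exact Ψ.u_ne (funext fun i => by fin_cases i <;> assumption)
  have p : ∀ i, P i 0 * Ψ.u 0 + P i 1 * Ψ.u 1 = a * Ψ.u i + b * Ψ.s i := fun i => by
    have := congrFun eu i
    simpa [Matrix.mulVec, dotProduct, Fin.sum_univ_two] using this
  have r : ∀ i, P i 0 * Ψ.s 0 + P i 1 * Ψ.s 1 = c * Ψ.u i + d * Ψ.s i := fun i => by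
    have := congrFun es i
    simpa [Matrix.mulVec, dotProduct, Fin.sum_univ_two] using this
  refine mul_right_cancel₀ hdet ?_
  rw [Matrix.det_fin_two]
  linear_combination (P 1 0 * Ψ.s 0 + P 1 1 * Ψ.s 1) * p 0 -
    (P 1 0 * Ψ.u 0 + P 1 1 * Ψ.u 1) * r 0 + (a * Ψ.u 0 + b * Ψ.s 0) * r 1 -
    (c * Ψ.u 0 + d * Ψ.s 0) * p 1

/-- A map preserving a real span has real determinant. -/
theorem det_real (Ψ : Fr F q 2 0) (X : AddSubgroup V2) (hX : ∀ x, x ∈ X ↔ RealSpan Ψ x)
    (P : Matrix (Fin 2) (Fin 2) F) (hP : ∀ x ∈ X, P *ᵥ x ∈ X) : P.det ^ q = P.det := by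
  have hu : Ψ.u ∈ X := (hX _).2 ⟨by rw [Ψ.uu, zero_pow (q_ne_zero hF)], by rw [Ψ.us, one_pow]⟩
  have hs : Ψ.s ∈ X := (hX _).2 ⟨by rw [Ψ.su, one_pow], by rw [Ψ.ss, zero_pow (q_ne_zero hF)]⟩
  obtain ⟨hb, ha⟩ := (hX _).1 (hP _ hu)
  obtain ⟨hd, hc⟩ := (hX _).1 (hP _ hs)
  set a := H2 (P *ᵥ Ψ.u) Ψ.s
  set b := H2 (P *ᵥ Ψ.u) Ψ.u
  set c := H2 (P *ᵥ Ψ.s) Ψ.s
  set d := H2 (P *ᵥ Ψ.s) Ψ.u
  have key : P.det = a * d - b * c := det_frame hF Ψ P
  rw [key, ← HermStd.qHom_apply hF (a * d - b * c), map_sub, map_mul, map_mul, HermStd.qHom_apply,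
    HermStd.qHom_apply, HermStd.qHom_apply, HermStd.qHom_apply, ha, hb, hc, hd]

variable (I : Subgroup (Cfsg.SU 2 F q)) (X : AddSubgroup (Fin 2 → F)) {Z : AddSubgroup F}
  (hinv : ∀ A ∈ I, ∀ w ∈ X, mat A *ᵥ w ∈ X) (hne : Z ≠ skewF hF) (hZ : Z ≤ skewF hF)
  (hcomm : ∀ v ∈ X, ∀ w ∈ X, Cfsg.hermForm 2 F q v w - Cfsg.hermForm 2 F q w v ∈ Z) (hXle : Nat.card X ≤ q ^ 2) (hX0 : X ≠ ⊥)

include hinv hne hZ hcomm hXle hX0

/-- Invariance under the whole group: even characteristic and a real span. -/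
theorem top_real (hI : I = ⊤) :
    (2 : F) = 0 ∧ ∃ Ψ : Fr F q 2 0, ∀ x, x ∈ X ↔ RealSpan Ψ x := by
  classical
  have hq := HermStd.one_lt_q hF
  obtain ⟨v, hv, hv0, hvv⟩ : ∃ v ∈ X, v ≠ 0 ∧ H2 v v = 0 := by
    by_contra hcon
    push Not at hcon
    obtain ⟨x, hx, hx0⟩ : ∃ x ∈ X, x ≠ 0 := by
      by_contra h
      push Not at h
      exact hX0 ((AddSubgroup.eq_bot_iff_forall _).2 h)
    let f : Option (Cfsg.SU 2 F q) → X := fun o =>
      o.elim 0 fun A => ⟨mat A *ᵥ x, hinv A (by rw [hI]; trivial) x hx⟩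
    have hf : Function.Injective f := by
      rintro (_ | A) (_ | B) e
      · rfl
      · exact absurd (congrArg Subtype.val e).symm (mat_mulVec_ne_zero B hx0)
      · exact absurd (congrArg Subtype.val e) (mat_mulVec_ne_zero A hx0)
      · have e' : mat A *ᵥ x = mat B *ᵥ x := congrArg Subtype.val e
        have : mat (B⁻¹ * A) *ᵥ x = x := by
          rw [mul_mulVec, e', ← mul_mulVec, inv_mul_cancel, mat_one, one_mulVec]
        rw [← inv_mul_eq_one.1 (eq_one_of_fix_aniso hF (hcon x hx hx0) this)]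
    have h := (Nat.card_le_card_of_injective f hf).trans hXle
    rw [Finite.card_option, natCard_SU_two hF] at h
    have h2 : 2 ^ 2 ≤ q ^ 2 := Nat.pow_le_pow_left hq 2
    have : 2 * (q ^ 2 - 1) ≤ q * (q ^ 2 - 1) := Nat.mul_le_mul_right _ hq
    omega
  obtain ⟨Ψ, rfl⟩ := exists_fr_at hF (n := 2) (m := 0) rfl hv0 hvv
  have hall : ∀ A, A ∈ I := fun A => by rw [hI]; trivial
  have hreal : ∀ a : F, a ^ q = a → a • Ψ.u ∈ X := by
    intro a ha
    by_cases ha0 : a = 0
    · rw [ha0, zero_smul]; exact zero_mem X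
    obtain ⟨D, hDu, -⟩ := exists_torus_two hF Ψ ha0 ha
    have := hinv D (hall _) _ hv
    rwa [hDu] at this
  have hskew : ∀ c : F, c + c ^ q = 0 → c • Ψ.s ∈ X := by
    intro c hc
    have h := sub_mem (hinv (tvu hF Ψ.ss hc) (hall _) _ hv) hv
    rwa [tvu_mulVec, Ψ.us, mul_one, add_sub_cancel_left] at h
  have h2 : (2 : F) = 0 := by
    by_contra h2
    refine hne (le_antisymm hZ fun t ht => ?_)
    have htq : t ^ q = -t := eq_neg_of_add_eq_zero_right ht
    have h2q : (2 : F) ^ q = 2 := by rw [← HermStd.qHom_apply hF, map_ofNat]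
    have hc : -t / 2 + (-t / 2) ^ q = 0 := by
      rw [div_pow, h2q, ← HermStd.qHom_apply hF (-t), map_neg, HermStd.qHom_apply, htq]
      ring
    have h := hcomm _ hv _ (hskew _ hc)
    rw [H_smul_right, H_smul_left, Ψ.us, Ψ.su, mul_one, mul_one, div_pow, h2q,
      ← HermStd.qHom_apply hF (-t), map_neg, HermStd.qHom_apply, htq] at h
    convert h using 1
    field_simp
    ring
  refine ⟨h2, Ψ, fun x => ⟨fun hx => ?_, fun hx => ?_⟩⟩
  swap
  · rw [Ψ.decomp_two hF x]
    exact add_mem (hreal _ hx.2) (hskew _ (by rw [hx.1]; linear_combination (H2 x Ψ.u) * h2))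
  · by_contra hn
    let f : Option ({a : F // a ^ q = a} × {a : F // a ^ q = a}) → X := fun o =>
      o.elim ⟨x, hx⟩ fun p => ⟨p.1.1 • Ψ.u + p.2.1 • Ψ.s,
        add_mem (hreal _ p.1.2) (hskew _ (by rw [p.2.2]; linear_combination (p.2.1) * h2))⟩
    have hc : ∀ a b : F, H2 (a • Ψ.u + b • Ψ.s) Ψ.u = b ∧ H2 (a • Ψ.u + b • Ψ.s) Ψ.s = a :=
      fun a b => by simp [H_add_left, H_smul_left, Ψ.uu, Ψ.ss, Ψ.us, Ψ.su]
    have hf : Function.Injective f := by
      rintro (_ | p) (_ | p') e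
      · rfl
      · have e' : x = p'.1.1 • Ψ.u + p'.2.1 • Ψ.s := congrArg Subtype.val e
        refine absurd ?_ hn
        rw [e']
        exact ⟨by rw [(hc _ _).1]; exact p'.2.2, by rw [(hc _ _).2]; exact p'.1.2⟩
      · have e' : p.1.1 • Ψ.u + p.2.1 • Ψ.s = x := congrArg Subtype.val e
        refine absurd ?_ hn
        rw [← e']
        exact ⟨by rw [(hc _ _).1]; exact p.2.2, by rw [(hc _ _).2]; exact p.1.2⟩
      · have e' : p.1.1 • Ψ.u + p.2.1 • Ψ.s = p'.1.1 • Ψ.u + p'.2.1 • Ψ.s := congrArg Subtype.val e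
        have e1 := congrArg (H2 · Ψ.u) e'
        have e2 := congrArg (H2 · Ψ.s) e'
        simp only [(hc _ _).1, (hc _ _).2] at e1 e2
        rw [Prod.ext (Subtype.ext e2) (Subtype.ext e1)]
    have h := (Nat.card_le_card_of_injective f hf).trans hXle
    have e : Nat.card {a : F // a ^ q = a} = q := natCard_fixField hF
    rw [Finite.card_option, Nat.card_prod, e, sq] at h
    omega

/-- Invariance under a point stabiliser and dilations: the subgroup lies in the point. -/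
theorem borel_line (Ψ : Fr F q 2 0) (hI : lineStab hF Ψ.u ≤ I)
    (hdil : ∀ μ : F, μ ≠ 0 → ∀ x ∈ X, ∃ r : F, r ≠ 0 ∧ r ^ q = r ∧
      ∃ y ∈ X, H2 y Ψ.u = μ ^ (2 * q) * r * H2 x Ψ.u) :
    ∀ x ∈ X, H2 x Ψ.u = 0 := by
  classical
  intro x hx
  by_contra hb
  have hfix : ∀ (c : F) (hc : c + c ^ q = 0), tvu hF Ψ.uu hc ∈ I := fun c hc =>
    hI ⟨1, one_ne_zero, by rw [tvu_mulVec, Ψ.uu, mul_zero, zero_smul, add_zero, one_smul]⟩
  have hmove : ∀ y ∈ X, ∀ c : F, c + c ^ q = 0 → (c * H2 y Ψ.u) • Ψ.u ∈ X := by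
    intro y hy c hc
    have h := sub_mem (hinv _ (hfix c hc) y hy) hy
    rwa [tvu_mulVec, add_sub_cancel_left] at h
  by_cases h2 : (2 : F) = 0
  · -- all multiples of the point
    obtain ⟨p, k, hp, hk, hpk, hpc⟩ := exists_prime_pow hF
    have : Fact p.Prime := ⟨hp⟩
    have hp2 : p = 2 := by
      have h : ((2 : ℕ) : F) = 0 := by exact_mod_cast h2
      exact ((Nat.prime_dvd_prime_iff_eq hp Nat.prime_two).1 ((CharP.cast_eq_zero_iff F p 2).1 h))
    subst hp2
    have hall : ∀ l : F, l • Ψ.u ∈ X := by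
      intro l
      by_cases hl : l = 0
      · rw [hl, zero_smul]; exact zero_mem X
      obtain ⟨ν, hν⟩ := (Finite.surjective_of_injective (frobenius_inj F 2)) ((l / H2 x Ψ.u) ^ q)
      rw [frobenius_def] at hν
      have hν0 : ν ≠ 0 := fun e => by
        rw [e, zero_pow two_ne_zero] at hν
        exact pow_ne_zero q (div_ne_zero hl hb) hν.symm
      obtain ⟨r, hr0, hr, y, hy, hyu⟩ := hdil ν hν0 x hx
      have h := hmove y hy r⁻¹ (by rw [inv_pow, hr]; linear_combination r⁻¹ * h2)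
      rw [hyu, pow_mul, hν, pow_qq hF] at h
      convert h using 2
      field_simp
    let f : Option F → X := fun o => o.elim ⟨x, hx⟩ fun l => ⟨l • Ψ.u, hall l⟩
    have hf : Function.Injective f := by
      rintro (_ | l) (_ | l') e
      · rfl
      · have e' : x = l' • Ψ.u := congrArg Subtype.val e
        exact absurd (by rw [e', H_smul_left, Ψ.uu, mul_zero]) hb
      · have e' : l • Ψ.u = x := congrArg Subtype.val e
        exact absurd (by rw [← e', H_smul_left, Ψ.uu, mul_zero]) hb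
      · exact congrArg some (smul_left_injective F Ψ.u_ne (congrArg Subtype.val e :))
    have h := (Nat.card_le_card_of_injective f hf).trans hXle
    rw [Finite.card_option, Nat.card_eq_fintype_card (α := F), hF] at h
    omega
  · -- odd characteristic
    refine hne (le_antisymm hZ fun t ht => ?_)
    have htq : t ^ q = -t := eq_neg_of_add_eq_zero_right ht
    set N := H2 x Ψ.u * H2 x Ψ.u ^ q with hN
    have hN0 : N ≠ 0 := mul_ne_zero hb (pow_ne_zero _ hb)
    have hNq : N ^ q = N := by rw [hN, mul_pow, pow_qq hF, mul_comm]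
    have h2q : (2 : F) ^ q = 2 := by rw [← HermStd.qHom_apply hF, map_ofNat]
    set c := -t / (2 * N)
    have hc : c + c ^ q = 0 := by
      simp only [c]
      rw [div_pow, mul_pow, h2q, hNq, ← HermStd.qHom_apply hF (-t), map_neg, HermStd.qHom_apply, htq]
      ring
    have hcq : c ^ q = -c := eq_neg_of_add_eq_zero_right hc
    have h := hcomm x hx _ (hmove x hx c hc)
    rw [H_smul_right, H_smul_left, mul_pow, hcq, ← H_conj hF x Ψ.u] at h
    convert h using 1
    simp only [c, hN]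
    field_simp
    ring

/-- With the real scalars and no fixed point, the group is small. -/
theorem card_le_of_real_closed (h2 : (2 : F) ≠ 0) (hsmul : ∀ r : F, r ^ q = r → ∀ x ∈ X, r • x ∈ X)
    (hfix : ∀ Ψ : Fr F q 2 0, ¬ I ≤ lineStab hF Ψ.u) : Nat.card I ≤ 2 * q := by
  classical
  have hq := HermStd.one_lt_q hF
  have hperp : ∀ v ∈ X, ∀ w ∈ X, H2 v w = H2 w v := by
    intro v hv w hw
    by_contra hd
    refine hne (le_antisymm hZ fun t ht => ?_)
    have htq : t ^ q = -t := eq_neg_of_add_eq_zero_right ht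
    have hd0 : H2 v w - H2 w v ≠ 0 := sub_ne_zero.2 hd
    have hdq : (H2 v w - H2 w v) ^ q = -(H2 v w - H2 w v) := by
      rw [← HermStd.qHom_apply hF (H2 v w - H2 w v), map_sub, HermStd.qHom_apply, HermStd.qHom_apply,
        H_conj hF, H_conj hF]
      ring
    set r := t / (H2 v w - H2 w v)
    have hr : r ^ q = r := by simp only [r]; rw [div_pow, htq, hdq, neg_div_neg_eq]
    have h := hcomm _ (hsmul r hr v hv) w hw
    rw [H_smul_left, H_smul_right, hr, ← mul_sub, div_mul_cancel₀ _ hd0] at h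
    exact h
  have hnorm : ∀ v : V2, H2 v v ^ q = H2 v v := fun v => H_conj hF v v
  obtain ⟨e, he, he0, hee⟩ : ∃ e ∈ X, e ≠ 0 ∧ H2 e e ≠ 0 := by
    by_contra hcon
    push Not at hcon
    obtain ⟨v, hv, hv0⟩ : ∃ x ∈ X, x ≠ 0 := by
      by_contra h
      push Not at h
      exact hX0 ((AddSubgroup.eq_bot_iff_forall _).2 h)
    have hvv := hcon v hv hv0
    obtain ⟨Ψ, rfl⟩ := exists_fr_at hF (n := 2) (m := 0) rfl hv0 hvv
    have hline : ∀ x ∈ X, x = H2 x Ψ.s • Ψ.u := by
      intro x hx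
      have h1 : H2 x Ψ.u = 0 := by
        by_cases hs : x + Ψ.u = 0
        · rw [eq_neg_of_add_eq_zero_left hs, H_neg_left, hvv, neg_zero]
        by_cases hx0 : x = 0
        · rw [hx0, H_zero_left]
        have h := hcon _ (add_mem hx hv) hs
        rw [H_add_left, H_add_right hF, H_add_right hF, hcon x hx hx0, hvv, hperp Ψ.u hv x hx] at h
        have : (2 : F) * H2 x Ψ.u = 0 := by linear_combination h
        exact (mul_eq_zero.1 this).resolve_left h2
      have e := Ψ.decomp_two hF x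
      rwa [h1, zero_smul, add_zero] at e
    exact hfix Ψ (le_lineStab hF Ψ.u_ne fun g hg => ⟨_, hline _ (hinv g hg _ hv)⟩)
  -- an element is determined by the image of the anisotropic vector
  set c := H2 e e with hc
  have hinj : Nat.card I ≤ Nat.card {x : V2 // x ∈ X ∧ H2 x x = c} :=
    Nat.card_le_card_of_injective (fun A => ⟨mat A.1 *ᵥ e, hinv A.1 A.2 e he, by rw [SU_H]⟩) fun A B h => by
      have h' : mat A.1 *ᵥ e = mat B.1 *ᵥ e := congrArg Subtype.val h
      have : mat (B.1⁻¹ * A.1) *ᵥ e = e := by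
        rw [mul_mulVec, h', ← mul_mulVec, inv_mul_cancel, mat_one, one_mulVec]
      exact Subtype.ext (inv_mul_eq_one.1 (eq_one_of_fix_aniso hF hee this)).symm
  refine hinj.trans ?_
  by_cases hdep : ∀ x ∈ X, ∃ r : F, r ^ q = r ∧ x = r • e
  · -- the real multiples of `e`
    choose r hr hxr using hdep
    have hsq : ∀ x : {x : V2 // x ∈ X ∧ H2 x x = c}, r x.1 x.2.1 = 1 ∨ r x.1 x.2.1 = -1 := by
      intro x
      have h := x.2.2
      rw [hxr x.1 x.2.1, H_smul_left, H_smul_right, hr, ← hc, ← mul_assoc] at h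
      refine mul_self_eq_one_iff.1 (mul_right_cancel₀ hee (h.trans (one_mul c).symm))
    have : Nat.card {x : V2 // x ∈ X ∧ H2 x x = c} ≤ Nat.card ({1, -1} : Finset F) :=
      Nat.card_le_card_of_injective (fun x => ⟨r x.1 x.2.1, by simpa using hsq x⟩) fun x y h =>
        Subtype.ext (by rw [hxr x.1 x.2.1, hxr y.1 y.2.1, show r x.1 x.2.1 = r y.1 y.2.1 from congrArg Subtype.val h])
    refine this.trans ?_
    rw [Nat.card_eq_fintype_card, Fintype.card_coe]
    exact Finset.card_le_two.trans (by omega)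
  -- two real dimensions
  push Not at hdep
  obtain ⟨f, hf, hfe⟩ := hdep
  let φ : fixField hF × fixField hF → X := fun p => ⟨p.1.1 • e + p.2.1 • f,
    add_mem (hsmul _ p.1.2 _ he) (hsmul _ p.2.2 _ hf)⟩
  have hφinj : Function.Injective φ := by
    rintro ⟨a, b⟩ ⟨a', b'⟩ h
    have h' : a.1 • e + b.1 • f = a'.1 • e + b'.1 • f := congrArg Subtype.val h
    have hbb : b = b' := by
      by_contra hne'
      have hd : b.1 - b'.1 ≠ 0 := sub_ne_zero.2 fun h => hne' (Subtype.ext h)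
      refine hfe ((a'.1 - a.1) / (b.1 - b'.1)) ?_ (smul_right_injective _ hd ?_)
      · rw [← HermStd.qHom_apply hF, map_div₀, map_sub, map_sub]
        simp only [HermStd.qHom_apply]
        rw [(mem_fixField hF).1 a.2, (mem_fixField hF).1 a'.2, (mem_fixField hF).1 b.2,
          (mem_fixField hF).1 b'.2]
      · show (b.1 - b'.1) • f = (b.1 - b'.1) • (((a'.1 - a.1) / (b.1 - b'.1)) • e)
        rw [smul_smul, mul_div_cancel₀ _ hd, sub_smul, sub_smul]
        linear_combination (norm := module) h'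
    subst hbb
    exact Prod.ext (Subtype.ext (smul_left_injective F he0 (add_right_cancel h'))) rfl
  have hφ : Function.Surjective φ := by
    refine (Function.Injective.bijective_of_nat_card_le hφinj ?_).2
    rw [Nat.card_prod, natCard_fixField hF, ← sq]
    exact hXle
  have hspec : ∀ x : {x : V2 // x ∈ X ∧ H2 x x = c}, ∃ p : fixField hF × fixField hF,
      x.1 = p.1.1 • e + p.2.1 • f := fun x => by
    obtain ⟨p, hp⟩ := hφ ⟨x.1, x.2.1⟩
    exact ⟨p, (congrArg Subtype.val hp).symm⟩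
  choose g hg using hspec
  let S : fixField hF → Finset F := fun b => (Finset.univ : Finset F).filter fun a =>
    H2 (a • e + b.1 • f) (a • e + b.1 • f) = c ∧ a ^ q = a
  have hS : ∀ b, (S b).card ≤ 2 := by
    intro b
    by_contra hcon
    rw [not_le, Finset.two_lt_card] at hcon
    obtain ⟨a₁, h₁, a₂, h₂, a₃, h₃, h12, h13, h23⟩ := hcon
    simp only [S, Finset.mem_filter, Finset.mem_univ, true_and, H_add_left, H_add_right hF, H_smul_left,
      H_smul_right] at h₁ h₂ h₃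
    obtain ⟨h₁, r₁⟩ := h₁
    obtain ⟨h₂, r₂⟩ := h₂
    obtain ⟨h₃, r₃⟩ := h₃
    have hb := b.2
    rw [mem_fixField] at hb
    rw [r₁, hb, hperp f hf e he] at h₁
    rw [r₂, hb, hperp f hf e he] at h₂
    rw [r₃, hb, hperp f hf e he] at h₃
    have e12 : (a₁ - a₂) * ((a₁ + a₂) * c + 2 * b.1 * H2 e f) = 0 := by linear_combination h₁ - h₂
    have e13 : (a₁ - a₃) * ((a₁ + a₃) * c + 2 * b.1 * H2 e f) = 0 := by linear_combination h₁ - h₃
    have f12 := (mul_eq_zero.1 e12).resolve_left (sub_ne_zero.2 h12)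
    have f13 := (mul_eq_zero.1 e13).resolve_left (sub_ne_zero.2 h13)
    have : (a₂ - a₃) * c = 0 := by linear_combination f12 - f13
    exact h23 (sub_eq_zero.1 ((mul_eq_zero.1 this).resolve_right hee))
  have hle : Nat.card {x : V2 // x ∈ X ∧ H2 x x = c} ≤ Nat.card (Σ b : fixField hF, S b) :=
    Nat.card_le_card_of_injective (fun x => ⟨(g x).2, ⟨(g x).1.1, by
      simp only [S, Finset.mem_filter, Finset.mem_univ, true_and]
      exact ⟨by rw [← hg x]; exact x.2.2, (g x).1.2⟩⟩⟩) fun x y h => by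
      have h1 : (g x).2 = (g y).2 := congrArg Sigma.fst h
      refine Subtype.ext ?_
      rw [hg x, hg y]
      have : ((g x).1.1 : F) = (g y).1.1 := congrArg (fun p : Σ b : fixField hF, S b => (p.2.1 : F)) h
      rw [this, h1]
  refine hle.trans ?_
  have : Fintype (fixField hF) := Fintype.ofFinite _
  rw [Nat.card_eq_fintype_card, Fintype.card_sigma]
  refine (Finset.sum_le_card_nsmul _ _ 2 fun b _ => by rw [Fintype.card_coe]; exact hS b).trans ?_
  rw [Finset.card_univ, ← Nat.card_eq_fintype_card, natCard_fixField hF, smul_eq_mul, mul_comm]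

end Cfsg.Agent.Classical.Unitary.MinIndex
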