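import Cfsg.Agent.Lib.Classical.UnitaryMinIndex.FourBound
import Cfsg.Agent.Lib.Classical.UnitaryMinIndex.PlaneX

/-!
# Lifts of residual elements at a point of `SU 4 q`
-/

set_option autoImplicit false
set_option linter.unusedSectionVars false

namespace Cfsg.Agent.Classical.Unitary.MinIndex

open Matrix Cfsg.Agent.Forms Cfsg.Agent.Classical

variable {F : Type*} [Field F] [Fintype F] {q : ℕ} (hF : Fintype.card F = q ^ 2)
  (K : Subgroup (Cfsg.SU 4 F q)) (Φ : Fr F q 4 2)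

local notation "W2" => (Fin 2 → F)
local notation "H2" => Cfsg.hermForm 2 F q
local notation "G4" => Cfsg.SU 4 F q

include hF

theorem Fr.Amat_mul {g k : G4} {μ ν : F} (hg : mat g *ᵥ Φ.u = μ • Φ.u)
    (hk : mat k *ᵥ Φ.u = ν • Φ.u) : Φ.Amat (g * k) = Φ.Amat g * Φ.Amat k := by
  refine mat_ext fun x => ?_
  obtain ⟨c, hc⟩ := Φ.move_ι hF hk x
  rw [← Matrix.mulVec_mulVec, Φ.Amat_mulVec, mul_mulVec, hc, Matrix.mulVec_add, Matrix.mulVec_smul, hg,
    map_add, map_smul, map_smul, Φ.π_u hF, smul_zero, smul_zero, zero_add, ← Φ.Amat_mulVec]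

/-- Two members with the same residual data. -/
theorem param_sub_mem {g k : G4} (hg : g ∈ K) (hk : k ∈ K) {w : W2} {a b : F}
    {A : Matrix (Fin 2) (Fin 2) F} {B : Matrix (Fin 2) (Fin 2) F} (hAB : A * B = 1)
    (hga : mat g = Φ.EM w a * Φ.XM A) (hkb : mat k = Φ.EM w b * Φ.XM A) :
    a - b ∈ Zs hF Φ K := by
  refine ⟨g * k⁻¹, mul_mem hg (inv_mem hk), ?_⟩
  have h2 : Φ.XM A * Φ.XM B = 1 := by rw [Φ.XM_mul hF, hAB, Φ.XM_one hF]
  have h1 : mat (g * k⁻¹) * mat k = mat g := by rw [← mat_mul, inv_mul_cancel_right]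
  rw [hga, hkb, ← Matrix.mul_assoc] at h1
  have h3 := congrArg (· * Φ.XM B) h1
  simp only [Matrix.mul_assoc, h2, Matrix.mul_one] at h3
  have h4 : Φ.EM w b * Φ.EM (-w) (-b - H2 w w) = 1 := by
    rw [Φ.EM_mul hF, add_neg_cancel, H_neg_left, ← Φ.EM_one hF]
    congr 1
    ring
  have h5 := congrArg (· * Φ.EM (-w) (-b - H2 w w)) h3
  simp only [Matrix.mul_assoc, h4, Matrix.mul_one] at h5
  rw [h5, Φ.EM_mul hF, add_neg_cancel, H_neg_left]
  congr 1
  ring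

/-- Conjugation of a unipotent element by a lift. -/
theorem conj_unip {g e : G4} {y w : W2} {b a : F} {A : Cfsg.SU 2 F q}
    (hg : mat g = Φ.EM y b * Φ.XM (mat A)) (he : mat e = Φ.EM w a) :
    mat (g * e * g⁻¹) =
      Φ.EM (mat A *ᵥ w) (a + H2 y (mat A *ᵥ w) - H2 (mat A *ᵥ w) y) := by
  have hA := A.2
  have hgg : mat g * mat g⁻¹ = 1 := by rw [← mat_mul, mul_inv_cancel, mat_one]
  have h1 : Φ.EM (mat A *ᵥ w) (a + H2 y (mat A *ᵥ w) - H2 (mat A *ᵥ w) y) * mat g = mat g * mat e := by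
    rw [hg, he, ← Matrix.mul_assoc, Φ.EM_mul hF, Matrix.mul_assoc (Φ.EM y b), Φ.XM_EM hF (A := mat A) hA,
      ← Matrix.mul_assoc, Φ.EM_mul hF]
    rw [add_comm (mat A *ᵥ w) y]
    congr 2
    ring
  rw [mat_mul, mat_mul, ← h1, Matrix.mul_assoc, hgg, Matrix.mul_one]

/-- The scalars act on the residual group. -/
theorem semilinear_Xs {g : G4} (hg : g ∈ K) {μ : F} (hμ : mat g *ᵥ Φ.u = μ • Φ.u) :
    ∀ x ∈ Xs hF Φ K, (μ ^ q • Φ.Amat g) *ᵥ x ∈ Xs hF Φ K := fun x hx => by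
  rw [Matrix.smul_mulVec]
  exact Xs_invariant hF Φ K hg hμ hx

/-- With a real span the scalars are real. -/
theorem muHom_real (h2 : (2 : F) = 0) (Ψ : Fr F q 2 0) (hX : ∀ x, x ∈ Xs hF Φ K ↔ RealSpan Ψ x)
    {μ : Fˣ} (hμ : μ ∈ (muHom hF Φ K).range) : (μ : F) ^ q = μ := by
  obtain ⟨g, rfl⟩ := hμ
  set m : F := ((muHom hF Φ K g : Fˣ) : F)
  have hm0 : m ≠ 0 := (muHom hF Φ K g).ne_zero
  have hgu : mat g.1 *ᵥ Φ.u = m • Φ.u := muHom_spec hF Φ K g
  have hd := det_real hF Ψ (Xs hF Φ K) hX _ (semilinear_Xs hF K Φ g.2.1 hgu)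
  have hdA := Φ.det_Amat hF hgu
  have hA : (Φ.Amat g.1).det = m ^ q / m := by
    field_simp at hdA ⊢
    linear_combination hdA
  rw [Matrix.det_smul, Fintype.card_fin, hA] at hd
  have hmq : m ^ q ≠ 0 := pow_ne_zero _ hm0
  rw [mul_pow, div_pow, pow_qq hF, ← pow_mul, mul_comm 2 q, pow_mul, pow_qq hF] at hd
  field_simp at hd
  obtain ⟨p, k, hp, hk, hpk, hpc⟩ := exists_prime_pow hF
  have : Fact p.Prime := ⟨hp⟩
  have hp2 : p = 2 := by
    have h : ((2 : ℕ) : F) = 0 := by exact_mod_cast h2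
    exact (Nat.prime_dvd_prime_iff_eq hp Nat.prime_two).1 ((CharP.cast_eq_zero_iff F p 2).1 h)
  subst hp2
  have h4 : (m ^ q) ^ 4 = m ^ 4 := by linear_combination -hd
  apply frobenius_inj F 2
  apply frobenius_inj F 2
  simp only [frobenius_def]
  linear_combination h4

end Cfsg.Agent.Classical.Unitary.MinIndex
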