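import Cfsg.Agent.Lib.Classical.UnitaryMinIndex.FourBorel

/-!
# The lines of a point stabiliser of `SU 4 q`
-/

set_option autoImplicit false
set_option linter.unusedSectionVars false

namespace Cfsg.Agent.Classical.Unitary.MinIndex

open Matrix Cfsg.Agent.Forms Cfsg.Agent.Classical

variable {F : Type*} [Field F] [Fintype F] {q : ℕ} (hF : Fintype.card F = q ^ 2)
  (K : Subgroup (Cfsg.SU 4 F q)) (Φ : Fr F q 4 2)

local notation "W2" => (Fin 2 → F)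
local notation "V4" => (Fin 4 → F)
local notation "H2" => Cfsg.hermForm 2 F q
local notation "H4" => Cfsg.hermForm 4 F q
local notation "G4" => Cfsg.SU 4 F q

/-- The line through the point and a vector of the complement. -/
def Fr.lineSet (v : Fin 2 → F) : Set (Fin 4 → F) := {x | ∃ a b : F, x = a • Φ.u + b • Φ.ι v}

/-- The vectors spanning the points of the line. -/
def Fr.lineVec (v : Fin 2 → F) (o : Option F) : Fin 4 → F := o.elim Φ.u fun x => Φ.ι v + x • Φ.u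

theorem Fr.mem_lineSet {v : W2} (a b : F) : a • Φ.u + b • Φ.ι v ∈ Φ.lineSet v := ⟨a, b, rfl⟩

theorem Fr.lineVec_mem (v : W2) (o : Option F) : Φ.lineVec v o ∈ Φ.lineSet v := by
  rcases o with _ | x
  · exact ⟨1, 0, by rw [one_smul, zero_smul, add_zero]; rfl⟩
  · exact ⟨x, 1, by rw [one_smul, add_comm]; rfl⟩

include hF

theorem Fr.lineVec_ne {v : W2} (hv : v ≠ 0) (o : Option F) : Φ.lineVec v o ≠ 0 := by
  rcases o with _ | x
  · exact Φ.u_ne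
  · intro e
    have h := congrArg Φ.π (show Φ.ι v + x • Φ.u = 0 from e)
    rw [map_add, map_smul, Φ.π_u hF, smul_zero, add_zero, Φ.π_ι hF, map_zero] at h
    exact hv h

theorem Fr.lineVec_iso {v : W2} (hv : H2 v v = 0) (o : Option F) :
    H4 (Φ.lineVec v o) (Φ.lineVec v o) = 0 := by
  rcases o with _ | x
  · exact Φ.uu
  · exact iso_line hF Φ hv x

theorem Fr.exists_lineVec {v : W2} {x : V4} (hx : x ∈ Φ.lineSet v) (hx0 : x ≠ 0) :
    ∃ (o : Option F) (a : F), a ≠ 0 ∧ x = a • Φ.lineVec v o := by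
  obtain ⟨a, b, rfl⟩ := hx
  by_cases hb : b = 0
  · refine ⟨none, a, fun ha => hx0 ?_, ?_⟩
    · rw [ha, hb, zero_smul, zero_smul, add_zero]
    · rw [hb, zero_smul, add_zero]; rfl
  · refine ⟨some (a / b), b, hb, ?_⟩
    show _ = b • (Φ.ι v + (a / b) • Φ.u)
    rw [smul_add, smul_smul, mul_div_cancel₀ _ hb, add_comm]

theorem Fr.lineVec_inj {v : W2} (hv : v ≠ 0) {o o' : Option F} {a : F}
    (h : a • Φ.lineVec v o = Φ.lineVec v o') : o = o' := by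
  have hπ : ∀ x : F, Φ.π (Φ.ι v + x • Φ.u) = v := fun x => by
    rw [map_add, map_smul, Φ.π_u hF, smul_zero, add_zero, Φ.π_ι hF]
  have h1 := congrArg Φ.π h
  rw [map_smul] at h1
  rcases o with _ | x <;> rcases o' with _ | y
  · rfl
  · simp only [Fr.lineVec, Option.elim, Φ.π_u hF, smul_zero, hπ] at h1
    exact absurd h1.symm hv
  · simp only [Fr.lineVec, Option.elim, Φ.π_u hF, hπ, smul_eq_zero] at h1
    rw [h1.resolve_right hv, zero_smul] at h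
    exact absurd h.symm Φ.u_ne
  · simp only [Fr.lineVec, Option.elim, hπ] at h1
    have ha : a = 1 := smul_left_injective F hv (h1.trans (one_smul F v).symm)
    rw [ha, one_smul] at h
    exact congrArg some (smul_left_injective F Φ.u_ne (add_left_cancel h))

omit hF in
/-- An injective image inside the line is the line. -/
theorem image_lineSet {v : W2} (g : G4) (hu : mat g *ᵥ Φ.u ∈ Φ.lineSet v)
    (hv : mat g *ᵥ Φ.ι v ∈ Φ.lineSet v) : (mat g *ᵥ ·) '' Φ.lineSet v = Φ.lineSet v := by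
  refine Set.eq_of_subset_of_ncard_le ?_ ?_ (Set.toFinite _)
  · rintro _ ⟨x, ⟨a, b, rfl⟩, rfl⟩
    obtain ⟨a₁, b₁, h₁⟩ := hu
    obtain ⟨a₂, b₂, h₂⟩ := hv
    refine ⟨a * a₁ + b * a₂, a * b₁ + b * b₂, ?_⟩
    simp only [Matrix.mulVec_add, Matrix.mulVec_smul, h₁, h₂]
    module
  · rw [Set.ncard_image_of_injective]
    intro x y (e : mat g *ᵥ x = mat g *ᵥ y)
    have := congrArg (mat g⁻¹ *ᵥ ·) e
    simpa only [← mul_mulVec, inv_mul_cancel, mat_one, one_mulVec] using this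

omit hF in
theorem image_image_mul (g h : G4) (S : Set V4) :
    (mat (g * h) *ᵥ ·) '' S = (mat g *ᵥ ·) '' ((mat h *ᵥ ·) '' S) := by
  rw [Set.image_image]
  exact Set.image_congr fun x _ => mul_mulVec g h x

variable (Ψ : Fr F q 2 0) (hbad : ¬ Good K Φ.u) (hidx : K.index < (q + 1) * (q ^ 3 + 1))
  (hI : IK hF Φ K = lineStab hF Ψ.u) {κ δ : F}
  (hS1 : ∀ c : F, ∃ g : Cfsg.SU 4 F q, g ∈ K ∧ mat g = Φ.EM (c • Ψ.u) (κ * c - κ ^ q * c ^ q))
  (hS2 : ∀ (t : F) (ht : t + t ^ q = 0), ∃ g : Cfsg.SU 4 F q, g ∈ K ∧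
    mat g = Φ.EM 0 (δ * t) * Φ.XM (mat (tvu hF Ψ.uu ht)))

include hbad hidx hI hS1 hS2

/-- The good points of the line. -/
theorem good_line_iff (x : F) :
    Good K (Φ.ι Ψ.u + x • Φ.u) ↔ x * x ^ q - κ * x ^ q - κ ^ q * x - δ = 0 := by
  obtain ⟨hZ, -⟩ := borel_card hF K Φ Ψ hbad hidx hI
  have hiso : H4 (Φ.ι Ψ.u + x • Φ.u) (Φ.ι Ψ.u + x • Φ.u) = 0 := iso_line hF Φ Ψ.uu x
  have h0 : (0 : F) + 0 ^ q = 0 := by simp [zero_pow (q_ne_zero hF)]
  have hmat : ∀ (t : F) (ht : t + t ^ q = 0), mat (tvu hF hiso ht) =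
      Φ.EM ((t * x ^ q) • Ψ.u) (t * x ^ (q + 1)) * Φ.XM (mat (tvu hF Ψ.uu ht)) := by
    intro t ht
    have h := tv_decomp hF Φ Ψ.uu ht x 0
    rw [zero_add, ← Φ.EM_zero hF, Φ.EM_one hF, Matrix.one_mul] at h
    exact h
  have hS : ∀ (t : F) (ht : t + t ^ q = 0), ∃ g : G4, g ∈ K ∧ mat g = Φ.EM ((t * x ^ q) • Ψ.u)
      (κ * (t * x ^ q) - κ ^ q * (t * x ^ q) ^ q + δ * t) * Φ.XM (mat (tvu hF Ψ.uu ht)) := by
    intro t ht
    obtain ⟨e, he, hee⟩ := hS1 (t * x ^ q)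
    obtain ⟨k, hk, hkk⟩ := hS2 t ht
    exact ⟨e * k, mul_mem he hk, by
      rw [mat_mul, hee, hkk, ← Matrix.mul_assoc, Φ.EM_mul hF, add_zero, H_zero_left, sub_zero]⟩
  have hval : ∀ t : F, t + t ^ q = 0 →
      κ * (t * x ^ q) - κ ^ q * (t * x ^ q) ^ q + δ * t = t * (κ * x ^ q + κ ^ q * x + δ) := by
    intro t ht
    rw [mul_pow, pow_qq hF, show t ^ q = -t from eq_neg_of_add_eq_zero_right ht]
    ring
  rw [good_iff hF K hiso]
  constructor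
  · intro h
    obtain ⟨t, ht0, ht⟩ := exists_traceZero hF
    obtain ⟨g, hg, hgm⟩ := hS t ht
    have hd := param_sub_mem hF K Φ (h t ht) hg
      (show mat (tvu hF Ψ.uu ht) * mat (tvu hF Ψ.uu ht)⁻¹ = 1 by rw [← mat_mul, mul_inv_cancel, mat_one])
      (hmat t ht) hgm
    rw [hZ, AddSubgroup.mem_bot, hval t ht, ← mul_sub, mul_eq_zero, or_iff_right ht0, pow_succ] at hd
    linear_combination hd
  · intro h t ht
    obtain ⟨g, hg, hgm⟩ := hS t ht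
    suffices e : tvu hF hiso ht = g by rwa [e]
    refine SU_ext fun z => ?_
    rw [hmat t ht, hgm, hval t ht, pow_succ]
    congr 3
    linear_combination t * h

/-- The line is stable at each of its points in the orbit. -/
theorem line_stable {h : G4} (hh : h ∈ K) (hu : mat h *ᵥ Φ.u ∈ Φ.lineSet Ψ.u) :
    (mat h *ᵥ ·) '' Φ.lineSet Ψ.u = Φ.lineSet Ψ.u := by
  have hv : H4 (Φ.ι Ψ.u) (Φ.ι Ψ.u) = 0 := by rw [Φ.ii, Ψ.uu]
  obtain ⟨a, b, hab⟩ := hu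
  obtain ⟨c, hc0, hc⟩ : ∃ c : F, c ≠ 0 ∧ (b = 0 ∨
      κ * c - κ ^ q * c ^ q + c ^ q * (a / b) ^ q = c * (a / b)) := by
    by_cases hb : b = 0
    · exact ⟨1, one_ne_zero, Or.inl hb⟩
    by_cases hx : κ = a / b
    · refine ⟨1, one_ne_zero, Or.inr ?_⟩
      rw [← hx, one_pow]
      ring
    · refine ⟨(κ - a / b) ^ q, pow_ne_zero _ (sub_ne_zero.2 hx), Or.inr ?_⟩
      have e : (κ - a / b) ^ q = κ ^ q - (a / b) ^ q := by
        rw [← HermStd.qHom_apply hF, map_sub, HermStd.qHom_apply, HermStd.qHom_apply]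
      rw [pow_qq hF, e]
      ring
  obtain ⟨y, hy, hym⟩ := hS1 c
  set A := κ * c - κ ^ q * c ^ q
  have hyz : ∀ z, mat y *ᵥ z = z +
      ((H4 z Φ.u) • (c • Φ.ι Ψ.u + A • Φ.u) - (c ^ q * H4 z (Φ.ι Ψ.u)) • Φ.u) := fun z => by
    rw [hym, Φ.EM_mulVec, map_smul, H_smul_right, smul_neg, ← sub_eq_add_neg]
  have hline : ∀ z, H4 z (mat h *ᵥ Φ.u) = 0 → ∃ β : F, mat y *ᵥ z = z + β • (mat h *ᵥ Φ.u) := by
    intro z hz
    rw [hab, H_add_right hF, H_smul_right, H_smul_right] at hz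
    by_cases hb : b = 0
    · have ha : a ≠ 0 := fun ha => mat_mulVec_ne_zero h Φ.u_ne (by
        rw [hab, ha, hb, zero_smul, zero_smul, add_zero])
      rw [hb, zero_pow (q_ne_zero hF), zero_mul, add_zero, mul_eq_zero,
        or_iff_right (pow_ne_zero _ ha)] at hz
      refine ⟨-(c ^ q * H4 z (Φ.ι Ψ.u)) / a, ?_⟩
      rw [hyz, hz, hab, hb, zero_smul, zero_smul, add_zero, zero_sub, smul_smul, div_mul_cancel₀ _ ha,
        neg_smul]
    · have hc' := hc.resolve_left hb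
      have hιv : H4 z (Φ.ι Ψ.u) = -((a / b) ^ q * H4 z Φ.u) := by
        have hbq := pow_ne_zero q hb
        rw [div_pow]
        field_simp
        linear_combination hz
      refine ⟨H4 z Φ.u * c / b, ?_⟩
      rw [hyz, hab, hιv, smul_add, smul_smul, smul_smul]
      match_scalars
      · ring
      · field_simp
      · field_simp at hc' ⊢
        linear_combination (H4 z Φ.u) * hc'
  have hyfix : mat y *ᵥ (mat h *ᵥ Φ.u) = mat h *ᵥ Φ.u := by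
    rw [hyz, hab]
    simp [H_add_left, H_smul_left, Φ.uu, Φ.iu, Φ.ui hF, hv]
  set k := h⁻¹ * y * h
  have hk : k ∈ K := mul_mem (mul_mem (inv_mem hh) hy) hh
  have hku : mat k *ᵥ Φ.u = Φ.u := by
    show mat (h⁻¹ * y * h) *ᵥ Φ.u = _
    rw [mul_mulVec, mul_mulVec, hyfix, inv_mulVec h rfl]
  have hkA : Φ.Amat k = 1 := by
    refine mat_ext fun x => ?_
    rw [Φ.Amat_mulVec, one_mulVec]
    show Φ.π (mat (h⁻¹ * y * h) *ᵥ Φ.ι x) = x
    obtain ⟨β, hβ⟩ := hline (mat h *ᵥ Φ.ι x) (by rw [SU_H, Φ.iu])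
    rw [mul_mulVec, mul_mulVec, hβ, Matrix.mulVec_add, Matrix.mulVec_smul, inv_mulVec h rfl,
      inv_mulVec h rfl, map_add, map_smul, Φ.π_u hF, smul_zero, add_zero, Φ.π_ι hF]
  have hkEM := Φ.eq_EM hF hku hkA
  obtain ⟨e, he⟩ := (borel_Xs hF K Φ Ψ hbad hidx hI).1 ⟨_, k, hk, hkEM⟩
  rw [he] at hkEM
  have hback : ∀ z : V4, mat h⁻¹ *ᵥ (mat y *ᵥ z - z) ∈ Φ.lineSet Ψ.u := by
    intro z
    have e1 : mat h⁻¹ *ᵥ (mat y *ᵥ z - z) = mat k *ᵥ (mat h⁻¹ *ᵥ z) - mat h⁻¹ *ᵥ z := by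
      show _ = mat (h⁻¹ * y * h) *ᵥ _ - _
      rw [mul_mulVec, ← mul_mulVec h, mul_inv_cancel, mat_one, one_mulVec, mul_mulVec, Matrix.mulVec_sub]
    rw [e1, hkEM, Φ.EM_mulVec, map_smul, add_sub_cancel_left]
    refine ⟨H4 (mat h⁻¹ *ᵥ z) Φ.u * H4 (mat k *ᵥ Φ.s) Φ.s - H4 (mat h⁻¹ *ᵥ z) (e • Φ.ι Ψ.u),
      H4 (mat h⁻¹ *ᵥ z) Φ.u * e, ?_⟩
    module
  have h1 := hback (Φ.ι Ψ.s)
  rw [hyz, Φ.iu, Φ.ii, Ψ.su, zero_smul, zero_sub, mul_one, add_sub_cancel_left, Matrix.mulVec_neg,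
    Matrix.mulVec_smul] at h1
  obtain ⟨a₁, b₁, h1⟩ := h1
  have hcq := pow_ne_zero q hc0
  have hu' : mat h⁻¹ *ᵥ Φ.u ∈ Φ.lineSet Ψ.u := by
    refine ⟨-a₁ / c ^ q, -b₁ / c ^ q, smul_right_injective _ hcq ?_⟩
    show c ^ q • _ = c ^ q • _
    rw [neg_eq_iff_eq_neg] at h1
    rw [h1, smul_add, smul_smul, smul_smul, mul_div_cancel₀ _ hcq, mul_div_cancel₀ _ hcq, neg_add,
      neg_smul, neg_smul]
  have h2 := hback Φ.s
  rw [hyz, Φ.su, Φ.si hF, one_smul, mul_zero, zero_smul, sub_zero, add_sub_cancel_left, Matrix.mulVec_add,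
    Matrix.mulVec_smul, Matrix.mulVec_smul] at h2
  obtain ⟨a₂, b₂, h2⟩ := h2
  obtain ⟨a₀, b₀, h0⟩ := hu'
  have hv' : mat h⁻¹ *ᵥ Φ.ι Ψ.u ∈ Φ.lineSet Ψ.u := by
    refine ⟨(a₂ - A * a₀) / c, (b₂ - A * b₀) / c, smul_right_injective _ hc0 ?_⟩
    show c • _ = c • _
    rw [eq_sub_of_add_eq h2, h0]
    match_scalars <;> field_simp <;> ring
  have himg := image_lineSet Φ h⁻¹ ⟨a₀, b₀, h0⟩ hv'
  conv_lhs => rw [← himg]
  rw [← image_image_mul, mul_inv_cancel]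
  simp [mat_one]

end Cfsg.Agent.Classical.Unitary.MinIndex
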