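import Cfsg.Agent.Lib.Classical.UnitaryMinIndex.FourTwoTop

/-!
# The minimal index of a proper subgroup of `SU 4 q`
-/

set_option autoImplicit false
set_option linter.unusedSectionVars false

namespace Cfsg.Agent.Classical.Unitary.MinIndex

open Matrix Cfsg.Agent.Forms Cfsg.Agent.Classical

variable {F : Type*} [Field F] [Fintype F] {q : ℕ} (hF : Fintype.card F = q ^ 2)

include hF

/-- A proper subgroup of `SU 4 q` has index at least the number of totally isotropic lines. -/
theorem bound_four (K : Subgroup (Cfsg.SU 4 F q)) (hK : K ≠ ⊤) :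
    (q + 1) * (q ^ 3 + 1) ≤ K.index := by
  classical
  by_contra hlt
  rw [not_le] at hlt
  obtain ⟨u, hu, hu0, hbad⟩ : ∃ u : Fin 4 → F, Cfsg.hermForm 4 F q u u = 0 ∧ u ≠ 0 ∧ ¬ Good K u := by
    by_contra hcon
    push Not at hcon
    refine hK (eq_top_iff.2 ?_)
    rw [← tvGroup_eq_top hF (by norm_num) (by norm_num : ¬ (4 = 3 ∧ q = 2)), tvGroup, Subgroup.closure_le]
    rintro g ⟨v, c, hv, hc, hg⟩
    by_cases hv0 : v = 0
    · have : g = 1 := SU_ext fun x => by
        rw [hg, HermStd.transvection_mulVec, hv0, mat_one, one_mulVec]; simp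
      rw [this]; exact one_mem K
    exact hcon v hv hv0 g ⟨c, hc, hg⟩
  obtain ⟨Φ, rfl⟩ := exists_fr_at hF (n := 4) (m := 2) rfl hu0 hu
  rcases two_cases hF (IK hF Φ K) (index_IK_le hF K Φ hbad hlt) with h | ⟨Ψ, h, -⟩ | ⟨hp, h⟩ | ⟨h9, h5⟩
  · by_cases hq : q = 2
    · exact IK_ne_top_two hF K Φ hbad hlt hq h
    · exact IK_ne_top hF K Φ hq hbad hlt h
  · exact borel_false hF K Φ Ψ hbad hlt h
  · by_cases hq : q = 2
    · exact not_index_two hF K Φ hbad hlt hq h
    · exact not_index_prime_odd hF K Φ hbad hlt hp hq h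
  · exact not_index_nine hF K Φ hbad hlt h9 (h9 ▸ index_IK_le hF K Φ hbad hlt) h5

end Cfsg.Agent.Classical.Unitary.MinIndex
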