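import Cfsg.Agent.Lib.Classical.UnitaryMinIndex.FourTop

/-!
# The exceptional residual groups at a bad point of `SU 4 q`
-/

set_option autoImplicit false
set_option linter.unusedSectionVars false

namespace Cfsg.Agent.Classical.Unitary.MinIndex

open Matrix Cfsg.Agent.Forms Cfsg.Agent.Classical

variable {F : Type*} [Field F] [Fintype F] {q : ℕ} (hF : Fintype.card F = q ^ 2)

local notation "V2" => (Fin 2 → F)
local notation "H2" => Cfsg.hermForm 2 F q

include hF

theorem real_two (hq : q = 2) {r : F} (hr : r ^ q = r) : r = 0 ∨ r = 1 := by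
  subst hq
  have : r * (r - 1) = 0 := by linear_combination hr
  rcases mul_eq_zero.1 this with h | h
  · exact Or.inl h
  · exact Or.inr (sub_eq_zero.1 h)

/-- For prime `q` the real scalars are the prime field. -/
theorem exists_nat_of_real (hq : q.Prime) {r : F} (hr : r ^ q = r) : ∃ j : ℕ, r = (j : F) := by
  obtain ⟨p, k, hp, hk, hpk, hpc⟩ := exists_prime_pow hF
  obtain rfl : k = 1 := (hpk ▸ hq : (p ^ k).Prime).eq_one_of_pow
  rw [pow_one] at hpk
  subst hpk
  have hcast : ∀ j : ℕ, (j : F) ^ p = j := fun j => by rw [← HermStd.qHom_apply hF, map_natCast]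
  let f : Fin p → fixField hF := fun j => ⟨(j.1 : F), (mem_fixField hF).2 (hcast _)⟩
  have hf : Function.Injective f := fun i j e => Fin.ext
    (CharP.natCast_injOn_Iio F p (Set.mem_Iio.2 i.2) (Set.mem_Iio.2 j.2) (congrArg Subtype.val e :))
  obtain ⟨j, hj⟩ := (hf.bijective_of_nat_card_le (by rw [natCard_fixField hF, Nat.card_fin])).2
    ⟨r, (mem_fixField hF).2 hr⟩
  exact ⟨j, (congrArg Subtype.val hj).symm⟩

theorem real_smul_mem (hq : q.Prime) (X : AddSubgroup V2) {r : F} (hr : r ^ q = r) {x : V2}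
    (hx : x ∈ X) : r • x ∈ X := by
  obtain ⟨j, rfl⟩ := exists_nat_of_real hF hq hr
  rw [Nat.cast_smul_eq_nsmul]
  exact nsmul_mem hx j

/-- An element of determinant one of the plane satisfies a real quadratic equation. -/
theorem quad_two (A : Cfsg.SU 2 F q) :
    (mat A).trace ^ q = (mat A).trace ∧
      ∀ x : V2, mat A *ᵥ (mat A *ᵥ x) = (mat A).trace • (mat A *ᵥ x) - x := by
  have hd : (mat A).det = 1 := A.1.2
  rw [Matrix.det_fin_two] at hd
  have hcol : ∀ i j : Fin 2, mat A 0 i * mat A 0 j ^ q + mat A 1 i * mat A 1 j ^ q =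
      if i = j then 1 else 0 := fun i j => by
    have h := SU_H A (Pi.single i 1) (Pi.single j 1)
    rw [H_single_single hF] at h
    simpa [Cfsg.hermForm, Fin.sum_univ_two, Matrix.mulVec_single] using h
  refine ⟨?_, fun x => funext fun i => ?_⟩
  · have e11 : mat A 0 1 * mat A 0 1 ^ q + mat A 1 1 * mat A 1 1 ^ q = 1 := by simpa using hcol 1 1
    have e01 : mat A 0 0 * mat A 0 1 ^ q + mat A 1 0 * mat A 1 1 ^ q = 0 := by simpa using hcol 0 1
    have ha : mat A 0 0 = mat A 1 1 ^ q := by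
      linear_combination (mat A 1 1 ^ q) * hd - (mat A 0 0) * e11 + (mat A 0 1) * e01
    rw [Matrix.trace_fin_two, HermStd.add_pow_q hF, ha, pow_qq hF, add_comm]
  · fin_cases i <;>
      simp [Matrix.mulVec, dotProduct, Fin.sum_univ_two, Matrix.trace_fin_two]
    · linear_combination -(x 0) * hd
    · linear_combination -(x 1) * hd

variable (K : Subgroup (Cfsg.SU 4 F q)) (Φ : Fr F q 4 2) (hbad : ¬ Good K Φ.u)
  (hidx : K.index < (q + 1) * (q ^ 3 + 1))

include hbad hidx

theorem no_fixed_point_of_lt (hi : ¬ (q + 1) ∣ (IK hF Φ K).index) (Ψ : Fr F q 2 0) :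
    ¬ IK hF Φ K ≤ lineStab hF Ψ.u := fun h =>
  hi (index_lineStab_two hF Ψ ▸ Subgroup.index_dvd_of_le h)

/-- The prime index for odd `q`. -/
theorem not_index_prime_odd (hq : q.Prime) (hq2 : q ≠ 2) (hi : (IK hF Φ K).index = q) : False := by
  have hq1 := HermStd.one_lt_q hF
  have hz : Zs hF Φ K ≠ skewF hF := fun e => hbad ((good_u_iff hF Φ K).2 e)
  have h2 : (2 : F) ≠ 0 := by
    obtain ⟨p, k, hp, hk, hpk, hpc⟩ := exists_prime_pow hF
    obtain rfl : k = 1 := (hpk ▸ hq : (p ^ k).Prime).eq_one_of_pow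
    rw [pow_one] at hpk
    subst hpk
    intro h
    have h' : ((2 : ℕ) : F) = 0 := by exact_mod_cast h
    exact hq2 ((Nat.prime_dvd_prime_iff_eq hp Nat.prime_two).1 ((CharP.cast_eq_zero_iff F p 2).1 h'))
  have hle := card_le_of_real_closed hF (IK hF Φ K) (Xs hF Φ K)
    (fun A hA w hw => IK_Xs hF Φ K hA hw) hz (Zs_le hF Φ K)
    (fun v hv w hw => comm_mem_Zs hF Φ K hv hw) (card_Xs_le hF K Φ hbad)
    (Xs_ne_bot hF K Φ hbad hidx) h2 (fun r hr x hx => real_smul_mem hF hq _ hr hx)
    (no_fixed_point_of_lt hF K Φ hbad hidx (by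
      rw [hi]
      intro h
      have := Nat.le_of_dvd (by omega) h
      omega))
  have hc := (IK hF Φ K).card_mul_index
  rw [hi, natCard_SU_two hF, mul_comm q] at hc
  have hc' := Nat.eq_of_mul_eq_mul_right (by omega : 0 < q) hc
  have : 3 * q ≤ q ^ 2 := by rw [sq]; exact Nat.mul_le_mul_right _ (by omega)
  omega

omit hbad hidx in
/-- Coordinates at a vector of norm one. -/
theorem coord_aniso {v : V2} (hv : H2 v v = 1) :
    ∃ y : V2, H2 y y = 1 ∧ H2 y v = 0 ∧ ∀ x, x = H2 x v • v + H2 x y • y := by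
  refine ⟨![-v 1 ^ q, v 0 ^ q], ?_, ?_, fun x => ?_⟩
  · have hneg : (-v 1 ^ q) ^ q = -v 1 := by
      rw [← HermStd.qHom_apply hF, map_neg, HermStd.qHom_apply, pow_qq hF]
    simp [Cfsg.hermForm, Fin.sum_univ_two, pow_qq hF, hneg] at hv ⊢
    linear_combination hv
  · simp [Cfsg.hermForm, Fin.sum_univ_two]
    ring
  · have hneg : (-v 1 ^ q) ^ q = -v 1 := by
      rw [← HermStd.qHom_apply hF, map_neg, HermStd.qHom_apply, pow_qq hF]
    simp [Cfsg.hermForm, Fin.sum_univ_two] at hv
    funext i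
    fin_cases i <;> simp [Cfsg.hermForm, Fin.sum_univ_two, pow_qq hF, hneg]
    · linear_combination -(x 0) * hv
    · linear_combination -(x 1) * hv

set_option maxHeartbeats 1000000 in
/-- The prime index for two elements. -/
theorem not_index_two (hq : q = 2) (hi : (IK hF Φ K).index = q) : False := by
  classical
  subst hq
  have h2 := two_eq_zero_of_two hF rfl
  set I := IK hF Φ K with hIdef
  set X := Xs hF Φ K with hXdef
  have hz : Zs hF Φ K ≠ skewF hF := fun e => hbad ((good_u_iff hF Φ K).2 e)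
  have hZpos : 0 < Nat.card (Zs hF Φ K) := Nat.card_pos
  have hmuZ := muZ_le hF K Φ hbad
  have hApos : 0 < Nat.card (muHom hF Φ K).range := Nat.card_pos
  have hZ1 : Nat.card (Zs hF Φ K) = 1 := by
    by_contra h
    rw [show 2 - Nat.card (Zs hF Φ K) = 0 by omega, mul_zero] at hmuZ
    exact Nat.mul_ne_zero hApos.ne' hZpos.ne' (by omega)
  have hZbot : Zs hF Φ K = ⊥ := AddSubgroup.eq_bot_of_card_eq _ hZ1
  have hreal : ∀ v ∈ X, ∀ w ∈ X, Cfsg.hermForm 2 F 2 v w = 0 ∨ Cfsg.hermForm 2 F 2 v w = 1 := by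
    intro v hv w hw
    refine real_two hF rfl ?_
    have h := comm_mem_Zs hF Φ K hv hw
    rw [hZbot, AddSubgroup.mem_bot, sub_eq_zero] at h
    rw [H_conj hF, h]
  -- orders
  have hcI : Nat.card I = 3 := by
    have hc := I.card_mul_index
    rw [hi, natCard_SU_two hF, show (2 : ℕ) * (2 ^ 2 - 1) = 6 by norm_num] at hc
    omega
  have hineq := bad_ineq hF K Φ hidx
  rw [← hIdef, hi, hZ1, mul_one] at hineq
  have hO := orbit_le_isoPt hF K Φ
  have hA3 := card_muHom_le hF K Φ
  norm_num only at hineq hO hA3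
  have hbound : 8640 < 1215 * Nat.card (muHom hF Φ K).range * Nat.card X := by
    refine hineq.trans_le ?_
    calc _ ≤ 27 * 45 * Nat.card (muHom hF Φ K).range * Nat.card X :=
          Nat.mul_le_mul_right _ (Nat.mul_le_mul_right _ (Nat.mul_le_mul_left _ hO))
      _ = _ := by norm_num
  have hX4 : Nat.card X = 4 := by
    have hle := card_Xs_le hF K Φ hbad
    rw [← hXdef] at hle
    norm_num only at hle
    have hdvd := AddSubgroup.card_addSubgroup_dvd_card X
    rw [Nat.card_fun, Nat.card_fin, Nat.card_eq_fintype_card (α := F), hF] at hdvd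
    norm_num only at hdvd
    have hgt : 2 < Nat.card X := by
      by_contra hcon
      rw [not_lt] at hcon
      have := hbound.trans_le (Nat.mul_le_mul (Nat.mul_le_mul_left _ hA3) hcon)
      omega
    by_contra hne
    have h3 : Nat.card X = 3 := by omega
    rw [h3] at hdvd
    norm_num only at hdvd
  -- isotropic
  have hiso : ∀ v ∈ X, Cfsg.hermForm 2 F 2 v v = 0 := by
    intro v hv
    refine (hreal v hv v hv).resolve_right fun hvv => ?_
    obtain ⟨T, hT⟩ : ∃ T : I, T ≠ 1 := by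
      have : Nontrivial I := Finite.one_lt_card_iff_nontrivial.1 (by omega)
      exact exists_ne 1
    have hT3 : T.1 * (T.1 * T.1) = 1 := by
      have := congrArg Subtype.val (pow_card_eq_one' (x := T))
      rw [hcI] at this
      simpa [pow_succ, mul_assoc] using this
    have hne : mat T.1 *ᵥ v ≠ v := fun e =>
      hT (Subtype.ext (eq_one_of_fix_aniso hF (by rw [hvv]; exact one_ne_zero) e))
    obtain ⟨y, hyy, hyv, hdec⟩ := coord_aniso hF hvv
    have hTv := IK_Xs hF Φ K T.2 hv
    have hvy : Cfsg.hermForm 2 F 2 v y = 0 := (H_eq_zero_comm hF).1 hyv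
    set a := Cfsg.hermForm 2 F 2 (mat T.1 *ᵥ v) v with ha
    set b := Cfsg.hermForm 2 F 2 (mat T.1 *ᵥ v) y with hb
    have e := hdec (mat T.1 *ᵥ v)
    have hn : a * a ^ 2 + b * b ^ 2 = 1 := by
      have := SU_H T.1 v v
      rw [hvv, e] at this
      simp only [H_add_left, H_add_right hF, H_smul_left, H_smul_right, hvv, hyy, hvy, hyv] at this
      linear_combination this
    rcases hreal _ hTv v hv with ha0 | ha1
    · -- the square returns to the line
      have hc : Cfsg.hermForm 2 F 2 (mat T.1 *ᵥ (mat T.1 *ᵥ v)) (mat T.1 *ᵥ v) = 0 := by rw [SU_H, ha0]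
      set z := mat T.1 *ᵥ (mat T.1 *ᵥ v) with hz'
      have hzv : Cfsg.hermForm 2 F 2 z v = 0 := by
        rw [← SU_H T.1 z v]
        have : mat T.1 *ᵥ z = v := by
          rw [hz', ← mul_mulVec, ← mul_mulVec, mul_assoc, hT3, mat_one, one_mulVec]
        rw [this, ← H_conj hF, ha0, zero_pow two_ne_zero]
      have hb0 : b ≠ 0 := fun h => by
        rw [← ha] at ha0
        rw [h, ha0] at hn
        simp at hn
      rw [e, ← ha, show a = 0 from ha0, zero_smul, zero_add, H_smul_right, mul_eq_zero] at hc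
      have hzy := hc.resolve_left (pow_ne_zero _ hb0)
      have e2 := hdec z
      rw [hzv, hzy, zero_smul, zero_smul, add_zero] at e2
      refine mat_mulVec_ne_zero T.1 (mat_mulVec_ne_zero T.1 ?_) e2
      intro h0
      rw [h0, H_zero_left] at hvv
      exact zero_ne_one hvv
    · rw [show a = 1 from ha1, one_mul, one_pow, add_eq_left] at hn
      have hb0 : b = 0 := by
        by_contra h
        exact mul_ne_zero h (pow_ne_zero _ h) hn
      rw [← ha, ← hb, show a = 1 from ha1, hb0, zero_smul, one_smul, add_zero] at e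
      exact hne e
  -- a hyperbolic pair
  obtain ⟨v, hv, w, hw, hvw⟩ : ∃ v ∈ X, ∃ w ∈ X, Cfsg.hermForm 2 F 2 v w = 1 := by
    by_contra hcon
    push Not at hcon
    obtain ⟨v, hv, hv0⟩ : ∃ x ∈ X, x ≠ 0 := by
      by_contra h
      push Not at h
      rw [(AddSubgroup.eq_bot_iff_forall _).2 h, AddSubgroup.card_bot] at hX4
      omega
    obtain ⟨Ψ, rfl⟩ := exists_fr_at hF (n := 2) (m := 0) rfl hv0 (hiso v hv)
    refine no_fixed_point_of_lt hF K Φ hbad hidx (by rw [← hIdef, hi]; decide) Ψ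
      (le_lineStab hF Ψ.u_ne fun g hg => ⟨Cfsg.hermForm 2 F 2 (mat g *ᵥ Ψ.u) Ψ.s, ?_⟩)
    have hx := IK_Xs hF Φ K hg hv
    have h0 := (hreal _ hx _ hv).resolve_right (hcon _ hx _ hv)
    have e := Ψ.decomp_two hF (mat g *ᵥ Ψ.u)
    rwa [h0, zero_smul, add_zero] at e
  obtain ⟨Ψ, hΨu, hΨs⟩ := exists_fr hF (n := 2) (m := 0) rfl (hiso v hv) (hiso w hw) hvw
  rw [← hΨu] at hv
  rw [← hΨs] at hw
  have hX : ∀ x, x ∈ X ↔ RealSpan Ψ x := by
    intro x
    constructor
    · intro hx
      refine ⟨?_, ?_⟩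
      · rcases hreal x hx _ hv with h | h <;> rw [h] <;> simp
      · rcases hreal x hx _ hw with h | h <;> rw [h] <;> simp
    · rintro ⟨h1, h2'⟩
      rw [Ψ.decomp_two hF x]
      rcases real_two hF rfl h1 with h | h <;> rcases real_two hF rfl h2' with h' | h' <;> rw [h, h'] <;>
        simp [hv, hw, add_mem]
  have hA1 : Nat.card (muHom hF Φ K).range = 1 := by
    have : (muHom hF Φ K).range = ⊥ := (Subgroup.eq_bot_iff_forall _).2 fun μ hμ =>
      Units.ext ((real_two hF rfl (muHom_real hF K Φ h2 Ψ hX hμ)).resolve_left μ.ne_zero)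
    rw [this, Subgroup.card_bot]
  rw [hA1, hX4] at hbound
  omega

set_option maxHeartbeats 1000000 in
/-- The exceptional index for nine elements. -/
theorem not_index_nine (hq : q = 9) (hle : (IK hF Φ K).index ≤ 10) (h5 : 5 ∣ Nat.card (IK hF Φ K)) :
    False := by
  classical
  subst hq
  obtain ⟨p, k, hp, hk, hpk, hpc⟩ := exists_prime_pow hF
  obtain rfl : p = 3 := (Nat.prime_dvd_prime_iff_eq hp Nat.prime_three).1
    (hp.dvd_of_dvd_pow (n := 2) (by rw [show (3 : ℕ) ^ 2 = p ^ k by rw [hpk]; norm_num]; exact dvd_pow_self p (by omega)))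
  have : Fact (Nat.Prime 3) := ⟨Nat.prime_three⟩
  have : Fact (Nat.Prime 5) := ⟨by norm_num⟩
  set I := IK hF Φ K with hIdef
  set X := Xs hF Φ K with hXdef
  have hc := I.card_mul_index
  rw [natCard_SU_two hF, show (9 : ℕ) * (9 ^ 2 - 1) = 720 by norm_num] at hc
  have h72 : 72 ≤ Nat.card I := by
    by_contra h
    rw [not_le] at h
    have := Nat.mul_le_mul (Nat.le_sub_one_of_lt h) hle
    omega
  have hnofix : ¬ (9 + 1) ∣ I.index := by
    rintro ⟨j, hj⟩
    rcases j with _ | _ | j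
    · exact Subgroup.index_ne_zero_of_finite (by rw [hj])
    · rw [hj] at hc
      omega
    · omega
  obtain ⟨A, hA⟩ := exists_prime_orderOf_dvd_card' 5 h5
  have hA5 : A ^ 5 = 1 := hA ▸ pow_orderOf_eq_one A
  have hA1 : A ≠ 1 := fun e => by rw [e, orderOf_one] at hA; norm_num at hA
  obtain ⟨hτ, hquad⟩ := quad_two hF A.1
  set τ := (mat A.1).trace
  have hτX : ∀ x ∈ X, τ • x ∈ X := by
    intro x hx
    have hw := IK_Xs hF Φ K (inv_mem A.2) hx
    have hAw : mat A.1 *ᵥ (mat A.1⁻¹ *ᵥ x) = x := by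
      rw [← mul_mulVec, mul_inv_cancel, mat_one, one_mulVec]
    have h := hquad (mat A.1⁻¹ *ᵥ x)
    rw [hAw, eq_sub_iff_add_eq] at h
    rw [← h]
    exact add_mem (IK_Xs hF Φ K A.2 hx) hw
  have h3 : (3 : F) = 0 := by exact_mod_cast CharP.cast_eq_zero F 3
  have hτ3 : ∀ j : ZMod 3, τ ≠ ZMod.castHom (dvd_refl 3) F j := by
    intro j hj
    have hkill : ∀ n : ℕ, ¬ 5 ∣ n → (∀ x, mat (A.1 ^ n) *ᵥ x = x) → False := fun n hn h => by
      have e : A ^ n = 1 := Subtype.ext (SU_ext fun x => by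
        rw [Subgroup.coe_pow, h, Subgroup.coe_one, mat_one, one_mulVec])
      exact hn (hA ▸ orderOf_dvd_of_pow_eq_one e)
    fin_cases j
    · -- trace zero
      have hj' : τ = 0 := by rw [hj]; exact map_zero _
      refine hkill 4 (by norm_num) fun x => ?_
      simp only [pow_succ, pow_zero, one_mul, mul_mulVec, hquad, hj', zero_smul, zero_sub, sub_neg_eq_add,
        neg_zero, zero_add, Matrix.mulVec_neg, neg_neg]
    · have hj' : τ = 1 := by rw [hj]; exact map_one _
      refine hkill 6 (by norm_num) fun x => ?_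
      simp only [pow_succ, pow_zero, one_mul, mul_mulVec, hquad, hj', one_smul, Matrix.mulVec_sub]
      abel
    · have hj' : τ = -1 := by
        rw [hj]
        show ZMod.castHom (dvd_refl 3) F 2 = -1
        rw [map_ofNat]
        linear_combination h3
      refine hkill 3 (by norm_num) fun x => ?_
      simp only [pow_succ, pow_zero, one_mul, mul_mulVec, hquad, hj', neg_smul, one_smul,
        Matrix.mulVec_sub, Matrix.mulVec_neg]
      abel
  -- all real scalars
  have hfix3 : ∀ i : ZMod 3, ZMod.castHom (dvd_refl 3) F i ^ 9 = ZMod.castHom (dvd_refl 3) F i := by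
    intro i
    rw [← map_pow]
    congr 1
    rw [show 9 = 3 * 3 from rfl, pow_mul, ZMod.pow_card, ZMod.pow_card]
  let φ : ZMod 3 × ZMod 3 → fixField hF := fun p => ⟨ZMod.castHom (dvd_refl 3) F p.1 +
    ZMod.castHom (dvd_refl 3) F p.2 * τ, by
      rw [mem_fixField, HermStd.add_pow_q hF, mul_pow, hτ, hfix3, hfix3]⟩
  have hφ : Function.Injective φ := by
    rintro ⟨i, j⟩ ⟨i', j'⟩ h
    have h' : ZMod.castHom (dvd_refl 3) F i + ZMod.castHom (dvd_refl 3) F j * τ =
        ZMod.castHom (dvd_refl 3) F i' + ZMod.castHom (dvd_refl 3) F j' * τ := congrArg Subtype.val h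
    by_cases hjj : j = j'
    · subst hjj
      rw [(ZMod.castHom (dvd_refl 3) F).injective (add_right_cancel h')]
    · refine absurd ?_ (hτ3 ((i - i') / (j' - j)))
      rw [map_div₀, map_sub, map_sub, eq_div_iff (by
        rw [← map_sub, Ne, map_eq_zero, sub_eq_zero]; exact fun e => hjj e.symm)]
      linear_combination -h'
  have hsmul : ∀ r : F, r ^ 9 = r → ∀ x ∈ X, r • x ∈ X := by
    intro r hr x hx
    obtain ⟨⟨i, j⟩, hij⟩ := (hφ.bijective_of_nat_card_le (by
      rw [natCard_fixField hF, Nat.card_prod, Nat.card_zmod])).2 ⟨r, (mem_fixField hF).2 hr⟩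
    have hr' : r = ZMod.castHom (dvd_refl 3) F i + ZMod.castHom (dvd_refl 3) F j * τ :=
      (congrArg Subtype.val hij).symm
    have hn : ∀ (l : ZMod 3) (y : V2), y ∈ X → ZMod.castHom (dvd_refl 3) F l • y ∈ X := by
      intro l y hy
      rw [← ZMod.natCast_zmod_val l, map_natCast, Nat.cast_smul_eq_nsmul]
      exact nsmul_mem hy _
    rw [hr', add_smul, ← smul_smul]
    exact add_mem (hn i x hx) (hn j _ (hτX x hx))
  have h2 : (2 : F) ≠ 0 := by
    intro h
    exact one_ne_zero (by linear_combination h3 - h : (1 : F) = 0)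
  have hz : Zs hF Φ K ≠ skewF hF := fun e => hbad ((good_u_iff hF Φ K).2 e)
  have h18 := card_le_of_real_closed hF I X (fun A hA w hw => IK_Xs hF Φ K hA hw) hz (Zs_le hF Φ K)
    (fun v hv w hw => comm_mem_Zs hF Φ K hv hw) (card_Xs_le hF K Φ hbad)
    (Xs_ne_bot hF K Φ hbad hidx) h2 hsmul (no_fixed_point_of_lt hF K Φ hbad hidx hnofix)
  omega

end Cfsg.Agent.Classical.Unitary.MinIndex
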