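import Cfsg.Agent.Lib.Classical.UnitaryMinIndex.FourLifts

/-!
# The residual group is proper for more than two elements
-/

set_option autoImplicit false
set_option linter.unusedSectionVars false

namespace Cfsg.Agent.Classical.Unitary.MinIndex

open Matrix Cfsg.Agent.Forms Cfsg.Agent.Classical

variable {F : Type*} [Field F] [Fintype F] {q : ℕ} (hF : Fintype.card F = q ^ 2)
  (K : Subgroup (Cfsg.SU 4 F q)) (Φ : Fr F q 4 2)

local notation "W2" => (Fin 2 → F)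
local notation "H2" => Cfsg.hermForm 2 F q
local notation "G4" => Cfsg.SU 4 F q

include hF

theorem exists_real_ne (hq : q ≠ 2) : ∃ l : F, l ^ q = l ∧ l ≠ 0 ∧ l ≠ 1 := by
  classical
  by_contra hcon
  push Not at hcon
  have h : Nat.card (fixField hF) ≤ Nat.card ({0, 1} : Finset F) :=
    Nat.card_le_card_of_injective (fun l => ⟨l.1, by
      by_cases h0 : l.1 = 0
      · simp [h0]
      · simp [hcon l.1 ((mem_fixField hF).1 l.2) h0]⟩) fun a b e =>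
      Subtype.ext (congrArg Subtype.val e :)
  rw [natCard_fixField hF, Nat.card_eq_fintype_card, Fintype.card_coe] at h
  have := h.trans Finset.card_le_two
  have := HermStd.one_lt_q hF
  omega

/-- The parameter of a lift of a real line. -/
theorem line_param (hI : IK hF Φ K = ⊤) (hZ : Zs hF Φ K = ⊥) {Ψ : Fr F q 2 0}
    (hX : ∀ x, x ∈ Xs hF Φ K ↔ RealSpan Ψ x) (a : W2 → F)
    (ha : ∀ w ∈ Xs hF Φ K, ∀ (g : G4) (b : F), g ∈ K → mat g = Φ.EM w b → b = a w)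
    (ha' : ∀ w ∈ Xs hF Φ K, ∃ g : G4, g ∈ K ∧ mat g = Φ.EM w (a w))
    (h2 : (2 : F) = 0) {x : W2} (hx0 : x ≠ 0) (hx : x ∈ Xs hF Φ K) (hxx : H2 x x = 0)
    {l : F} (hl : l ^ q = l) (hl0 : l ≠ 0) (hl1 : l ≠ 1) :
    ∃ κ : F, ∀ r : F, r ^ q = r → a (r • x) = r * κ := by
  obtain ⟨Θ, rfl⟩ := exists_fr_at hF (n := 2) (m := 0) rfl hx0 hxx
  obtain ⟨D, hDu, -⟩ := exists_torus_two hF Θ hl0 hl
  obtain ⟨g, hg, hgu, hgA⟩ := (mem_IK hF Φ K).1 (show D ∈ IK hF Φ K by rw [hI]; trivial)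
  have hgd := Φ.decompose_one hF hgu
  rw [hgA] at hgd
  set y := Φ.π (mat g *ᵥ Φ.s)
  have hmem : ∀ r : F, r ^ q = r → r • Θ.u ∈ Xs hF Φ K := by
    intro r hr
    obtain ⟨h1, h2'⟩ := (hX _).1 hx
    refine (hX _).2 ⟨?_, ?_⟩
    · rw [H_smul_left, mul_pow, hr, h1]
    · rw [H_smul_left, mul_pow, hr, h2']
  set k : F := l * (H2 y Θ.u - H2 Θ.u y)
  have step : ∀ r : F, r ^ q = r → a ((l * r) • Θ.u) = a (r • Θ.u) + r * k := by
    intro r hr
    obtain ⟨e, he, hee⟩ := ha' _ (hmem r hr)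
    have hc := conj_unip hF Φ hgd hee
    rw [Matrix.mulVec_smul, hDu, smul_smul, mul_comm r l] at hc
    rw [← ha _ (hmem _ (by rw [mul_pow, hl, hr])) _ _ (mul_mem (mul_mem hg he) (inv_mem hg)) hc,
      H_smul_right, H_smul_left, mul_pow, hl, hr]
    ring
  have hadd : ∀ r r' : F, r ^ q = r → r' ^ q = r' →
      a ((r + r') • Θ.u) = a (r • Θ.u) + a (r' • Θ.u) := by
    intro r r' hr hr'
    obtain ⟨e, he, hee⟩ := ha' _ (hmem r hr)
    obtain ⟨e', he', hee'⟩ := ha' _ (hmem r' hr')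
    have hm : mat (e * e') = Φ.EM (r • Θ.u + r' • Θ.u) (a (r • Θ.u) + a (r' • Θ.u)) := by
      rw [mat_mul, hee, hee', Φ.EM_mul hF, H_smul_left, H_smul_right, hxx]
      congr 1
      ring
    rw [← add_smul] at hm
    exact (ha _ (hmem _ (by rw [HermStd.add_pow_q hF, hr, hr'])) _ _ (mul_mem he he') hm).symm
  refine ⟨k / (l + 1), fun r hr => ?_⟩
  have hl1' : l + 1 ≠ 0 := fun e => hl1 (by linear_combination e - h2)
  set r₀ := r / (l + 1) with hr₀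
  have hr₀q : r₀ ^ q = r₀ := by
    rw [hr₀, div_pow, hr, HermStd.add_pow_q hF, hl, one_pow]
  have e : r = l * r₀ + r₀ := by rw [hr₀]; field_simp
  have h := hadd (l * r₀) r₀ (by rw [mul_pow, hl, hr₀q]) hr₀q
  rw [← e, step r₀ hr₀q] at h
  rw [h]
  have : r * (k / (l + 1)) = r₀ * k := by rw [hr₀]; field_simp
  rw [this]
  linear_combination (a (r₀ • Θ.u)) * h2

/-- The residual group is not everything. -/
theorem IK_ne_top (hq2 : q ≠ 2) (hbad : ¬ Good K Φ.u)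
    (hidx : K.index < (q + 1) * (q ^ 3 + 1)) : IK hF Φ K ≠ ⊤ := by
  classical
  intro hI
  have hq := HermStd.one_lt_q hF
  have hz : Zs hF Φ K ≠ skewF hF := fun e => hbad ((good_u_iff hF Φ K).2 e)
  have hXle := card_Xs_le hF K Φ hbad
  obtain ⟨h2, Ψ, hX⟩ := top_real hF (IK hF Φ K) (Xs hF Φ K) (fun A hA w hw => IK_Xs hF Φ K hA hw) hz
    (Zs_le hF Φ K) (fun v hv w hw => comm_mem_Zs hF Φ K hv hw) hXle (Xs_ne_bot hF K Φ hbad hidx) hI
  -- the scalars are real, so there are no transvections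
  set A := Nat.card (muHom hF Φ K).range
  set Z := Nat.card (Zs hF Φ K)
  have hAN : A ≤ Nat.card ((muHom hF Φ K).range.map (powMonoidHom (q + 1) : Fˣ →* Fˣ)) := by
    refine Nat.card_le_card_of_injective
      (fun μ => ⟨μ.1 ^ (q + 1), Subgroup.mem_map.2 ⟨μ.1, μ.2, rfl⟩⟩) fun μ ν e => ?_
    have e' : ((μ.1 : Fˣ) : F) ^ (q + 1) = ((ν.1 : Fˣ) : F) ^ (q + 1) := by
      rw [← Units.val_pow_eq_pow_val, ← Units.val_pow_eq_pow_val]
      exact congrArg Units.val (congrArg Subtype.val e :)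
    rw [pow_succ, pow_succ, muHom_real hF K Φ h2 Ψ hX μ.2, muHom_real hF K Φ h2 Ψ hX ν.2] at e'
    refine Subtype.ext (Units.ext ?_)
    have : (((μ.1 : Fˣ) : F) - ((ν.1 : Fˣ) : F)) * (((μ.1 : Fˣ) : F) + ((ν.1 : Fˣ) : F)) = 0 := by
      linear_combination e'
    rcases mul_eq_zero.1 this with h | h
    · exact sub_eq_zero.1 h
    · linear_combination h - ((ν.1 : Fˣ) : F) * h2
  have hkey := card_norm_mul_Zs hF Φ K hz
  have hAZ : A * Z + Z ≤ q := le_trans (Nat.add_le_add_right (Nat.mul_le_mul_right Z hAN) Z) hkey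
  have hineq := bad_ineq hF K Φ hidx
  rw [hI, Subgroup.index_top, mul_one] at hineq
  have h5 : q ^ 3 * (q ^ 2 - 1) < (q + 1) * (q ^ 3 + 1) * (A * Z) := by
    refine Nat.lt_of_mul_lt_mul_left (a := (q ^ 2 + 1) * (q ^ 3 + 1) * q ^ 2) ?_
    calc (q ^ 2 + 1) * (q ^ 3 + 1) * q ^ 2 * (q ^ 3 * (q ^ 2 - 1))
        = (q ^ 2 + 1) * (q ^ 3 + 1) * q ^ 5 * (q ^ 2 - 1) := by ring
      _ < _ := hineq
      _ ≤ (q + 1) * (q ^ 3 + 1) * ((q ^ 2 + 1) * (q ^ 3 + 1)) * (A * Z) * q ^ 2 :=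
          Nat.mul_le_mul (Nat.mul_le_mul_right _ (Nat.mul_le_mul_left _ (orbit_le_isoPt hF K Φ))) hXle
      _ = _ := by ring
  have hAZ2 : q - 1 ≤ A * Z := by
    by_contra h
    rw [not_le] at h
    have h6 : q ^ 3 * (q - 1) < (q ^ 3 + 1) * (A * Z) := by
      refine Nat.lt_of_mul_lt_mul_left (a := q + 1) ?_
      calc (q + 1) * (q ^ 3 * (q - 1)) = q ^ 3 * ((q + 1) * (q - 1)) := by ring
        _ = q ^ 3 * (q ^ 2 - 1) := by
          rw [show q ^ 2 - 1 = (q + 1) * (q - 1) by simpa using Nat.sq_sub_sq q 1]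
        _ < _ := h5
        _ = _ := by ring
    have h7 := h6.trans_le (Nat.mul_le_mul_left _ (Nat.le_sub_one_of_lt h))
    obtain ⟨d, rfl⟩ : ∃ d, q = d + 2 := ⟨q - 2, by omega⟩
    simp only [show d + 2 - 1 = d + 1 by omega, show d + 1 - 1 = d by omega] at h7
    have : d ≤ (d + 2) ^ 3 := le_trans (by omega) (Nat.le_self_pow (by norm_num) (d + 2))
    nlinarith
  have hZ1 : Zs hF Φ K = ⊥ := by
    refine AddSubgroup.eq_bot_of_card_eq _ ?_
    show Z = 1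
    have : 0 < Z := Nat.card_pos
    omega
  -- the parameters
  have hex : ∀ w : Xs hF Φ K, ∃ b, ∃ g : G4, g ∈ K ∧ mat g = Φ.EM w.1 b := fun w => w.2
  choose f hf using hex
  let a : W2 → F := fun w => if h : w ∈ Xs hF Φ K then f ⟨w, h⟩ else 0
  have ha' : ∀ w ∈ Xs hF Φ K, ∃ g : G4, g ∈ K ∧ mat g = Φ.EM w (a w) := fun w hw => by
    simp only [a, dif_pos hw]
    exact hf ⟨w, hw⟩
  have ha : ∀ w ∈ Xs hF Φ K, ∀ (g : G4) (b : F), g ∈ K → mat g = Φ.EM w b → b = a w := by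
    intro w hw g b hg hgb
    obtain ⟨g', hg', hgb'⟩ := ha' w hw
    have := sub_mem_Zs hF Φ K hg hg' hgb hgb'
    rwa [hZ1, AddSubgroup.mem_bot, sub_eq_zero] at this
  obtain ⟨l, hl, hl0, hl1⟩ := exists_real_ne hF hq2
  have hu : Ψ.u ∈ Xs hF Φ K := (hX _).2 ⟨by rw [Ψ.uu, zero_pow (by omega)], by rw [Ψ.us, one_pow]⟩
  have hs : Ψ.s ∈ Xs hF Φ K := (hX _).2 ⟨by rw [Ψ.su, one_pow], by rw [Ψ.ss, zero_pow (by omega)]⟩
  have hus : H2 (Ψ.u + Ψ.s) (Ψ.u + Ψ.s) = 0 := by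
    simp only [H_add_left, H_add_right hF, Ψ.uu, Ψ.ss, Ψ.us, Ψ.su]
    linear_combination h2
  have hus0 : Ψ.u + Ψ.s ≠ 0 := fun e => by
    have := congrArg (fun z => H2 z Ψ.s) e
    simp [H_add_left, Ψ.us, Ψ.ss, H_zero_left] at this
  obtain ⟨κ₁, h₁⟩ := line_param hF K Φ hI hZ1 hX a ha ha' h2 Ψ.u_ne hu Ψ.uu hl hl0 hl1
  obtain ⟨κ₂, h₂⟩ := line_param hF K Φ hI hZ1 hX a ha ha' h2 (Ψ.s_ne hF) hs Ψ.ss hl hl0 hl1
  obtain ⟨κ₃, h₃⟩ := line_param hF K Φ hI hZ1 hX a ha ha' h2 hus0 (add_mem hu hs) hus hl hl0 hl1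
  have hsq : ∀ r : F, r ^ q = r → r ≠ 0 → r = κ₁ + κ₂ - κ₃ := by
    intro r hr hr0
    have hru : r • Ψ.u ∈ Xs hF Φ K := (hX _).2
      ⟨by rw [H_smul_left, Ψ.uu, mul_zero, zero_pow (by omega)], by rw [H_smul_left, Ψ.us, mul_one, hr]⟩
    have hrs : r • Ψ.s ∈ Xs hF Φ K := (hX _).2
      ⟨by rw [H_smul_left, Ψ.su, mul_one, hr], by rw [H_smul_left, Ψ.ss, mul_zero, zero_pow (by omega)]⟩
    obtain ⟨e, he, hee⟩ := ha' _ hru
    obtain ⟨e', he', hee'⟩ := ha' _ hrs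
    have hm : mat (e * e') = Φ.EM (r • (Ψ.u + Ψ.s)) (a (r • Ψ.u) + a (r • Ψ.s) - r * r) := by
      rw [mat_mul, hee, hee', Φ.EM_mul hF, smul_add]
      congr 1
      rw [H_smul_left, H_smul_right, Ψ.su, hr]
      ring
    have h := ha _ (by rw [smul_add]; exact add_mem hru hrs) _ _ (mul_mem he he') hm
    rw [h₁ r hr, h₂ r hr, h₃ r hr] at h
    refine mul_left_cancel₀ hr0 ?_
    linear_combination -h
  exact hl1 ((hsq l hl hl0).trans (hsq 1 (one_pow q) one_ne_zero).symm)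

end Cfsg.Agent.Classical.Unitary.MinIndex
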