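import Cfsg.Agent.Lib.Classical.UnitaryMinIndex.FourCount

/-!
# The full residual group at a bad point of `SU 4 2`

Otherwise the subgroup is transitive on the points and has no transvection; the elements of the radical of
the stabiliser of a totally isotropic line then distribute its five points into triples.
-/

set_option autoImplicit false
set_option linter.unusedSectionVars false

namespace Cfsg.Agent.Classical.Unitary.MinIndex

open Matrix Cfsg.Agent.Forms Cfsg.Agent.Classical

variable {F : Type*} [Field F] [Fintype F] {q : ℕ} (hF : Fintype.card F = q ^ 2)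

local notation "W2" => (Fin 2 → F)
local notation "V4" => (Fin 4 → F)
local notation "H2" => Cfsg.hermForm 2 F q
local notation "H4" => Cfsg.hermForm 4 F q
local notation "G4" => Cfsg.SU 4 F q

include hF

/-- The roots of `y² + y = a`. -/
theorem card_artin_schreier (hq : q = 2) [DecidableEq F] {a : F} (ha : a = 0 ∨ a = 1) :
    ((Finset.univ : Finset F).filter fun y => y * y + y = a).card = 2 := by
  have h2 := two_eq_zero_of_two hF hq
  have h4 : Fintype.card F = 4 := by rw [hF, hq]; norm_num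
  have h01 : ((Finset.univ : Finset F).filter fun y => y * y + y = 0) = {0, 1} := by
    ext y
    simp only [Finset.mem_filter, Finset.mem_univ, true_and, Finset.mem_insert, Finset.mem_singleton]
    constructor
    · intro h
      have : y * (y - 1) = 0 := by linear_combination h - y * h2
      exact (mul_eq_zero.1 this).imp id sub_eq_zero.1
    · rintro (rfl | rfl) <;> linear_combination (norm := ring_nf) (0 : F) * h2 <;> linear_combination h2
  rcases ha with rfl | rfl
  · rw [h01]; simp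
  · have e : ((Finset.univ : Finset F).filter fun y => y * y + y = 1) =
        (Finset.univ : Finset F).filter fun y => ¬ (y * y + y = 0) := by
      ext y
      simp only [Finset.mem_filter, Finset.mem_univ, true_and]
      refine ⟨fun h => by rw [h]; exact one_ne_zero, fun h => ?_⟩
      have hy : y ^ 4 = y := h4 ▸ FiniteField.pow_card y
      have : (y * y + y) * ((y * y + y) - 1) = 0 := by linear_combination hy + (y ^ 3) * h2
      exact sub_eq_zero.1 ((mul_eq_zero.1 this).resolve_left h)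
    have hcard := Finset.card_filter_add_card_filter_not (s := (Finset.univ : Finset F))
      (fun y => y * y + y = 0)
    rw [← e, h01, Finset.card_univ, h4] at hcard
    have : ({0, 1} : Finset F).card = 2 := by simp
    omega

/-- The isotropic vectors of the plane over four elements. -/
theorem iso_two_cases (hq : q = 2) (Ψ : Fr F q 2 0) {v : W2} (hv0 : v ≠ 0) (hv : H2 v v = 0) :
    ∃ (w : W2) (d : F), d ≠ 0 ∧ w ≠ 0 ∧ RealSpan Ψ w ∧ v = d • w := by
  have hq0 : q ≠ 0 := q_ne_zero hF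
  have e := Ψ.decomp_two hF v
  set a := H2 v Ψ.s
  set b := H2 v Ψ.u
  by_cases hb : b = 0
  · refine ⟨Ψ.u, a, fun ha => hv0 ?_, Ψ.u_ne, ⟨by rw [Ψ.uu, zero_pow hq0], by rw [Ψ.us, one_pow]⟩, ?_⟩
    · rw [e, hb, ha, zero_smul, zero_smul, add_zero]
    · rw [e, hb, zero_smul, add_zero]
  refine ⟨(a / b) • Ψ.u + Ψ.s, b, hb, fun h => ?_, ?_, ?_⟩
  · have := congrArg (fun z => H2 z Ψ.u) h
    simp [H_add_left, H_smul_left, Ψ.uu, Ψ.su, H_zero_left] at this
  · have hv' : v = b • ((a / b) • Ψ.u + Ψ.s) := by rw [smul_add, smul_smul, mul_div_cancel₀ _ hb, ← e]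
    rw [hv', H_smul_left, H_smul_right, mul_eq_zero, or_iff_right hb, mul_eq_zero,
      or_iff_right (pow_ne_zero _ hb)] at hv
    simp [H_add_left, H_add_right hF, H_smul_left, H_smul_right, Ψ.uu, Ψ.us, Ψ.su, Ψ.ss] at hv
    refine ⟨?_, ?_⟩
    · simp [H_add_left, H_smul_left, Ψ.uu, Ψ.su, hq0]
    · rw [H_add_left, H_smul_left, Ψ.us, Ψ.ss, mul_one, add_zero]
      linear_combination hv - (a / b) * two_eq_zero_of_two hF hq
  · rw [smul_add, smul_smul, mul_div_cancel₀ _ hb, ← e]

variable (K : Subgroup (Cfsg.SU 4 F q)) (Φ : Fr F q 4 2)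

/-- Members of the radical of a line. -/
theorem radical_form {v : Fin 2 → F} (Ψ : Fr F q 2 0) (hv : v = Ψ.u) {g : G4}
    (hg : ∀ z, mat g *ᵥ z - z ∈ Φ.lineSet v) :
    (∀ x ∈ Φ.lineSet v, mat g *ᵥ x = x) ∧ ∃ (c a t : F) (ht : t + t ^ q = 0),
      mat g = Φ.EM (c • v) a * Φ.XM (mat (tvu hF Ψ.uu ht)) := by
  subst hv
  have htot : ∀ x ∈ Φ.lineSet Ψ.u, ∀ y ∈ Φ.lineSet Ψ.u, H4 x y = 0 := by
    rintro _ ⟨a, b, rfl⟩ _ ⟨a', b', rfl⟩
    simp [H_add_left, H_add_right hF, H_smul_left, H_smul_right, Φ.uu, Φ.iu, Φ.ui hF, Φ.ii, Ψ.uu]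
  have hfix : ∀ x ∈ Φ.lineSet Ψ.u, mat g *ᵥ x = x := by
    intro x hx
    refine sub_eq_zero.1 (eq_zero_of_H hF fun y => ?_)
    have h1 := htot x hx _ (hg (mat g⁻¹ *ᵥ y))
    have e : mat g *ᵥ (mat g⁻¹ *ᵥ y) = y := by rw [← mul_mulVec, mul_inv_cancel, mat_one, one_mulVec]
    have h2 := SU_H g x (mat g⁻¹ *ᵥ y)
    rw [e] at h1 h2
    rw [H_sub_right hF] at h1
    rw [H_sub_left, h2]
    linear_combination -h1
  refine ⟨hfix, ?_⟩
  have hu : mat g *ᵥ Φ.u = Φ.u := hfix _ ⟨1, 0, by rw [one_smul, zero_smul, add_zero]⟩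
  have hιv : mat g *ᵥ Φ.ι Ψ.u = Φ.ι Ψ.u := hfix _ ⟨0, 1, by rw [one_smul, zero_smul, zero_add]⟩
  have hgd := Φ.decompose_one hF hu
  obtain ⟨a₀, b₀, hs⟩ := hg Φ.s
  have hw : Φ.π (mat g *ᵥ Φ.s) = b₀ • Ψ.u := by
    rw [sub_eq_iff_eq_add.1 hs, map_add, map_add, map_smul, map_smul, Φ.π_u hF, Φ.π_s hF, smul_zero,
      zero_add, add_zero, Φ.π_ι hF]
  let A : Cfsg.SU 2 F q := suMk (Φ.Amat g) (Φ.Amat_det_one hF hu)
    (Φ.Amat_preserves hF (μ := 1) (by rw [one_smul]; exact hu))
  have hA : mat A *ᵥ Ψ.u = Ψ.u := by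
    rw [suMk_mulVec, Φ.Amat_mulVec, hιv, Φ.π_ι hF]
  obtain ⟨t, ht, hAt⟩ := exists_tvu_of_fix hF Ψ hA
  refine ⟨b₀, H4 (mat g *ᵥ Φ.s) Φ.s, t, ht, ?_⟩
  rw [← hAt, ← hw]
  exact hgd

variable (hbad : ¬ Good K Φ.u) (hidx : K.index < (q + 1) * (q ^ 3 + 1))

include hbad hidx

set_option maxHeartbeats 1000000 in
/-- The residual group is not everything for two elements. -/
theorem IK_ne_top_two (hq : q = 2) : IK hF Φ K ≠ ⊤ := by
  classical
  intro hI
  have h2 := two_eq_zero_of_two hF hq
  have hneg : ∀ r : F, -r = r := fun r => by linear_combination -r * h2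
  have hskew : ∀ r : F, r + r ^ q = 0 → r = 0 ∨ r = 1 := fun r hr =>
    real_two hF hq (by linear_combination hr - r * h2)
  have hz : Zs hF Φ K ≠ skewF hF := fun e => hbad ((good_u_iff hF Φ K).2 e)
  obtain ⟨-, Ψ, hX⟩ := top_real hF (IK hF Φ K) (Xs hF Φ K) (fun A hA w hw => IK_Xs hF Φ K hA hw) hz
    (Zs_le hF Φ K) (fun v hv w hw => comm_mem_Zs hF Φ K hv hw) (card_Xs_le hF K Φ hbad)
    (Xs_ne_bot hF K Φ hbad hidx) hI
  -- orders
  have hA1 : Nat.card (muHom hF Φ K).range = 1 := by
    have : (muHom hF Φ K).range = ⊥ := (Subgroup.eq_bot_iff_forall _).2 fun μ hμ =>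
      Units.ext ((real_two hF hq (muHom_real hF K Φ h2 Ψ hX hμ)).resolve_left μ.ne_zero)
    rw [this, Subgroup.card_bot]
  have hZ1 : Nat.card (Zs hF Φ K) = 1 := by
    have h := muZ_le hF K Φ hbad
    rw [hA1, one_mul] at h
    have hpos : 0 < Nat.card (Zs hF Φ K) := Nat.card_pos
    subst hq
    omega
  have hZ : Zs hF Φ K = ⊥ := AddSubgroup.eq_bot_of_card_eq _ hZ1
  set O := MulAction.orbit K (pt Φ.u Φ.u_ne Φ.uu) with hOdef
  have hN : Nat.card (IsoPt F q 4) = 45 := by rw [natCard_isoPt_four hF, hq]; norm_num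
  have hG : Nat.card G4 = 25920 := by
    have h := Cfsg.Agent.S0278.result hF 4 (by norm_num)
    rw [hq] at h ⊢
    simp only [Finset.prod_range_succ, Finset.prod_range_zero, Nat.even_iff, Nat.reduceMod, Nat.reduceAdd,
      zero_ne_one, one_ne_zero, if_true, if_false] at h
    norm_num only at h
    omega
  have hO : Nat.card O = 45 := by
    have hR : Nat.card (RK hF Φ K) ≤ 24 := by
      refine (card_RK_le hF Φ K).trans ?_
      rw [hA1, hZ1, hI, Subgroup.card_top, natCard_SU_two hF, one_mul, mul_one]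
      have hX4 := card_Xs_le hF K Φ hbad
      subst hq
      omega
    have h45 : Nat.card O ≤ 45 := (Nat.card_le_card_of_injective _ Subtype.val_injective).trans_eq hN
    have hK := (card_le_orbit_mul hF K Φ).trans (Nat.mul_le_mul_left _ hR)
    rw [← hOdef] at hK
    have hKi := K.card_mul_index
    rw [hG] at hKi
    have hidx' : K.index ≤ 26 := by
      subst hq
      omega
    by_contra hne
    have hK44 : Nat.card K ≤ 44 * 24 := hK.trans (Nat.mul_le_mul_right _ (by omega))
    rcases (by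
      have h1 := Nat.mul_le_mul hK44 (le_refl K.index)
      rw [hKi] at h1
      omega : K.index = 25 ∨ K.index = 26) with h | h <;> rw [h] at hKi <;> omega
  have hall : ∀ r : V4, r ≠ 0 → H4 r r = 0 → ∃ k ∈ K, ∃ a : F, a ≠ 0 ∧ mat k *ᵥ Φ.u = a • r := by
    intro r hr hrr
    have hOu : O = Set.univ := Set.eq_of_subset_of_ncard_le (Set.subset_univ O) (by
      rw [Set.ncard_univ, hN, ← Nat.card_coe_set_eq, hO])
    obtain ⟨k, hk, a, ha, h⟩ := (mem_orbit_pt hF K _ _).1
      (show pt r hr hrr ∈ O from hOu ▸ Set.mem_univ _)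
    obtain ⟨b, hb, hb'⟩ := rep_mk r hr
    exact ⟨k, hk, a * b, mul_ne_zero ha hb, by
      rw [h, show (pt r hr hrr).1.rep = b • r from hb', smul_smul]⟩
  have hnotv : ∀ (r : V4) (_ : r ≠ 0) (hrr : H4 r r = 0) (c : F) (hc : c + c ^ q = 0),
      tvu hF hrr hc ∈ K → c = 0 := by
    intro r hr hrr c hc hmem
    obtain ⟨k, hk, a, ha, hku⟩ := hall r hr hrr
    have hki : mat k⁻¹ *ᵥ r = a⁻¹ • Φ.u := by
      have := inv_mulVec k hku
      rw [Matrix.mulVec_smul] at this
      conv_rhs => rw [← this, inv_smul_smul₀ ha]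
    have hw : H4 (a⁻¹ • Φ.u) (a⁻¹ • Φ.u) = 0 := by rw [H_smul_left, H_smul_right, Φ.uu, mul_zero, mul_zero]
    have h := mul_mem (mul_mem (inv_mem hk) hmem) (inv_mem (inv_mem hk))
    rw [tvu_conj hF k⁻¹ hki hrr hw hc, tvu_smul_two hF hq Φ.uu (inv_ne_zero ha) hw hc,
      tvu_mem_iff hF Φ K hc, hZ, AddSubgroup.mem_bot] at h
    exact h
  -- the line
  set v := Ψ.u with hvdef
  have hv : H2 v v = 0 := Ψ.uu
  have hv0 : v ≠ 0 := Ψ.u_ne
  set L := Φ.lineSet v with hL
  let vec : Option F → V4 := Φ.lineVec v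
  have hne : ∀ o, vec o ≠ 0 := Φ.lineVec_ne hF hv0
  have hiso : ∀ o, H4 (vec o) (vec o) = 0 := Φ.lineVec_iso hF hv
  let Gs := {g : G4 // g ∈ K ∧ g ≠ 1 ∧ ∀ z, mat g *ᵥ z - z ∈ L}
  let rel : Gs → Option F → Prop := fun g o =>
    ∀ z, H4 z (vec o) = 0 → ∃ β : F, mat g.1 *ᵥ z - z = β • vec o
  -- exactly one member belongs to each point
  have huniq : ∀ o, ∃! g : Gs, rel g o := by
    intro o
    obtain ⟨k, hk, a, ha, hku⟩ := hall (vec o) (hne o) (hiso o)
    obtain ⟨e, heL, heo, he, hdec⟩ : ∃ e : V4, e ∈ L ∧ H4 e (vec o) = 0 ∧ (∀ b : F, e ≠ b • vec o) ∧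
        ∀ x ∈ L, ∃ p r : F, x = p • vec o + r • e := by
      rcases o with _ | x₀
      · refine ⟨Φ.ι v, ⟨0, 1, by rw [one_smul, zero_smul, zero_add]⟩, Φ.iu v, fun b h => ?_, ?_⟩
        · have := congrArg Φ.π h
          simp only [vec, Fr.lineVec, Option.elim, map_smul, Φ.π_u hF, smul_zero, Φ.π_ι hF] at this
          exact hv0 this
        · rintro _ ⟨p, r, rfl⟩
          exact ⟨p, r, rfl⟩
      · refine ⟨Φ.u, ⟨1, 0, by rw [one_smul, zero_smul, add_zero]⟩, ?_, fun b h => ?_, ?_⟩
        · show H4 Φ.u (Φ.ι v + x₀ • Φ.u) = 0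
          rw [H_add_right hF, H_smul_right, Φ.ui hF, Φ.uu, mul_zero, add_zero]
        · have := congrArg Φ.π h
          simp only [vec, Fr.lineVec, Option.elim, map_smul, map_add, Φ.π_u hF, smul_zero, add_zero,
            Φ.π_ι hF] at this
          rw [(smul_eq_zero.1 this.symm).resolve_right hv0, zero_smul] at h
          exact Φ.u_ne h
        · rintro _ ⟨p, r, rfl⟩
          refine ⟨r, p - r * x₀, ?_⟩
          show _ = r • (Φ.ι v + x₀ • Φ.u) + _
          module
    have heiso : H4 e e = 0 := by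
      obtain ⟨p, r, rfl⟩ := heL
      simp [H_add_left, H_add_right hF, H_smul_left, H_smul_right, Φ.uu, Φ.iu, Φ.ui hF, Φ.ii, hv]
    set z₀ := mat k⁻¹ *ᵥ e with hz₀
    have hkz : mat k *ᵥ z₀ = e := by rw [hz₀, ← mul_mulVec, mul_inv_cancel, mat_one, one_mulVec]
    have hz₀u : H4 z₀ Φ.u = 0 := by rw [← SU_H k z₀ Φ.u, hkz, hku, H_smul_right, heo, mul_zero]
    obtain ⟨v', b, hv'0, hv', hzdec⟩ := perp_decomp hF Φ (x := z₀) (by rw [← SU_H k, hkz, heiso]) hz₀u
      (fun c h => he (c * a) (by rw [← hkz, h, Matrix.mulVec_smul, hku, smul_smul]))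
    obtain ⟨w, d, hd, hw0, hwR, hvw⟩ := iso_two_cases hF hq Ψ hv'0 hv'
    obtain ⟨aw, e', he', he'm⟩ := (hX w).2 hwR
    have hιw : Φ.ι w = d⁻¹ • z₀ + (-(d⁻¹ * b)) • Φ.u := by
      rw [hzdec, hvw, map_smul, smul_add, inv_smul_smul₀ hd]
      module
    have hey : ∀ y, mat e' *ᵥ y - y = (H4 y Φ.u * d⁻¹) • z₀ +
        (H4 y Φ.u * (aw - d⁻¹ * b) - H4 y (Φ.ι w)) • Φ.u := fun y => by
      conv_lhs => rw [he'm, Φ.EM_mulVec, add_sub_cancel_left]
      rw [hιw]
      module
    have hgz : ∀ z, mat (k * e' * k⁻¹) *ᵥ z - z =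
        mat k *ᵥ (mat e' *ᵥ (mat k⁻¹ *ᵥ z) - mat k⁻¹ *ᵥ z) := fun z => by
      rw [Matrix.mulVec_sub, mul_mulVec, mul_mulVec, ← mul_mulVec k k⁻¹, mul_inv_cancel, mat_one,
        one_mulVec]
    refine ⟨⟨k * e' * k⁻¹, mul_mem (mul_mem hk he') (inv_mem hk), ?_, fun z => ?_⟩, fun z hz => ?_,
      fun g hg => ?_⟩
    · intro h1
      rw [conj_eq_one_iff] at h1
      rw [h1, mat_one, ← Φ.EM_one hF] at he'm
      exact hw0 (Φ.EM_injective hF he'm).1.symm
    · rw [hgz, hey, Matrix.mulVec_add, Matrix.mulVec_smul, Matrix.mulVec_smul, hku, hkz]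
      obtain ⟨p, r, hp⟩ := heL
      obtain ⟨p', r', hp'⟩ := Φ.lineVec_mem v o
      rw [hp, show vec o = _ from hp']
      refine ⟨H4 (mat k⁻¹ *ᵥ z) Φ.u * d⁻¹ * p +
        (H4 (mat k⁻¹ *ᵥ z) Φ.u * (aw - d⁻¹ * b) - H4 (mat k⁻¹ *ᵥ z) (Φ.ι w)) * a * p',
        H4 (mat k⁻¹ *ᵥ z) Φ.u * d⁻¹ * r +
        (H4 (mat k⁻¹ *ᵥ z) Φ.u * (aw - d⁻¹ * b) - H4 (mat k⁻¹ *ᵥ z) (Φ.ι w)) * a * r', ?_⟩
      module
    · have h0 : H4 (mat k⁻¹ *ᵥ z) Φ.u = 0 := by
        rw [← SU_H k, ← mul_mulVec, mul_inv_cancel, mat_one, one_mulVec, hku, H_smul_right, hz, mul_zero]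
      refine ⟨-H4 (mat k⁻¹ *ᵥ z) (Φ.ι w) * a, ?_⟩
      show mat (k * e' * k⁻¹) *ᵥ z - z = _
      rw [hgz, hey, h0, zero_mul, zero_smul, zero_add, zero_mul, zero_sub, Matrix.mulVec_smul, hku,
        smul_smul]
    · -- uniqueness
      obtain ⟨gfix, -⟩ := radical_form hF Φ Ψ hvdef g.2.2.2
      set g' := k⁻¹ * g.1 * k
      have hg'K : g' ∈ K := mul_mem (mul_mem (inv_mem hk) g.2.1) hk
      have hg'z : ∀ y, mat g' *ᵥ y - y = mat k⁻¹ *ᵥ (mat g.1 *ᵥ (mat k *ᵥ y) - mat k *ᵥ y) := fun y => by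
        show mat (k⁻¹ * g.1 * k) *ᵥ y - y = _
        rw [Matrix.mulVec_sub, mul_mulVec, mul_mulVec, ← mul_mulVec k⁻¹ k, inv_mul_cancel, mat_one,
          one_mulVec]
      have hkio : mat k⁻¹ *ᵥ vec o = a⁻¹ • Φ.u := by
        have := inv_mulVec k hku
        rw [Matrix.mulVec_smul] at this
        conv_rhs => rw [← this, inv_smul_smul₀ ha]
      have hfix : mat g' *ᵥ Φ.u = Φ.u := by
        refine sub_eq_zero.1 ?_
        rw [hg'z, gfix _ (by rw [hku]; exact Φ.smul_mem_lineSet (Φ.lineVec_mem v o) a), sub_self,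
          Matrix.mulVec_zero]
      have hA : Φ.Amat g' = 1 := by
        refine mat_ext fun x => ?_
        obtain ⟨β, hβ⟩ := hg (mat k *ᵥ Φ.ι x) (by
          have h := SU_H k (Φ.ι x) Φ.u
          rw [hku, H_smul_right, Φ.iu, mul_eq_zero, or_iff_right (pow_ne_zero _ ha)] at h
          exact h)
        have h := hg'z (Φ.ι x)
        rw [hβ, Matrix.mulVec_smul, hkio] at h
        rw [Φ.Amat_mulVec, one_mulVec, sub_eq_iff_eq_add.1 h, map_add, map_smul, map_smul, Φ.π_u hF,
          smul_zero, smul_zero, zero_add, Φ.π_ι hF]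
      have hg'm := Φ.eq_EM hF hfix hA
      set w₁ := Φ.π (mat g' *ᵥ Φ.s)
      set a₁ := H4 (mat g' *ᵥ Φ.s) Φ.s
      have hw₁X : w₁ ∈ Xs hF Φ K := ⟨a₁, g', hg'K, hg'm⟩
      obtain ⟨p, r, hpr⟩ := hdec _ (g.2.2.2 (mat k *ᵥ Φ.s))
      have hw₁ : w₁ = (r * d) • w := by
        have h := hg'z Φ.s
        rw [hpr, Matrix.mulVec_add, Matrix.mulVec_smul, Matrix.mulVec_smul, hkio, ← hz₀] at h
        show Φ.π (mat g' *ᵥ Φ.s) = _
        rw [sub_eq_iff_eq_add.1 h, hzdec, hvw]
        simp only [map_add, map_smul, Φ.π_u hF, Φ.π_s hF, Φ.π_ι hF, smul_zero, add_zero, zero_add,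
          smul_smul]
      have hw₁0 : w₁ ≠ 0 := by
        intro h0
        rw [h0] at hg'm
        have : a₁ = 0 := by
          have : a₁ ∈ Zs hF Φ K := ⟨g', hg'K, hg'm⟩
          rwa [hZ, AddSubgroup.mem_bot] at this
        rw [this, Φ.EM_one hF] at hg'm
        refine g.2.2.1 ?_
        have h1 : g' = 1 := SU_ext fun x => by rw [hg'm, mat_one]
        exact (mul_left_cancel (a := k⁻¹) (mul_right_cancel (b := k)
          (h1.trans (by group : (1 : G4) = k⁻¹ * 1 * k))))
      have hwd : r * d = 1 := by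
        obtain ⟨h1, h1'⟩ := (hX _).1 hw₁X
        rw [hw₁, H_smul_left] at h1 h1'
        have hrd : r * d ≠ 0 := fun h => hw₁0 (by rw [hw₁, h, zero_smul])
        have key : ∀ y, H2 w y ^ q = H2 w y → (r * d * H2 w y) ^ q = r * d * H2 w y → H2 w y ≠ 0 →
            r * d = 1 := by
          intro y hy hy' hy0
          rw [(real_two hF hq hy).resolve_left hy0, mul_one] at hy'
          exact (real_two hF hq hy').resolve_left hrd
        by_cases hu : H2 w Ψ.u = 0
        · refine key Ψ.s hwR.2 h1' fun hs => hw0 ?_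
          rw [Ψ.decomp_two hF w, hu, hs, zero_smul, zero_smul, add_zero]
        · exact key Ψ.u hwR.1 h1 hu
      rw [hwd, one_smul] at hw₁
      rw [hw₁] at hg'm
      have hae : a₁ = aw := by
        have h := sub_mem_Zs hF Φ K hg'K he' hg'm he'm
        rwa [hZ, AddSubgroup.mem_bot, sub_eq_zero] at h
      have hge : g' = e' := SU_ext fun x => by rw [hg'm, he'm, hae]
      refine Subtype.ext ?_
      show g.1 = k * e' * k⁻¹
      rw [← hge]
      show g.1 = k * (k⁻¹ * g.1 * k) * k⁻¹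
      group
  choose f hf hf' using huniq
  -- each member belongs to three points
  have hthree : ∀ g : Gs, ((Finset.univ : Finset (Option F)).filter fun o => f o = g).card = 3 := by
    intro g
    have hiff : ∀ o, f o = g ↔ rel g o := fun o =>
      ⟨fun h => h ▸ hf o, fun h => (hf' o g h).symm⟩
    obtain ⟨-, c, a, t, ht, hgm⟩ := radical_form hF Φ Ψ hvdef g.2.2.2
    have hat : a + a ^ q = 0 := by
      have := trace_lift hF Φ hgm
      rwa [H_smul_left, H_smul_right, hv, mul_zero, mul_zero, neg_zero] at this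
    have hgz : ∀ z, mat g.1 *ᵥ z - z = (H4 z Φ.u * c + t * H4 z (Φ.ι v)) • Φ.ι v +
        (H4 z Φ.u * a - c ^ q * H4 z (Φ.ι v)) • Φ.u := by
      intro z
      have hTz : Φ.XM (mat (tvu hF Ψ.uu ht)) *ᵥ z = z + (t * H4 z (Φ.ι v)) • Φ.ι v := by
        rw [Φ.XM_mulVec, tvu_mulVec, add_sub_cancel_left, map_smul, Φ.h_ι hF]
      rw [hgm, ← Matrix.mulVec_mulVec, hTz, Φ.EM_mulVec, map_smul]
      simp only [H_add_left, H_smul_left, H_smul_right, Φ.iu, Φ.ii, hv, mul_zero, add_zero]
      module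
    have hnone : rel g none ↔ t = 0 := by
      constructor
      · intro h
        obtain ⟨β, hβ⟩ := h (Φ.ι Ψ.s) (Φ.iu _)
        rw [hgz, Φ.iu, Φ.ii, hvdef, Ψ.su] at hβ
        have := congrArg Φ.π hβ
        simp [vec, Fr.lineVec, Φ.π_u hF, Φ.π_ι hF, Ψ.u_ne] at this
        exact this
      · intro h0 z hz
        exact ⟨-(c ^ q * H4 z (Φ.ι v)), by
          rw [hgz, show H4 z Φ.u = 0 from hz, h0]; simp [vec, Fr.lineVec]⟩
    have hsome : ∀ x, rel g (some x) ↔ a + c ^ q * x ^ q = x * (c - t * x ^ q) := by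
      intro x
      constructor
      · intro h
        obtain ⟨β, hβ⟩ := h (Φ.s + (-(x ^ q)) • Φ.ι Ψ.s) (by
          show H4 _ (Φ.ι v + x • Φ.u) = 0
          simp only [H_add_left, H_add_right hF, H_smul_left, H_smul_right, Φ.si hF, Φ.su, Φ.iu, Φ.ii,
            hvdef, Ψ.su]
          ring)
        rw [hgz] at hβ
        simp only [H_add_left, H_smul_left, Φ.si hF, Φ.su, Φ.iu, Φ.ii, hvdef, Ψ.su, mul_zero, add_zero,
          mul_one, zero_add, one_mul] at hβ
        have e1 := congrArg Φ.π hβ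
        have e2 := congrArg (fun y => H4 y Φ.s) hβ
        simp only [vec, Fr.lineVec, Option.elim, map_add, map_smul, Φ.π_u hF, Φ.π_ι hF, smul_zero,
          add_zero, hvdef] at e1
        simp only [vec, Fr.lineVec, Option.elim, H_add_left, H_smul_left, Φ.iss, Φ.us, mul_zero, zero_add,
          mul_one] at e2
        rw [← smul_left_injective F Ψ.u_ne e1] at e2
        linear_combination e2
      · intro h z hz
        have hz' : H4 z (Φ.ι v) = -(x ^ q * H4 z Φ.u) := by
          rw [show vec (some x) = Φ.ι v + x • Φ.u from rfl, H_add_right hF, H_smul_right] at hz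
          linear_combination hz
        refine ⟨H4 z Φ.u * (c - t * x ^ q), ?_⟩
        show _ = _ • (Φ.ι v + x • Φ.u)
        rw [hgz, hz']
        match_scalars
        · ring
        · linear_combination (H4 z Φ.u) * h
    have hca : t = 0 → c ≠ 0 := by
      intro h0 hc0
      subst h0
      have hT : Φ.XM (mat (tvu hF Ψ.uu ht)) = 1 := by
        rw [show tvu hF Ψ.uu ht = 1 from SU_ext fun x => by simp [tvu_mulVec, mat_one], mat_one,
          Φ.XM_one hF]
      rw [hT, Matrix.mul_one, hc0, zero_smul] at hgm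
      have ha0 : a = 0 := by
        have : a ∈ Zs hF Φ K := ⟨g.1, g.2.1, hgm⟩
        rwa [hZ, AddSubgroup.mem_bot] at this
      rw [ha0, Φ.EM_one hF] at hgm
      exact g.2.2.1 (SU_ext fun x => by rw [hgm, mat_one])
    have hsq : ∀ r : F, r ^ q = r * r := fun r => by rw [hq, sq]
    have hinj : Function.Injective (some : F → Option F) := Option.some_injective F
    rcases hskew t ht with rfl | rfl
    · have hc := hca rfl
      have e : ((Finset.univ : Finset (Option F)).filter fun o => f o = g) =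
          insert none (((Finset.univ : Finset F).filter fun x => (c * x) * (c * x) + c * x = a).image some) := by
        ext o
        rcases o with _ | x
        · simp [hiff, hnone]
        · simp only [Finset.mem_filter, Finset.mem_univ, true_and, hiff, hsome, Finset.mem_insert,
            reduceCtorEq, false_or, Finset.mem_image, Option.some.injEq, exists_eq_right, hsq]
          constructor
          · intro h; linear_combination h + (c * x - a) * h2
          · intro h; linear_combination h + (a - c * x) * h2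
      have himg : ((Finset.univ : Finset F).filter fun y => y * y + y = a) =
          ((Finset.univ : Finset F).filter fun x => (c * x) * (c * x) + c * x = a).image (c * ·) := by
        ext y
        simp only [Finset.mem_filter, Finset.mem_univ, true_and, Finset.mem_image]
        refine ⟨fun h => ⟨y / c, by rwa [mul_div_cancel₀ _ hc], mul_div_cancel₀ _ hc⟩, ?_⟩
        rintro ⟨x, hx, rfl⟩
        exact hx
      have hcount := card_artin_schreier hF hq (hskew a hat)
      rw [himg, Finset.card_image_of_injective _ (mul_right_injective₀ hc)] at hcount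
      rw [e, Finset.card_insert_of_notMem (by simp), Finset.card_image_of_injective _ hinj, hcount]
    · have hcq : (a + c * c ^ q) + (a + c * c ^ q) ^ q = 0 := by
        rw [HermStd.add_pow_q hF, mul_pow, pow_qq hF]
        linear_combination hat + (c * c ^ q) * h2
      have hρ : a + c * c ^ q = 1 := by
        refine (hskew _ hcq).resolve_left fun h0 => ?_
        have hr0 := hne (some (c ^ q))
        have hrr : H4 (Φ.ι v + c ^ q • Φ.u) (Φ.ι v + c ^ q • Φ.u) = 0 := iso_line hF Φ hv _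
        refine one_ne_zero (hnotv _ hr0 hrr 1 ht ?_)
        suffices e : tvu hF hrr ht = g.1 by exact Eq.subst (motive := fun y => y ∈ K) e.symm g.2.1
        refine SU_ext fun z => ?_
        have h := tv_decomp hF Φ hv ht (c ^ q) 0
        rw [zero_add, ← Φ.EM_zero hF, Φ.EM_one hF, Matrix.one_mul, pow_qq hF, one_mul, one_mul,
          pow_succ, pow_qq hF] at h
        rw [show mat (tvu hF hrr ht) = _ from h, hgm]
        congr 3
        linear_combination h0 - a * h2
      have e : ((Finset.univ : Finset (Option F)).filter fun o => f o = g) =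
          ((Finset.univ : Finset F).erase (c ^ q)).image some := by
        ext o
        rcases o with _ | x
        · simp [hiff, hnone]
        · simp only [Finset.mem_filter, Finset.mem_univ, true_and, hiff, hsome, Finset.mem_image,
            Option.some.injEq, exists_eq_right, Finset.mem_erase, and_true, one_mul]
          constructor
          · intro h hx
            rw [hx, pow_qq hF] at h
            exact one_ne_zero (α := F) (by linear_combination h - hρ)
          · intro hx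
            have hy : (x - c ^ q) ^ 3 = 1 := pow_three_eq_one hF hq (sub_ne_zero.2 hx)
            have hy' : (x - c ^ q) * (x ^ q - c) = 1 := by
              have e2 : (x - c ^ q) ^ (2 : ℕ) = x ^ q - c := by
                rw [← hq, ← HermStd.qHom_apply hF (x - c ^ q), map_sub, HermStd.qHom_apply,
                  HermStd.qHom_apply, pow_qq hF]
              rw [← hy, pow_succ', e2]
            linear_combination hy' - hρ + a * h2 + (c ^ q * x ^ q) * h2
      rw [e, Finset.card_image_of_injective _ hinj, Finset.card_erase_of_mem (Finset.mem_univ _),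
        Finset.card_univ, hF, hq]
      norm_num
  have hcount := Finset.card_eq_sum_card_fiberwise (s := (Finset.univ : Finset (Option F)))
    (t := (Finset.univ : Finset Gs)) (f := f) (fun _ _ => Finset.mem_univ _)
  rw [Finset.sum_congr rfl (fun g _ => hthree g), Finset.sum_const, smul_eq_mul, Finset.card_univ,
    Fintype.card_option, hF] at hcount
  subst hq
  norm_num at hcount
  omega

end Cfsg.Agent.Classical.Unitary.MinIndex
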