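import Cfsg.Agent.Lib.Classical.UnitaryMinIndex.PointBound
import Cfsg.Agent.Lib.Classical.UnitaryMinIndex.Transfer

/-!
# Subgroups of least index
-/

set_option autoImplicit false
set_option linter.unusedSectionVars false

namespace Cfsg.Agent.Classical.Unitary.MinIndex

open Matrix Cfsg.Agent.Forms Cfsg.Agent.Classical

variable {F : Type*} [Field F] [Fintype F] {q n : ℕ} (hF : Fintype.card F = q ^ 2)

include hF

theorem center_le_lineStab (hn : 2 ≤ n) (e : Fin n → F) :
    Subgroup.center (Cfsg.SU n F q) ≤ lineStab hF e := by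
  intro g hg
  obtain ⟨a, ha⟩ := (mem_center_iff hF hn g).1 hg
  refine ⟨a, fun h0 => ?_, by rw [ha, Matrix.smul_mulVec, one_mulVec]⟩
  have h : (mat g).det = 1 := g.1.2
  rw [ha, Matrix.det_smul, h0, Matrix.det_one, Fintype.card_fin, zero_pow (by omega), zero_mul] at h
  exact zero_ne_one h

/-- A subgroup of the projective group of index the number of isotropic points. -/
theorem exists_index_isoPt (hn : 3 ≤ n) :
    ∃ H : Subgroup (Cfsg.PSU n F q), H.index = Nat.card (IsoPt F q n) := by
  obtain ⟨v, hv, hv1, -, -⟩ := exists_isotropic_pair hF (n := n) ⟨0, by omega⟩ ⟨1, by omega⟩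
    (by simp [Fin.ext_iff])
  have hv0 : v ≠ 0 := fun h => by simp [h] at hv1
  obtain ⟨H, hH⟩ := exists_index_PSU hF (center_le_lineStab hF (by omega : 2 ≤ n) v)
  exact ⟨H, by rw [hH, index_lineStab_iso hF hv0 hv]⟩

/-- A subgroup of the projective group of index the number of anisotropic points. -/
theorem exists_index_anisoPt (hn : 3 ≤ n) :
    ∃ H : Subgroup (Cfsg.PSU n F q), H.index * (q + 1) = UnitaryCount.cnt F q n 1 := by
  have hv : Cfsg.hermForm n F q (Pi.single ⟨0, by omega⟩ (1 : F)) (Pi.single ⟨0, by omega⟩ 1) ≠ 0 := by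
    rw [H_single_single hF, if_pos rfl]; exact one_ne_zero
  obtain ⟨H, hH⟩ := exists_index_PSU hF (center_le_lineStab hF (by omega : 2 ≤ n) (Pi.single ⟨0, by omega⟩ (1 : F)))
  exact ⟨H, by rw [hH, index_lineStab_aniso hF hn hv]⟩

end Cfsg.Agent.Classical.Unitary.MinIndex
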