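import Cfsg.Agent.Lib.Classical.UnitaryMinIndex.FourMain
import Cfsg.Agent.Lib.Classical.UnitaryMinIndex.Witness

/-!
# The stabiliser of a totally isotropic line
-/

set_option autoImplicit false
set_option linter.unusedSectionVars false

namespace Cfsg.Agent.Classical.Unitary.MinIndex

open Matrix Cfsg.Agent.Forms Cfsg.Agent.Classical

variable {F : Type*} [Field F] [Fintype F] {q : ℕ} (hF : Fintype.card F = q ^ 2)

local notation "V4" => (Fin 4 → F)
local notation "H4" => Cfsg.hermForm 4 F q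
local notation "G4" => Cfsg.SU 4 F q

/-- The stabiliser of a set of vectors. -/
def setStab (q : ℕ) (L : Set (Fin 4 → F)) : Subgroup (Cfsg.SU 4 F q) where
  carrier := {g | (mat g *ᵥ ·) '' L = L}
  one_mem' := by simp [mat_one]
  mul_mem' {a b} (ha : _ = _) (hb : _ = _) := show _ = _ by rw [image_image_mul, hb, ha]
  inv_mem' {a} (ha : _ = _) := show _ = _ by
    conv_lhs => rw [← ha]
    rw [← image_image_mul, inv_mul_cancel]
    simp [mat_one]

include hF

/-- A subgroup of index the number of totally isotropic lines. -/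
theorem exists_index_line :
    ∃ H : Subgroup (Cfsg.PSU 4 F q), H.index = (q + 1) * (q ^ 3 + 1) := by
  classical
  obtain ⟨u, hu, hu1, -, -⟩ := exists_isotropic_pair hF (n := 4) 0 1 (by decide)
  obtain ⟨Φ, -⟩ := exists_fr_at hF (n := 4) (m := 2) rfl (fun h => by simp [h] at hu1) hu
  obtain ⟨x, hx, hx1, -, -⟩ := exists_isotropic_pair hF (n := 2) 0 1 (by decide)
  obtain ⟨Ψ, -⟩ := exists_fr_at hF (n := 2) (m := 0) rfl (fun h => by simp [h] at hx1) hx
  set v := Ψ.u
  have hv0 : v ≠ 0 := Ψ.u_ne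
  have hv : Cfsg.hermForm 2 F q v v = 0 := Ψ.uu
  set L := Φ.lineSet v
  have huL : Φ.u ∈ L := ⟨1, 0, by rw [one_smul, zero_smul, add_zero]⟩
  have hvL : Φ.ι v ∈ L := ⟨0, 1, by rw [one_smul, zero_smul, zero_add]⟩
  have hιv : H4 (Φ.ι v) (Φ.ι v) = 0 := by rw [Φ.ii]; exact hv
  have hli : ∀ w : Fin 2 → F, w ≠ 0 → LinearIndependent F ![Φ.u, Φ.ι w] := by
    intro w hw
    rw [LinearIndependent.pair_iff]
    intro a b e
    have e1 := congrArg Φ.π e
    rw [map_add, map_smul, map_smul, Φ.π_u hF, smul_zero, zero_add, Φ.π_ι hF, map_zero] at e1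
    have hb : b = 0 := (smul_eq_zero.1 e1).resolve_right hw
    rw [hb, zero_smul, add_zero] at e
    exact ⟨(smul_eq_zero.1 e).resolve_right Φ.u_ne, hb⟩
  let P : Subgroup G4 := setStab q L
  have hcenter : Subgroup.center G4 ≤ P := by
    intro g hg
    obtain ⟨a, ha⟩ := (mem_center_iff hF (by norm_num) g).1 hg
    refine image_lineSet Φ g ?_ ?_ <;> rw [ha, Matrix.smul_mulVec, one_mulVec]
    exacts [Φ.smul_mem_lineSet huL a, Φ.smul_mem_lineSet hvL a]
  obtain ⟨H, hH⟩ := exists_index_PSU hF hcenter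
  refine ⟨H, hH.trans ?_⟩
  let St := lineStab hF Φ.u
  let I := P ⊓ St
  -- the points of the line
  have hA : I.relIndex P = q ^ 2 + 1 := by
    have hspec : ∀ g : P, ∃ (o : Option F) (a : F), a ≠ 0 ∧ mat g.1 *ᵥ Φ.u = a • Φ.lineVec v o :=
      fun g => Φ.exists_lineVec hF (by
        have h : (mat g.1 *ᵥ ·) '' L = L := g.2
        show mat g.1 *ᵥ Φ.u ∈ L
        rw [← h]; exact ⟨Φ.u, huL, rfl⟩) (mat_mulVec_ne_zero _ Φ.u_ne)
    choose o a ha hoa using hspec
    have hiff : ∀ g k : P, o g = o k ↔ g.1⁻¹ * k.1 ∈ St := by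
      intro g k
      constructor
      · intro e
        refine ⟨a k / a g, div_ne_zero (ha k) (ha g), ?_⟩
        rw [mul_mulVec, hoa k, ← e, show a k • Φ.lineVec v (o g) = (a k / a g) • (mat g.1 *ᵥ Φ.u) by
          rw [hoa g, smul_smul, div_mul_cancel₀ _ (ha g)], Matrix.mulVec_smul, inv_mulVec g.1 rfl]
      · rintro ⟨μ, -, hμ⟩
        have h := congrArg (mat g.1 *ᵥ ·) hμ
        simp only [← mul_mulVec, mul_inv_cancel_left, Matrix.mulVec_smul] at h
        rw [hoa k, hoa g, smul_smul] at h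
        refine (Φ.lineVec_inj hF hv0 (a := (μ * a g)⁻¹ * a k) ?_).symm
        rw [← smul_smul, h, inv_smul_smul₀]
        intro h0
        rw [h0, zero_smul, smul_eq_zero] at h
        rcases h with h | h
        · exact ha k h
        · exact Φ.lineVec_ne hF hv0 _ h
    have hmem : ∀ g k : P, g⁻¹ * k ∈ I.subgroupOf P ↔ o g = o k := fun g k => by
      rw [hiff, Subgroup.mem_subgroupOf]
      exact ⟨fun h => h.2, fun h => ⟨(g⁻¹ * k).2, h⟩⟩
    let f : P ⧸ I.subgroupOf P → Option F := fun z => Quotient.liftOn' z o fun g k h => by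
      rw [QuotientGroup.leftRel_apply] at h
      exact (hmem g k).1 h
    have hf : Function.Bijective f := by
      constructor
      · intro z z'
        refine Quotient.inductionOn₂' z z' fun g k h => Quotient.sound' ?_
        rw [QuotientGroup.leftRel_apply]
        exact (hmem g k).2 h
      · intro t
        obtain ⟨g, hg, c, hc⟩ : ∃ g, g ∈ P ∧ ∃ c : F, mat g *ᵥ Φ.u = c • Φ.lineVec v t := by
          rcases t with _ | x
          · exact ⟨1, one_mem P, 1, by rw [mat_one, one_mulVec, one_smul]; rfl⟩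
          obtain ⟨k, c, d, hk, hk'⟩ := exists_su_pair hF Φ.uu hιv (iso_line hF Φ hv x) Φ.uu (hli v hv0)
            (by
              rw [LinearIndependent.pair_iff]
              intro s t e
              have := LinearIndependent.pair_iff.1 (hli v hv0) (s * x + t) s (by
                linear_combination (norm := module) e)
              exact ⟨this.2, by rw [this.2] at this; linear_combination this.1⟩)
            (by
              rw [H_add_left, H_smul_left, Φ.uu, Φ.iu, Φ.ui hF]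
              simp)
          refine ⟨k, image_lineSet Φ k ?_ ?_, c, hk⟩
          · rw [hk]
            exact Φ.smul_mem_lineSet ⟨x, 1, by rw [one_smul, add_comm]⟩ c
          · rw [hk']
            exact Φ.smul_mem_lineSet huL d
        refine ⟨Quotient.mk'' ⟨g, hg⟩, ?_⟩
        show o ⟨g, hg⟩ = t
        refine Φ.lineVec_inj hF hv0 (a := c⁻¹ * a ⟨g, hg⟩) ?_
        rw [← smul_smul, ← hoa ⟨g, hg⟩]
        show c⁻¹ • (mat g *ᵥ Φ.u) = _
        rw [hc, inv_smul_smul₀]
        intro h0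
        rw [h0, zero_smul] at hc
        exact mat_mulVec_ne_zero g Φ.u_ne hc
    rw [Subgroup.relIndex, Subgroup.index, Nat.card_eq_of_bijective f hf, Finite.card_option,
      Nat.card_eq_fintype_card, hF]
  -- the lines through the point
  have hB : I.relIndex St = q + 1 := by
    have hspec : ∀ g : St, ∃ μ : F, μ ≠ 0 ∧ mat g.1 *ᵥ Φ.u = μ • Φ.u := fun g => g.2
    choose μ hμ0 hμ using hspec
    have hne : ∀ g : St, Φ.Amat g.1 *ᵥ v ≠ 0 := fun g e => by
      have h := Φ.Amat_preserves hF (hμ g) v Ψ.s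
      rw [e, H_zero_left, Ψ.us] at h
      exact zero_ne_one h
    have hAiso : ∀ g : St, Cfsg.hermForm 2 F q (Φ.Amat g.1 *ᵥ v) (Φ.Amat g.1 *ᵥ v) = 0 := fun g => by
      rw [Φ.Amat_preserves hF (hμ g)]; exact hv
    let o : St → IsoPt F q 2 := fun g => pt _ (hne g) (hAiso g)
    have hmem : ∀ g k : St, g⁻¹ * k ∈ I.subgroupOf St ↔ o g = o k := by
      intro g k
      have hmv : ∀ j : G4, mat j *ᵥ Φ.u ∈ L → mat j *ᵥ Φ.ι v ∈ L → j ∈ P := fun j h h' =>
        image_lineSet Φ j h h'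
      have hgi : mat g.1⁻¹ *ᵥ Φ.u = (μ g)⁻¹ • Φ.u := by
        have := inv_mulVec g.1 (hμ g)
        rw [Matrix.mulVec_smul] at this
        conv_rhs => rw [← this, inv_smul_smul₀ (hμ0 g)]
      obtain ⟨c, hc⟩ := Φ.move_ι hF (hμ g) v
      obtain ⟨d, hd⟩ := Φ.move_ι hF (hμ k) v
      simp only [o, pt_eq_pt]
      rw [Subgroup.mem_subgroupOf]
      constructor
      · rintro ⟨hP, -⟩
        have hP' : (mat (g⁻¹ * k).1 *ᵥ ·) '' L = L := hP
        obtain ⟨a, b, hab⟩ : mat (g.1⁻¹ * k.1) *ᵥ Φ.ι v ∈ L := by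
          rw [← hP']; exact ⟨Φ.ι v, hvL, rfl⟩
        have h := congrArg (fun z => Φ.π (mat g.1 *ᵥ z)) hab
        simp only [← mul_mulVec, mul_inv_cancel_left, Matrix.mulVec_add, Matrix.mulVec_smul, hμ g, map_add,
          map_smul, Φ.π_u hF, smul_zero, zero_add, ← Φ.Amat_mulVec] at h
        have hb : b ≠ 0 := fun e => hne k (by rw [h, e, zero_smul])
        exact ⟨b⁻¹, by rw [h, inv_smul_smul₀ hb]⟩
      · rintro ⟨b, hb⟩
        refine ⟨hmv _ ?_ ?_, (g⁻¹ * k).2⟩
        · show mat (g.1⁻¹ * k.1) *ᵥ Φ.u ∈ L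
          rw [mul_mulVec, hμ k, Matrix.mulVec_smul, hgi, smul_smul]
          exact Φ.smul_mem_lineSet huL _
        · show mat (g.1⁻¹ * k.1) *ᵥ Φ.ι v ∈ L
          have hb0 : b ≠ 0 := fun e => hne g (by rw [← hb, e, zero_smul])
          have hιk : Φ.ι (Φ.Amat k.1 *ᵥ v) = b⁻¹ • (mat g.1 *ᵥ Φ.ι v - c • Φ.u) := by
            rw [hc, add_sub_cancel_left, ← hb, map_smul, inv_smul_smul₀ hb0]
          rw [mul_mulVec, hd, hιk, Matrix.mulVec_add, Matrix.mulVec_smul, Matrix.mulVec_smul,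
            Matrix.mulVec_sub, Matrix.mulVec_smul, hgi, inv_mulVec g.1 rfl]
          exact ⟨d * (μ g)⁻¹ - b⁻¹ * (c * (μ g)⁻¹), b⁻¹, by module⟩
    let f : St ⧸ I.subgroupOf St → IsoPt F q 2 := fun z => Quotient.liftOn' z o fun g k h => by
      rw [QuotientGroup.leftRel_apply] at h
      exact (hmem g k).1 h
    have hf : Function.Bijective f := by
      constructor
      · intro z z'
        refine Quotient.inductionOn₂' z z' fun g k h => Quotient.sound' ?_
        rw [QuotientGroup.leftRel_apply]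
        exact (hmem g k).2 h
      · intro p
        have hw := p.1.rep_nonzero
        obtain ⟨g, c, d, hg, hg'⟩ := exists_su_pair hF Φ.uu hιv Φ.uu
          (show H4 (Φ.ι p.1.rep) (Φ.ι p.1.rep) = 0 by rw [Φ.ii]; exact p.2) (hli v hv0) (hli _ hw)
          (by rw [Φ.ui hF, Φ.ui hF])
        have hgS : g ∈ St := ⟨c, fun h0 => mat_mulVec_ne_zero g Φ.u_ne (by rw [hg, h0, zero_smul]), hg⟩
        refine ⟨Quotient.mk'' ⟨g, hgS⟩, ?_⟩
        show o ⟨g, hgS⟩ = p
        have hp : p = pt p.1.rep hw p.2 := Subtype.ext p.1.mk_rep.symm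
        rw [hp]
        simp only [o, pt_eq_pt]
        refine ⟨d, ?_⟩
        rw [Φ.Amat_mulVec, hg', map_smul, Φ.π_ι hF]
    rw [Subgroup.relIndex, Subgroup.index, Nat.card_eq_of_bijective f hf,
      ← index_lineStab_iso hF Ψ.u_ne Ψ.uu, index_lineStab_two hF Ψ]
  have h1 := Subgroup.relIndex_mul_index (inf_le_left : I ≤ P)
  have h2 := Subgroup.relIndex_mul_index (inf_le_right : I ≤ St)
  rw [hA] at h1
  rw [hB, index_lineStab_iso hF Φ.u_ne Φ.uu, natCard_isoPt_four hF] at h2
  refine Nat.eq_of_mul_eq_mul_left (by omega : 0 < q ^ 2 + 1) (h1.trans (h2.symm.trans ?_))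
  ring

end Cfsg.Agent.Classical.Unitary.MinIndex
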