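import Mathlib
import Cfsg.Agent.Lib.Classical.UnitarySimple

/-!
# Coordinates at an isotropic vector of the standard hermitian space

A frame is a hyperbolic pair `u, s` together with an isometry `ι` of the standard space of dimension two less
onto the orthogonal complement of the pair.
-/

set_option autoImplicit false
set_option linter.unusedSectionVars false

namespace Cfsg.Agent.Classical.Unitary.MinIndex

open Matrix Cfsg.Agent.Forms Cfsg.Agent.Classical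

variable {F : Type*} [Field F] [Fintype F] {q n m : ℕ} (hF : Fintype.card F = q ^ 2)

local notation "Vec" => (Fin n → F)
local notation "Wc" => (Fin m → F)
local notation "Hn" => Cfsg.hermForm n F q
local notation "Hm" => Cfsg.hermForm m F q

/-- A hyperbolic pair and coordinates on its orthogonal complement. -/
structure Fr (F : Type*) [Field F] (q n m : ℕ) where
  u : Fin n → F
  s : Fin n → F
  ι : (Fin m → F) →ₗ[F] Fin n → F
  uu : Cfsg.hermForm n F q u u = 0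
  ss : Cfsg.hermForm n F q s s = 0
  us : Cfsg.hermForm n F q u s = 1
  su : Cfsg.hermForm n F q s u = 1
  ii : ∀ x y, Cfsg.hermForm n F q (ι x) (ι y) = Cfsg.hermForm m F q x y
  iu : ∀ x, Cfsg.hermForm n F q (ι x) u = 0
  iss : ∀ x, Cfsg.hermForm n F q (ι x) s = 0
  decomp : ∀ x, x = Cfsg.hermForm n F q x s • u + Cfsg.hermForm n F q x u • s +
    ι fun i => Cfsg.hermForm n F q x (ι (Pi.single i 1))

variable (Φ : Fr F q n m)

/-- The coordinates of the projection to the orthogonal complement. -/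
def Fr.π : Vec →ₗ[F] Wc where
  toFun x i := Hn x (Φ.ι (Pi.single i 1))
  map_add' x y := funext fun i => H_add_left x y _
  map_smul' a x := funext fun i => H_smul_left a x _

theorem Fr.decomp' (x : Vec) : x = Hn x Φ.s • Φ.u + Hn x Φ.u • Φ.s + Φ.ι (Φ.π x) := Φ.decomp x

include hF

theorem Fr.ui (x : Wc) : Hn Φ.u (Φ.ι x) = 0 := (H_eq_zero_comm hF).1 (Φ.iu x)

theorem Fr.si (x : Wc) : Hn Φ.s (Φ.ι x) = 0 := (H_eq_zero_comm hF).1 (Φ.iss x)

theorem Fr.π_ι (x : Wc) : Φ.π (Φ.ι x) = x :=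
  funext fun i => (Φ.ii x _).trans (H_single_right hF x i)

theorem Fr.π_u : Φ.π Φ.u = 0 := funext fun _ => Φ.ui hF _

theorem Fr.π_s : Φ.π Φ.s = 0 := funext fun _ => Φ.si hF _

theorem Fr.h_ι (x : Vec) (y : Wc) : Hn x (Φ.ι y) = Hm (Φ.π x) y := by
  conv_lhs => rw [Φ.decomp' x]
  simp only [H_add_left, H_smul_left, Φ.ii, Φ.ui hF, Φ.si hF]
  ring

theorem Fr.ι_h (y : Wc) (x : Vec) : Hn (Φ.ι y) x = Hm y (Φ.π x) := by
  rw [← H_conj hF, Φ.h_ι hF, H_conj hF]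

theorem Fr.ι_injective : Function.Injective Φ.ι := fun a b e => by
  rw [← Φ.π_ι hF a, e, Φ.π_ι hF]

omit hF in
theorem Fr.u_ne : Φ.u ≠ 0 := fun e => by
  have := Φ.us
  rw [e, H_zero_left] at this
  exact zero_ne_one this

theorem Fr.s_ne : Φ.s ≠ 0 := fun e => by
  have := Φ.su
  rw [e, H_zero_left] at this
  exact zero_ne_one this

theorem Fr.ι_ne {w : Wc} (hw : w ≠ 0) : Φ.ι w ≠ 0 :=
  fun e => hw (Φ.ι_injective hF (e.trans (map_zero _).symm))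

/-- Two linear maps agreeing on the frame agree. -/
theorem Fr.mat_eq {A B : Matrix (Fin n) (Fin n) F} (h1 : A *ᵥ Φ.u = B *ᵥ Φ.u)
    (h2 : A *ᵥ Φ.s = B *ᵥ Φ.s) (h3 : ∀ w, A *ᵥ Φ.ι w = B *ᵥ Φ.ι w) : A = B := by
  refine mat_ext fun x => ?_
  rw [Φ.decomp' x]
  simp only [Matrix.mulVec_add, Matrix.mulVec_smul, h1, h2, h3]

/-- Frames exist at every isotropic vector. -/
theorem exists_fr (hn : n = 2 + m) {u s : Vec} (huu : Hn u u = 0) (hss : Hn s s = 0)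
    (hus : Hn u s = 1) : ∃ Φ : Fr F q n m, Φ.u = u ∧ Φ.s = s := by
  subst hn
  have hsu : Cfsg.hermForm (2 + m) F q s u = 1 := by rw [← H_conj hF, hus, one_pow]
  obtain ⟨b, hb⟩ := exists_trace_eq hF (c := (1 : F)) (one_pow q)
  obtain ⟨y, hy⟩ := UnitaryCount.exists_norm_eq hF (μ := -1) (by simp)
    (by rw [← HermStd.qHom_apply hF, map_neg, map_one])
  have hy0 : y ≠ 0 := fun e => by simp [e] at hy
  have hneg : (-b ^ q) ^ q = -b := by rw [← HermStd.qHom_apply hF, map_neg, HermStd.qHom_apply,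
    pow_qq hF]
  obtain ⟨g, hg⟩ := exists_gu_frame hF (k := 2) (r := m) ![s + b • u, y • (s + (-b ^ q) • u)]
    (fun i j => by
      have hyy : y ^ q * y = -1 := by rw [← pow_succ, hy]
      have hbb : (b ^ q) ^ q = b := pow_qq hF b
      fin_cases i <;> fin_cases j <;>
        simp [H_add_left, H_add_right hF, H_smul_left, H_smul_right, huu, hss, hus, hsu, hneg,
          H_neg_left, H_neg_right hF, hbb] <;> grind)
  let ι₀ : (Fin m → F) →ₗ[F] Fin (2 + m) → F :=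
    { toFun := fun x => Fin.append 0 x
      map_add' := fun x z => funext fun i => by
        induction i using Fin.addCases <;> simp
      map_smul' := fun a x => funext fun i => by
        induction i using Fin.addCases <;> simp }
  let ι : (Fin m → F) →ₗ[F] Fin (2 + m) → F := (Matrix.mulVecLin (gmat g)).comp ι₀
  have Hnι : ∀ x, ι x = gmat g *ᵥ Fin.append 0 x := fun x => rfl
  have hfr : ∀ (i : Fin 2) (x : Fin m → F), Cfsg.hermForm (2 + m) F q (ι x)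
      (![s + b • u, y • (s + (-b ^ q) • u)] i) = 0 := by
    intro i x
    rw [Hnι, ← hg i, GU_H, H_single_right hF]
    simp
  have hiu : ∀ x, Cfsg.hermForm (2 + m) F q (ι x) u = 0 ∧ Cfsg.hermForm (2 + m) F q (ι x) s = 0 := by
    intro x
    have e0 := hfr 0 x
    have e1 := hfr 1 x
    simp only [Matrix.cons_val_zero, Matrix.cons_val_one] at e0 e1
    rw [H_smul_right, mul_eq_zero, or_iff_right (pow_ne_zero _ hy0)] at e1
    simp only [H_add_right hF, H_smul_right, hneg] at e0 e1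
    have hv' : Cfsg.hermForm (2 + m) F q (ι x) u = 0 := by
      linear_combination e0 - e1 - (Cfsg.hermForm (2 + m) F q (ι x) u) * hb
    exact ⟨hv', by rw [hv', mul_zero, add_zero] at e0; exact e0⟩
  have hii : ∀ x z, Cfsg.hermForm (2 + m) F q (ι x) (ι z) = Cfsg.hermForm m F q x z := by
    intro x z
    rw [Hnι, Hnι, GU_H, H_append]
    simp [Cfsg.hermForm]
  have huι : ∀ x, Cfsg.hermForm (2 + m) F q u (ι x) = 0 ∧ Cfsg.hermForm (2 + m) F q s (ι x) = 0 :=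
    fun x => ⟨(H_eq_zero_comm hF).1 (hiu x).1, (H_eq_zero_comm hF).1 (hiu x).2⟩
  refine ⟨⟨u, s, ι, huu, hss, hus, hsu, hii, fun x => (hiu x).1, fun x => (hiu x).2, ?_⟩, rfl, rfl⟩
  intro x
  generalize hz : (fun i => Cfsg.hermForm (2 + m) F q x (ι (Pi.single i 1))) = w
  refine sub_eq_zero.1 ?_
  set z := x - (Cfsg.hermForm (2 + m) F q x s • u + Cfsg.hermForm (2 + m) F q x u • s + ι w) with hzdef
  have hzu : Cfsg.hermForm (2 + m) F q z u = 0 := by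
    simp only [hzdef, H_sub_left, H_add_left, H_smul_left, huu, hsu, (hiu w).1]; ring
  have hzs : Cfsg.hermForm (2 + m) F q z s = 0 := by
    simp only [hzdef, H_sub_left, H_add_left, H_smul_left, hss, hus, (hiu w).2]; ring
  have hzi : ∀ i, Cfsg.hermForm (2 + m) F q z (ι (Pi.single i 1)) = 0 := by
    intro i
    simp only [hzdef, H_sub_left, H_add_left, H_smul_left, (huι _).1, (huι _).2, hii,
      H_single_right hF]
    rw [← hz]; ring
  have hzero : gmat g⁻¹ *ᵥ z = 0 := by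
    have key : ∀ e, Cfsg.hermForm (2 + m) F q (gmat g⁻¹ *ᵥ z) e =
        Cfsg.hermForm (2 + m) F q z (gmat g *ᵥ e) := by
      intro e
      conv_rhs => rw [← one_mulVec z, ← gmat_one (q := q), ← mul_inv_cancel g, gmul_mulVec, GU_H]
    funext i
    rw [← H_single_right hF (gmat g⁻¹ *ᵥ z) i, key]
    induction i using Fin.addCases with
    | left i =>
      rw [hg]
      fin_cases i <;> simp [H_add_right hF, H_smul_right, H_neg_right hF, hzu, hzs]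
    | right j =>
      have : (Pi.single (Fin.natAdd 2 j) (1 : F) : Fin (2 + m) → F) = Fin.append 0 (Pi.single j 1) := by
        funext k
        induction k using Fin.addCases with
        | left k => simp [Pi.single_apply, Fin.ext_iff]; omega
        | right k => simp [Pi.single_apply, Fin.ext_iff]
      rw [this]
      exact hzi j
  rw [← one_mulVec z, ← gmat_one (q := q), ← mul_inv_cancel g, gmul_mulVec, hzero, Matrix.mulVec_zero]

theorem exists_fr_at (hn : n = 2 + m) {u : Vec} (hu : u ≠ 0) (huu : Hn u u = 0) :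
    ∃ Φ : Fr F q n m, Φ.u = u := by
  obtain ⟨s, hss, hus⟩ := exists_partner hF hu huu
  obtain ⟨Φ, HnΦ, -⟩ := exists_fr hF hn huu hss hus
  exact ⟨Φ, HnΦ⟩

/-! ### The three kinds of matrices -/

omit hF

/-- The unipotent matrices fixing `u`. -/
def Fr.EM (w : Wc) (a : F) : Matrix (Fin n) (Fin n) F :=
  two q (Φ.ι w + a • Φ.u) Φ.u (-Φ.u) (Φ.ι w)

/-- The matrix of a map of the complement, extended. -/
def Fr.XM (A : Matrix (Fin m) (Fin m) F) : Matrix (Fin n) (Fin n) F :=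
  1 + LinearMap.toMatrix' Φ.ι * (A - 1) * LinearMap.toMatrix' Φ.π

/-- The scaling of the hyperbolic pair. -/
def Fr.TM (μ : F) : Matrix (Fin n) (Fin n) F :=
  two q ((μ - 1) • Φ.u) Φ.s (((μ ^ q)⁻¹ - 1) • Φ.s) Φ.u

theorem Fr.EM_mulVec (w : Wc) (a : F) (x : Vec) :
    Φ.EM w a *ᵥ x = x + (Hn x Φ.u • (Φ.ι w + a • Φ.u) + Hn x (Φ.ι w) • (-Φ.u)) :=
  two_mulVec _ _ _ _ x

theorem Fr.XM_mulVec (A : Matrix (Fin m) (Fin m) F) (x : Vec) :
    Φ.XM A *ᵥ x = x + Φ.ι (A *ᵥ Φ.π x - Φ.π x) := by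
  rw [Fr.XM, Matrix.add_mulVec, one_mulVec, ← Matrix.mulVec_mulVec, ← Matrix.mulVec_mulVec,
    LinearMap.toMatrix'_mulVec, LinearMap.toMatrix'_mulVec, Matrix.sub_mulVec, one_mulVec]

theorem Fr.TM_mulVec (μ : F) (x : Vec) :
    Φ.TM μ *ᵥ x = x + (Hn x Φ.s • ((μ - 1) • Φ.u) + Hn x Φ.u • (((μ ^ q)⁻¹ - 1) • Φ.s)) :=
  two_mulVec _ _ _ _ x

include hF

theorem Fr.EM_u (w : Wc) (a : F) : Φ.EM w a *ᵥ Φ.u = Φ.u := by
  rw [Φ.EM_mulVec, Φ.uu, Φ.ui hF]; simp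

theorem Fr.EM_s (w : Wc) (a : F) : Φ.EM w a *ᵥ Φ.s = Φ.s + Φ.ι w + a • Φ.u := by
  rw [Φ.EM_mulVec, Φ.su, Φ.si hF]; simp [add_assoc]

theorem Fr.EM_ι (w : Wc) (a : F) (x : Wc) : Φ.EM w a *ᵥ Φ.ι x = Φ.ι x - Hm x w • Φ.u := by
  rw [Φ.EM_mulVec, Φ.iu, Φ.ii]; simp [sub_eq_add_neg]

theorem Fr.EM_zero (a : F) : Φ.EM 0 a = Cfsg.unitaryTransvection n q Φ.u a := by
  refine Φ.mat_eq hF ?_ ?_ (fun w => ?_) <;>
    rw [HermStd.transvection_mulVec]
  · rw [Φ.EM_u hF, Φ.uu]; simp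
  · rw [Φ.EM_s hF, Φ.su]; simp
  · rw [Φ.EM_ι hF, Φ.iu]; simp [Cfsg.hermForm, zero_pow (q_ne_zero hF)]

theorem Fr.EM_mul (w w' : Wc) (a a' : F) :
    Φ.EM w a * Φ.EM w' a' = Φ.EM (w + w') (a + a' - Hm w' w) := by
  refine Φ.mat_eq hF ?_ ?_ (fun x => ?_) <;> rw [← Matrix.mulVec_mulVec]
  · rw [Φ.EM_u hF, Φ.EM_u hF, Φ.EM_u hF]
  · simp only [Φ.EM_s hF, Matrix.mulVec_add, Matrix.mulVec_smul, Φ.EM_ι hF, Φ.EM_u hF, map_add]
    module
  · simp only [Φ.EM_ι hF, Matrix.mulVec_sub, Matrix.mulVec_smul, Φ.EM_u hF, H_add_right hF]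
    module

theorem Fr.EM_one : Φ.EM 0 0 = 1 := by
  refine Φ.mat_eq hF ?_ ?_ (fun x => ?_) <;> rw [one_mulVec]
  · rw [Φ.EM_u hF]
  · rw [Φ.EM_s hF]; simp
  · rw [Φ.EM_ι hF, H_zero_right hF]; simp

theorem Fr.EM_injective {w w' : Wc} {a a' : F} (e : Φ.EM w a = Φ.EM w' a') : w = w' ∧ a = a' := by
  have e' := congrArg (· *ᵥ Φ.s) e
  simp only [Φ.EM_s hF] at e'
  constructor
  · have := congrArg Φ.π e'
    simpa [Φ.π_ι hF, Φ.π_u hF, Φ.π_s hF] using this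
  · have := congrArg (Hn · Φ.s) e'
    simpa [H_add_left, H_smul_left, Φ.ss, Φ.iss, Φ.us] using this

theorem Fr.det_EM (w : Wc) (a : F) : (Φ.EM w a).det = 1 :=
  det_heis Φ.uu (Φ.iu w) (Φ.ui hF w)

theorem Fr.EM_preserves {w : Wc} {a : F} (ha : a + a ^ q = - Hm w w) (x y : Vec) :
    Hn (Φ.EM w a *ᵥ x) (Φ.EM w a *ᵥ y) = Hn x y :=
  heis_preserves hF Φ.uu (Φ.iu w) (by rw [Φ.ii]; exact ha) x y

theorem Fr.trace_of_preserves {w : Wc} {a : F} {g : Cfsg.SU n F q} (hg : mat g = Φ.EM w a) :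
    a + a ^ q = - Hm w w := by
  have e := SU_H g Φ.s Φ.s
  rw [hg, Φ.EM_s hF] at e
  simp only [H_add_left, H_add_right hF, H_smul_left, H_smul_right, Φ.ss, Φ.si hF, Φ.iss, Φ.su,
    Φ.us, Φ.iu, Φ.ui hF, Φ.uu, Φ.ii] at e
  linear_combination e

/-- The unipotent elements. -/
def Fr.E (w : Wc) (a : F) (ha : a + a ^ q = - Hm w w) : Cfsg.SU n F q :=
  suMk (Φ.EM w a) (Φ.det_EM hF w a) (Φ.EM_preserves hF ha)

theorem Fr.XM_u (A : Matrix (Fin m) (Fin m) F) : Φ.XM A *ᵥ Φ.u = Φ.u := by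
  rw [Φ.XM_mulVec, Φ.π_u hF]; simp

theorem Fr.XM_s (A : Matrix (Fin m) (Fin m) F) : Φ.XM A *ᵥ Φ.s = Φ.s := by
  rw [Φ.XM_mulVec, Φ.π_s hF]; simp

theorem Fr.XM_ι (A : Matrix (Fin m) (Fin m) F) (x : Wc) : Φ.XM A *ᵥ Φ.ι x = Φ.ι (A *ᵥ x) := by
  rw [Φ.XM_mulVec, Φ.π_ι hF, map_sub]; abel

theorem Fr.det_XM (A : Matrix (Fin m) (Fin m) F) : (Φ.XM A).det = A.det := by
  have e : LinearMap.toMatrix' Φ.π * LinearMap.toMatrix' Φ.ι = 1 := by
    rw [← LinearMap.toMatrix'_comp,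
      show Φ.π.comp Φ.ι = LinearMap.id from LinearMap.ext (Φ.π_ι hF), LinearMap.toMatrix'_id]
  rw [Fr.XM, Matrix.mul_assoc, Matrix.det_one_add_mul_comm, Matrix.mul_assoc, e, Matrix.mul_one,
    add_sub_cancel]

theorem Fr.XM_preserves {A : Matrix (Fin m) (Fin m) F} (hA : ∀ x y, Hm (A *ᵥ x) (A *ᵥ y) = Hm x y)
    (x y : Vec) : Hn (Φ.XM A *ᵥ x) (Φ.XM A *ᵥ y) = Hn x y := by
  have e : ∀ z, Φ.XM A *ᵥ z = Hn z Φ.s • Φ.u + Hn z Φ.u • Φ.s + Φ.ι (A *ᵥ Φ.π z) := by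
    intro z
    conv_lhs => rw [Φ.decomp' z]
    simp only [Matrix.mulVec_add, Matrix.mulVec_smul, Φ.XM_u hF, Φ.XM_s hF, Φ.XM_ι hF]
  rw [e x, e y]
  conv_rhs => rw [Φ.decomp' x, Φ.decomp' y]
  simp only [H_add_left, H_add_right hF, H_smul_left, H_smul_right, Φ.uu, Φ.ss, Φ.us, Φ.su, Φ.iu,
    Φ.iss, Φ.ui hF, Φ.si hF, Φ.ii, hA]

/-- The embedding of the smaller group. -/
def Fr.ext (A : Cfsg.SU m F q) : Cfsg.SU n F q :=
  suMk (Φ.XM (mat A)) (by rw [Φ.det_XM hF]; exact A.1.2) (Φ.XM_preserves hF A.2)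

theorem Fr.TM_u (μ : F) : Φ.TM μ *ᵥ Φ.u = μ • Φ.u := by
  rw [Φ.TM_mulVec, Φ.uu, Φ.us]; module

theorem Fr.TM_s (μ : F) : Φ.TM μ *ᵥ Φ.s = (μ ^ q)⁻¹ • Φ.s := by
  rw [Φ.TM_mulVec, Φ.ss, Φ.su]; module

theorem Fr.TM_ι (μ : F) (x : Wc) : Φ.TM μ *ᵥ Φ.ι x = Φ.ι x := by
  rw [Φ.TM_mulVec, Φ.iu, Φ.iss]; simp

theorem Fr.det_TM (μ : F) : (Φ.TM μ).det = μ * (μ ^ q)⁻¹ := by
  rw [Fr.TM, det_two]
  simp only [H_smul_left, Φ.uu, Φ.ss, Φ.us, Φ.su]
  ring

end Cfsg.Agent.Classical.Unitary.MinIndex
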