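import Cfsg.Agent.Lib.Classical.UnitaryMinIndex.Linear
import Cfsg.Agent.Lib.Classical.UnitaryMinIndex.Count
import Cfsg.Agent.Lib.Classical.UnitaryMinIndex.Orbit

/-!
# The good points are the isotropic points of a hyperplane
-/

set_option autoImplicit false
set_option linter.unusedSectionVars false

namespace Cfsg.Agent.Classical.Unitary.MinIndex

open Matrix Cfsg.Agent.Forms Cfsg.Agent.Classical

variable {F : Type*} [Field F] [Fintype F] {q n m : ℕ} (hF : Fintype.card F = q ^ 2)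

local notation "Vec" => (Fin n → F)
local notation "Wc" => (Fin m → F)
local notation "Hn" => Cfsg.hermForm n F q
local notation "Hm" => Cfsg.hermForm m F q

variable (Φ : Fr F q n m) (K : Subgroup (Cfsg.SU n F q))

/-- The vectors with product one with `u`. -/
def Fr.offPt (α : F) (b : Fin m → F) : Fin n → F := α • Φ.u + Φ.s + Φ.ι b

include hF

theorem Fr.H_offPt (α α' : F) (b b' : Wc) :
    Hn (Φ.offPt α b) (Φ.offPt α' b') = α + α' ^ q + Hm b b' := by
  simp [Fr.offPt, H_add_left, H_add_right hF, H_smul_left, H_smul_right, Φ.uu, Φ.ss, Φ.us, Φ.su, Φ.iu,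
    Φ.iss, Φ.ui hF, Φ.si hF, Φ.ii]
  ring

theorem Fr.offPt_u (α : F) (b : Wc) : Hn (Φ.offPt α b) Φ.u = 1 := by
  simp [Fr.offPt, H_add_left, H_smul_left, Φ.uu, Φ.su, Φ.iu]

theorem Fr.eq_offPt {r : Vec} (hr : Hn r Φ.u = 1) : r = Φ.offPt (Hn r Φ.s) (Φ.π r) := by
  conv_lhs => rw [Φ.decomp' r, hr, one_smul]
  rfl

variable (hm : 3 ≤ m) (hn : n = 2 + m) (hTT : TypeTwo K hF m) (hbad : ¬ Good K Φ.u)
  (hgood : ∀ v : Fin m → F, Cfsg.hermForm m F q v v = 0 → v ≠ 0 → Good K (Φ.ι v))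

include hm hn hTT hbad hgood

/-- In the hyperplane of `u` only the residual points are good. -/
theorem line_zero {z : Wc} (hz : Hm z z = 0) {d : F} (h : Good K (d • Φ.u + Φ.ι z)) : d = 0 := by
  by_cases hz0 : z = 0
  · by_contra hd
    rw [hz0, map_zero, add_zero, good_smul hF K hd] at h
    exact hbad h
  rw [add_comm] at h
  refine line_unique hF K hm hn hTT Φ.uu (by rw [Φ.ii, hz]) (Φ.iu z) Φ.u_ne (fun a e => hz0 ?_) hbad h
    (by rw [zero_smul, add_zero]; exact hgood z hz hz0)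
  have := congrArg Φ.π e
  rwa [Φ.π_ι hF, map_smul, Φ.π_u hF, smul_zero] at this

/-- Two good vectors of product zero have the same first coordinate. -/
theorem perp_offPt {α α' : F} {b b' : Wc} (hi : Hn (Φ.offPt α b) (Φ.offPt α b) = 0)
    (hi' : Hn (Φ.offPt α' b') (Φ.offPt α' b') = 0) (hg : Good K (Φ.offPt α b))
    (hg' : Good K (Φ.offPt α' b')) (hperp : Hn (Φ.offPt α b) (Φ.offPt α' b') = 0) : α = α' := by
  by_contra hne
  set w := Φ.offPt α b - Φ.offPt α' b' with hwd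
  have he : w = (α - α') • Φ.u + Φ.ι (b - b') := by
    rw [hwd, map_sub]; simp only [Fr.offPt]; module
  have hperp' := (H_eq_zero_comm hF).1 hperp
  have hw : Hn w w = 0 := by
    rw [hwd, H_sub_left, H_sub_right hF, H_sub_right hF, hi, hi', hperp, hperp']; ring
  have hbb : Hm (b - b') (b - b') = 0 := by
    rw [he] at hw
    simpa only [H_add_left, H_add_right hF, H_smul_left, H_smul_right, Φ.uu, Φ.iu, Φ.ui hF, Φ.ii, mul_zero,
      add_zero, zero_add] using hw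
  have hwu : Hn w Φ.u = 0 := by rw [hwd, H_sub_left, Φ.offPt_u hF, Φ.offPt_u hF, sub_self]
  have hw0 : w ≠ 0 := fun e => hne (sub_eq_zero.1 (by
    have := congrArg (fun x => Hn x Φ.s) e
    simpa only [he, H_add_left, H_smul_left, Φ.us, Φ.iss, H_zero_left, mul_one, add_zero] using this))
  by_cases hwg : Good K w
  · exact hne (sub_eq_zero.1 (line_zero hF Φ K hm hn hTT hbad hgood hbb (he ▸ hwg)))
  refine zero_ne_one (α := F) (line_unique hF K hm hn hTT hw hi' ?_ hw0 (fun a e => ?_) hwg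
    (by rw [zero_smul, add_zero]; exact hg') (by rw [one_smul, hwd, add_sub_cancel]; exact hg))
  · rw [hwd, H_sub_right hF, hperp', hi', sub_self]
  · have := congrArg (fun x => Hn x Φ.u) e
    rw [Φ.offPt_u hF, H_smul_left, hwu, mul_zero] at this
    exact one_ne_zero this

/-- The residual group acts on the good points. -/
theorem exists_lift_good (A : Cfsg.SU m F q) :
    ∃ k ∈ K, ∃ a : F, a + a ^ q = 0 ∧ mat k *ᵥ Φ.u = Φ.u ∧ mat k *ᵥ Φ.s = Φ.s + a • Φ.u ∧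
      ∀ y : Wc, mat k *ᵥ Φ.ι y = Φ.ι (mat A *ᵥ y) := by
  obtain ⟨hI, hX⟩ := hTT Φ hbad
  obtain ⟨g, hg, w, a, hga⟩ := exists_lift hF Φ K hI A
  have hu : mat g *ᵥ Φ.u = Φ.u := by rw [hga, ← Matrix.mulVec_mulVec, Φ.XM_u hF, Φ.EM_u hF]
  have hι : ∀ y, mat g *ᵥ Φ.ι y = Φ.ι (mat A *ᵥ y) - Hm (mat A *ᵥ y) w • Φ.u := fun y => by
    rw [hga, ← Matrix.mulVec_mulVec, Φ.XM_ι hF, Φ.EM_ι hF]
  have hw : w = 0 := eq_zero_of_perp_iso hF (by omega) fun v hv => by
    by_cases hv0 : v = 0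
    · rw [hv0, H_zero_right hF]
    have hv' : mat A *ᵥ (mat A⁻¹ *ᵥ v) = v := by rw [← mul_mulVec, mul_inv_cancel, mat_one, one_mulVec]
    have hiso : Hm (mat A⁻¹ *ᵥ v) (mat A⁻¹ *ᵥ v) = 0 := by rw [SU_H, hv]
    have h := good_map hF K hg (by rw [Φ.ii, hiso]) (hgood _ hiso (mat_mulVec_ne_zero _ hv0))
    rw [hι, hv', sub_eq_add_neg, ← neg_smul, add_comm] at h
    have := neg_eq_zero.1 (line_zero hF Φ K hm hn hTT hbad hgood hv h)
    exact (H_eq_zero_comm hF).1 this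
  subst hw
  have hs : mat g *ᵥ Φ.s = Φ.s + a • Φ.u := by
    rw [hga, ← Matrix.mulVec_mulVec, Φ.XM_s hF, Φ.EM_s hF, map_zero, add_zero]
  refine ⟨g, hg, a, ?_, hu, hs, fun y => by rw [hι, H_zero_right hF, zero_smul, sub_zero]⟩
  have e := SU_H g Φ.s Φ.s
  rw [hs] at e
  simp [H_add_left, H_add_right hF, H_smul_left, H_smul_right, Φ.ss, Φ.su, Φ.us, Φ.uu] at e
  linear_combination e

/-- The residual transvections fix the hyperbolic pair. -/
theorem exists_tv_lift {A : Cfsg.SU m F q} (hA : A ∈ tvGroup F q m) :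
    ∃ k ∈ K, mat k *ᵥ Φ.u = Φ.u ∧ mat k *ᵥ Φ.s = Φ.s ∧
      ∀ y : Wc, mat k *ᵥ Φ.ι y = Φ.ι (mat A *ᵥ y) := by
  induction hA using Subgroup.closure_induction with
  | mem A hA =>
    obtain ⟨v, c, hv, hc, hAe⟩ := hA
    by_cases hv0 : v = 0
    · refine ⟨1, one_mem _, by simp [mat_one], by simp [mat_one], fun y => ?_⟩
      rw [mat_one, one_mulVec, hAe, HermStd.transvection_mulVec, hv0]
      simp
    have hvi : Hn (Φ.ι v) (Φ.ι v) = 0 := by rw [Φ.ii, hv]
    refine ⟨tvu hF hvi hc, (good_iff hF K hvi).1 (hgood v hv hv0) c hc, ?_, ?_, fun y => ?_⟩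
    · rw [tvu_mulVec, Φ.ui hF, mul_zero, zero_smul, add_zero]
    · rw [tvu_mulVec, Φ.si hF, mul_zero, zero_smul, add_zero]
    · rw [tvu_mulVec, Φ.ii, hAe, HermStd.transvection_mulVec, map_add, map_smul]
  | one => exact ⟨1, one_mem _, by simp [mat_one], by simp [mat_one], fun y => by simp [mat_one]⟩
  | mul A B _ _ hA hB =>
    obtain ⟨k, hk, hku, hks, hky⟩ := hA
    obtain ⟨l, hl, hlu, hls, hly⟩ := hB
    refine ⟨k * l, mul_mem hk hl, ?_, ?_, fun y => ?_⟩
    · rw [mul_mulVec, hlu, hku]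
    · rw [mul_mulVec, hls, hks]
    · rw [mul_mulVec, hly, hky, ← mul_mulVec]
  | inv A _ hA =>
    obtain ⟨k, hk, hku, hks, hky⟩ := hA
    refine ⟨k⁻¹, inv_mem hk, inv_mulVec k hku, inv_mulVec k hks, fun y => inv_mulVec k ?_⟩
    rw [hky, ← mul_mulVec, mul_inv_cancel, mat_one, one_mulVec]

/-- There is a good point outside the hyperplane of `u`. -/
theorem exists_offPt_good : ∃ (α : F) (b : Wc), Hn (Φ.offPt α b) (Φ.offPt α b) = 0 ∧ Good K (Φ.offPt α b) := by
  by_contra hcon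
  push Not at hcon
  obtain ⟨v, hv, hv1, -, -⟩ := exists_isotropic_pair hF (n := m) ⟨0, by omega⟩ ⟨1, by omega⟩
    (by simp [Fin.ext_iff])
  have hv0 : v ≠ 0 := fun h0 => by simp [h0] at hv1
  obtain ⟨Ψ, rfl⟩ := exists_fr_at hF (m := m - 2) (by omega) hv0 hv
  set y := Φ.ι Ψ.u + Φ.u with hy
  set x := Φ.s - Φ.ι Ψ.s with hx
  have hyb : ¬ Good K y := fun h =>
    one_ne_zero (line_zero hF Φ K hm hn hTT hbad hgood hv (d := 1) (by rw [one_smul, add_comm]; exact h))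
  have hxe : x = Φ.offPt 0 (-Ψ.s) := by rw [hx, Fr.offPt, zero_smul, zero_add, map_neg, sub_eq_add_neg]
  have hxi : Hn x x = 0 := by
    rw [hxe, Φ.H_offPt hF, H_neg_left, H_neg_right hF, Ψ.ss]
    simp [zero_pow (q_ne_zero hF)]
  have hxb : ¬ Good K x := hxe ▸ hcon 0 _ (hxe ▸ hxi)
  have hyy : Hn y y = 0 := by
    simp [hy, H_add_left, H_add_right hF, Φ.ii, hv, Φ.iu, Φ.ui hF, Φ.uu]
  have hxy : Hn x y = 0 := by
    simp [hx, hy, H_sub_left, H_add_right hF, Φ.ii, Ψ.su, Φ.iu, Φ.su, Φ.si hF]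
  have hyl : ∀ a : F, y ≠ a • x := fun a e => by
    have e1 := congrArg (fun z => Hn z Φ.u) e
    simp [hy, hx, H_add_left, H_smul_left, H_sub_left, Φ.iu, Φ.uu, Φ.su] at e1
    rw [← e1, zero_smul] at e
    have := congrArg Φ.π e
    simp [hy, Φ.π_ι hF, Φ.π_u hF] at this
    exact hv0 this
  have hx0 : x ≠ 0 := fun h0 => by
    have := congrArg (fun z => Hn z Φ.u) h0
    simp [hx, H_sub_left, Φ.su, Φ.iu, H_zero_left] at this
  obtain ⟨β, hβ⟩ := exists_good_on_line hF K hm hn hTT hxi hyy ((H_eq_zero_comm hF).1 hxy) hx0 hyl hxb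
  by_cases hβ0 : β = 0
  · rw [hβ0, zero_smul, add_zero] at hβ; exact hyb hβ
  have hiso : Hn (β⁻¹ • (y + β • x)) (β⁻¹ • (y + β • x)) = 0 := by
    rw [UnitaryCount.hermForm_smul_smul]
    have h0 := iso_combine hF hxi hyy ((H_eq_zero_comm hF).1 hxy) 1 β
    rw [one_smul] at h0
    rw [h0, mul_zero]
  have hu1 : Hn (β⁻¹ • (y + β • x)) Φ.u = 1 := by
    simp [hy, hx, H_smul_left, H_add_left, H_sub_left, Φ.iu, Φ.uu, Φ.su, hβ0]
  rw [Φ.eq_offPt hF hu1] at hiso
  refine hcon _ _ hiso ?_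
  rw [← Φ.eq_offPt hF hu1, good_smul hF K (inv_ne_zero hβ0)]
  exact hβ

variable (h32 : m = 3 → q = 2 → ∀ (α : F) (b : Fin m → F),
  Cfsg.hermForm n F q (Φ.offPt α b) (Φ.offPt α b) = 0 → Good K (Φ.offPt α b) →
    Cfsg.hermForm m F q b b = 0)

include h32

theorem same_first_ne {α α' : F} {b b' : Wc} (hb : b ≠ 0) (hb' : b' ≠ 0)
    (hi : Hn (Φ.offPt α b) (Φ.offPt α b) = 0) (hi' : Hn (Φ.offPt α' b') (Φ.offPt α' b') = 0)
    (hg : Good K (Φ.offPt α b)) (hg' : Good K (Φ.offPt α' b')) : α = α' := by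
  obtain ⟨z, hz0, hzz, hzb⟩ := exists_target hF hm hb' (c := Hm b b) (τ := -(α + α' ^ q)) (H_conj hF b b)
  obtain ⟨A, hA, hAb⟩ := exists_tv_map hF hm hb hz0 hzz.symm fun h3 h2 => h32 h3 h2 α b hi hg
  obtain ⟨k, hk, hku, hks, hky⟩ := exists_tv_lift hF Φ K hm hn hTT hbad hgood hA
  have hke : mat k *ᵥ Φ.offPt α b = Φ.offPt α z := by
    simp only [Fr.offPt, Matrix.mulVec_add, Matrix.mulVec_smul, hku, hks, hky, hAb]
  have hiz : Hn (Φ.offPt α z) (Φ.offPt α z) = 0 := by rw [← hke, SU_H, hi]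
  refine perp_offPt hF Φ K hm hn hTT hbad hgood hiz hi' (hke ▸ good_map hF K hk hi hg) hg' ?_
  rw [Φ.H_offPt hF, hzb]; ring

theorem same_first_zero {α α' : F} {b b' : Wc} (hb : b = 0)
    (hi : Hn (Φ.offPt α b) (Φ.offPt α b) = 0) (hi' : Hn (Φ.offPt α' b') (Φ.offPt α' b') = 0)
    (hg : Good K (Φ.offPt α b)) (hg' : Good K (Φ.offPt α' b')) : α = α' := by
  subst hb
  by_contra hne
  set κ := Hn (Φ.offPt α 0) (Φ.offPt α' b') with hκ
  by_cases hκ0 : κ = 0
  · exact hne (perp_offPt hF Φ K hm hn hTT hbad hgood hi hi' hg hg' hκ0)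
  -- shift by a transvection at the second vector
  obtain ⟨c, hc0, hc, hb'c⟩ : ∃ c : F, c ≠ 0 ∧ c + c ^ q = 0 ∧ (b' = 0 → 1 + c * κ = 0) := by
    by_cases hb' : b' = 0
    · refine ⟨-κ⁻¹, neg_ne_zero.2 (inv_ne_zero hκ0), ?_, fun _ => by field_simp; ring⟩
      have e := hκ
      rw [Φ.H_offPt hF, H_zero_left, add_zero] at e
      have e1 := Φ.H_offPt hF α α (0 : Wc) 0
      have e2 := Φ.H_offPt hF α' α' b' b'
      rw [hi, H_zero_left, add_zero] at e1
      rw [hi', hb', H_zero_left, add_zero] at e2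
      have hκq : κ ^ q = -κ := by
        rw [e, HermStd.add_pow_q hF, pow_qq hF]
        linear_combination -e1 - e2
      rw [← HermStd.qHom_apply hF, map_neg, map_inv₀, HermStd.qHom_apply, hκq, inv_neg]
      ring
    · obtain ⟨c, hc0, hc⟩ := exists_traceZero hF
      exact ⟨c, hc0, hc, fun h => absurd h hb'⟩
  have hk : tvu hF hi' hc ∈ K := (good_iff hF K hi').1 hg' c hc
  have h := good_map hF K hk hi hg
  have hhi : Hn (mat (tvu hF hi' hc) *ᵥ Φ.offPt α 0) (mat (tvu hF hi' hc) *ᵥ Φ.offPt α 0) = 0 := by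
    rw [SU_H, hi]
  rw [tvu_mulVec, ← hκ] at h hhi
  by_cases hl : 1 + c * κ = 0
  · have e : Φ.offPt α 0 + (c * κ) • Φ.offPt α' b' = (α - α') • Φ.u + Φ.ι (-b') := by
      rw [show c * κ = -1 by linear_combination hl]
      simp only [Fr.offPt, map_neg, map_zero]; module
    rw [e] at h hhi
    have hz : Hm (-b') (-b') = 0 := by
      simpa [H_add_left, H_add_right hF, H_smul_left, H_smul_right, Φ.uu, Φ.iu, Φ.ui hF, Φ.ii,
        H_neg_left, H_neg_right hF] using hhi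
    exact hne (sub_eq_zero.1 (line_zero hF Φ K hm hn hTT hbad hgood hz h))
  have hb' : b' ≠ 0 := fun e => hl (hb'c e)
  have hck : c * κ ≠ 0 := mul_ne_zero hc0 hκ0
  have e : Φ.offPt α 0 + (c * κ) • Φ.offPt α' b' =
      (1 + c * κ) • Φ.offPt ((α + c * κ * α') / (1 + c * κ)) ((c * κ / (1 + c * κ)) • b') := by
    simp only [Fr.offPt, map_zero, add_zero, map_smul, smul_add, smul_smul, mul_div_cancel₀ _ hl]
    module
  rw [e, good_smul hF K hl] at h
  rw [e, UnitaryCount.hermForm_smul_smul, mul_eq_zero] at hhi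
  have := same_first_ne hF Φ K hm hn hTT hbad hgood h32 (smul_ne_zero (div_ne_zero hck hl) hb') hb'
    (hhi.resolve_left (pow_ne_zero _ hl)) hi' h hg'
  rw [div_eq_iff hl] at this
  exact hne (by linear_combination this)

theorem same_first {α α' : F} {b b' : Wc}
    (hi : Hn (Φ.offPt α b) (Φ.offPt α b) = 0) (hi' : Hn (Φ.offPt α' b') (Φ.offPt α' b') = 0)
    (hg : Good K (Φ.offPt α b)) (hg' : Good K (Φ.offPt α' b')) : α = α' := by
  by_cases hb : b = 0
  · exact same_first_zero hF Φ K hm hn hTT hbad hgood h32 hb hi hi' hg hg'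
  by_cases hb' : b' = 0
  · exact (same_first_zero hF Φ K hm hn hTT hbad hgood h32 hb' hi' hi hg' hg).symm
  exact same_first_ne hF Φ K hm hn hTT hbad hgood h32 hb hb' hi hi' hg hg'

/-- The subgroup fixes a point. -/
theorem exists_fixed_vector :
    ∃ e : Vec, e ≠ 0 ∧ ∀ g ∈ K, ∃ μ : F, mat g *ᵥ e = μ • e := by
  obtain ⟨α₀, b₀, hi₀, hg₀⟩ := exists_offPt_good hF Φ K hm hn hTT hbad hgood
  set e : Vec := (-α₀ ^ q) • Φ.u + Φ.s with he
  have he0 : e ≠ 0 := fun h0 => by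
    have := congrArg (fun z => Hn z Φ.u) h0
    simp only [he, H_add_left, H_smul_left, Φ.uu, Φ.su, H_zero_left, mul_zero, zero_add] at this
    exact one_ne_zero this
  have hperp : ∀ x : Vec, Hn x x = 0 → Good K x → Hn x e = 0 := by
    intro x hx hgx
    by_cases hxu : Hn x Φ.u = 0
    · have hd := Φ.decomp' x
      rw [hxu, zero_smul, add_zero] at hd
      have hπ : Hm (Φ.π x) (Φ.π x) = 0 := by
        have e' := hx
        rw [hd] at e'
        simpa [H_add_left, H_add_right hF, H_smul_left, H_smul_right, Φ.uu, Φ.iu, Φ.ui hF, Φ.ii] using e'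
      have := line_zero hF Φ K hm hn hTT hbad hgood hπ (hd ▸ hgx)
      rw [he, H_add_right hF, H_smul_right, hxu, this]; ring
    · set β := (Hn x Φ.u)⁻¹
      have hβ : β ≠ 0 := inv_ne_zero hxu
      have h1 : Hn (β • x) Φ.u = 1 := by rw [H_smul_left]; exact inv_mul_cancel₀ hxu
      have h2 := Φ.eq_offPt hF h1
      have hxi : Hn (β • x) (β • x) = 0 := by rw [UnitaryCount.hermForm_smul_smul, hx, mul_zero]
      have h3 := same_first hF Φ K hm hn hTT hbad hgood h32 (h2 ▸ hxi) hi₀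
        (h2 ▸ (good_smul hF K hβ).2 hgx) hg₀
      have : Hn (β • x) e = 0 := by
        rw [he, H_add_right hF, H_smul_right, h1, h3, ← HermStd.qHom_apply hF, map_neg,
          HermStd.qHom_apply, pow_qq hF]
        ring
      rw [H_smul_left, mul_eq_zero] at this
      exact this.resolve_left hβ
  refine ⟨e, he0, fun g hg => ?_⟩
  set z := mat g *ᵥ e with hzd
  have hz : ∀ r : Vec, Hn r r = 0 → Good K r → Hn r z = 0 := by
    intro r hr hgr
    have e2 : mat g *ᵥ (mat g⁻¹ *ᵥ r) = r := by rw [← mul_mulVec, mul_inv_cancel, mat_one, one_mulVec]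
    have hi : Hn (mat g⁻¹ *ᵥ r) (mat g⁻¹ *ᵥ r) = 0 := by rw [SU_H, hr]
    rw [← e2, hzd, SU_H]
    exact hperp _ hi (good_map hF K (inv_mem hg) hr hgr)
  have hπ : Φ.π z = 0 := eq_zero_of_perp_iso hF (by omega) fun v hv => by
    by_cases hv0 : v = 0
    · rw [hv0, H_zero_right hF]
    rw [← Φ.h_ι hF]
    exact (H_eq_zero_comm hF).1 (hz _ (by rw [Φ.ii, hv]) (hgood v hv hv0))
  have hd := Φ.decomp' z
  rw [hπ, map_zero, add_zero] at hd
  set y := Hn z Φ.u
  have hx : Hn z Φ.s = -(y * α₀ ^ q) := by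
    have h := (H_eq_zero_comm hF).1 (hz _ hi₀ hg₀)
    rw [hd, H_add_left, H_smul_left, H_smul_left] at h
    simp [Fr.offPt, H_add_right hF, H_smul_right, Φ.uu, Φ.us, Φ.su, Φ.ss, Φ.ui hF, Φ.si hF] at h
    linear_combination h
  refine ⟨y, ?_⟩
  show z = _
  rw [hd, hx, he, smul_add, smul_smul, mul_neg]

end Cfsg.Agent.Classical.Unitary.MinIndex
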