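import Cfsg.Agent.Lib.Classical.UnitaryMinIndex.Step

/-!
# The least index of a proper subgroup of `SU n q`, from degrees three and four
-/

set_option autoImplicit false
set_option linter.unusedSectionVars false

namespace Cfsg.Agent.Classical.Unitary.MinIndex

open Matrix Cfsg.Agent.Forms Cfsg.Agent.Classical

variable {F : Type*} [Field F] [Fintype F] {q : ℕ} (hF : Fintype.card F = q ^ 2)

theorem sq_sub_one_pos {q : ℕ} (hq : 2 ≤ q) : 0 < q ^ 2 - 1 := by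
  have : 2 ^ 2 ≤ q ^ 2 := Nat.pow_le_pow_left hq 2
  omega

theorem Bd_upper {q n : ℕ} (hq : 2 ≤ q) (hn : 2 ≤ n) : Bd q n ≤ q ^ (2 * n - 2) := by
  obtain ⟨k, rfl⟩ : ∃ k, n = k + 2 := ⟨n - 2, by omega⟩
  have hpos : 0 < q ^ 2 - 1 := sq_sub_one_pos hq
  obtain ⟨r, hr⟩ : ∃ r, q ^ 2 = r + 1 := ⟨q ^ 2 - 1, by omega⟩
  have hr3 : 2 * q ≤ r + 1 := by nlinarith
  have hk : q ^ k ≤ q ^ (2 * k) := Nat.pow_le_pow_right (by omega) (by omega)
  have e1 : q ^ (2 * k) = q ^ k * q ^ k := by rw [two_mul, pow_add]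
  have h1k : 1 ≤ q ^ k := Nat.one_le_pow _ _ (by omega)
  have main : (q ^ (k + 2) + 1) * (q ^ (k + 1) + 1) ≤ (r * q ^ (2 * (k + 2) - 2)) + q ^ (k + 1) + 1 := by
    rw [show 2 * (k + 2) - 2 = 2 * k + 2 by omega, pow_add, pow_add, pow_add, pow_one, e1, hr]
    have h8 : 2 * (r + 1) ≤ (r + 1) * q := by nlinarith
    nlinarith [Nat.mul_le_mul_right (q ^ k * q ^ k * (r + 1)) hr3, Nat.mul_le_mul_right (q ^ k) h1k]
  unfold Bd
  simp only [show k + 2 - 1 = k + 1 by omega]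
  split_ifs with he h2
  · subst h2
    refine Nat.div_le_of_le_mul ?_
    rw [show 2 * (k + 2) - 2 = (k + 1) + (k + 1) by omega, pow_add 2 (k + 1) (k + 1),
      show k + 2 = k + 1 + 1 by omega, pow_succ 2 (k + 1)]
    have : 2 ^ (k + 1) * 2 - 1 ≤ 3 * 2 ^ (k + 1) := by omega
    nlinarith
  all_goals
    refine Nat.div_le_of_le_mul ?_
    rw [show q ^ 2 - 1 = r by omega]
    obtain ⟨a, ha⟩ : ∃ a, q ^ (k + 2) = a + 1 := ⟨q ^ (k + 2) - 1, by
      have := Nat.one_le_pow (k + 2) q (by omega); omega⟩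
    obtain ⟨b, hb⟩ : ∃ b, q ^ (k + 1) = b + 1 := ⟨q ^ (k + 1) - 1, by
      have := Nat.one_le_pow (k + 1) q (by omega); omega⟩
    have hba : q ^ (k + 1) ≤ q ^ (k + 2) := Nat.pow_le_pow_right (by omega) (by omega)
    rw [ha, hb] at main hba ⊢
    simp only [Nat.add_sub_cancel]
    nlinarith

theorem Bd_lower {q m : ℕ} (hq : 2 ≤ q) (hm : 3 ≤ m) : q ^ (2 * m - 4) ≤ Bd q m := by
  obtain ⟨k, rfl⟩ : ∃ k, m = k + 3 := ⟨m - 3, by omega⟩
  have hpos : 0 < q ^ 2 - 1 := sq_sub_one_pos hq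
  have h1k : 1 ≤ q ^ k := Nat.one_le_pow _ _ (by omega)
  unfold Bd
  rw [show 2 * (k + 3) - 4 = 2 * k + 2 by omega, show k + 3 - 1 = k + 2 by omega]
  have main : q ^ (2 * k + 2) * (q ^ 2) + 2 * q ^ (k + 3) ≤ q ^ (k + 3) * q ^ (k + 2) := by
    rw [pow_add, pow_add, pow_add, two_mul k, pow_add]
    have hq2 : 2 * 2 ≤ q * q := Nat.mul_le_mul hq hq
    nlinarith [Nat.mul_le_mul_right (q ^ k * q ^ k * (q ^ 2 * q ^ 2)) hq,
      Nat.mul_le_mul_right (q ^ k * q ^ 3) h1k]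
  split_ifs with he h2
  · subst h2
    rw [Nat.le_div_iff_mul_le (by norm_num)]
    obtain ⟨a, ha⟩ : ∃ a, 2 ^ (k + 3) = a + 1 := ⟨2 ^ (k + 3) - 1, by
      have := Nat.one_le_pow (k + 3) 2 (by omega); omega⟩
    rw [ha, Nat.add_sub_cancel]
    rw [show 2 * k + 2 = (k + 2) + k by omega, pow_add 2 (k + 2) k, mul_assoc]
    refine Nat.mul_le_mul_left _ ?_
    rw [pow_add] at ha
    omega
  all_goals
    rw [Nat.le_div_iff_mul_le hpos]
    obtain ⟨a, ha⟩ : ∃ a, q ^ (k + 3) = a + 1 := ⟨q ^ (k + 3) - 1, by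
      have := Nat.one_le_pow (k + 3) q (by omega); omega⟩
    obtain ⟨b, hb⟩ : ∃ b, q ^ (k + 2) = b + 1 := ⟨q ^ (k + 2) - 1, by
      have := Nat.one_le_pow (k + 2) q (by omega); omega⟩
    obtain ⟨r, hr⟩ : ∃ r, q ^ 2 = r + 1 := ⟨q ^ 2 - 1, by omega⟩
    have hba : q ^ (k + 2) ≤ q ^ (k + 3) := Nat.pow_le_pow_right (by omega) (by omega)
    rw [ha, hb] at main ⊢
    rw [ha, hb] at hba
    rw [hr] at main ⊢
    simp only [Nat.add_sub_cancel]
    nlinarith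

theorem Bd_six {q : ℕ} (hq : 2 ≤ q) : Bd q 6 ≤ q ^ 5 * ((q + 1) * (q ^ 3 + 1)) := by
  have hpos : 0 < q ^ 2 - 1 := sq_sub_one_pos hq
  unfold Bd
  rw [if_pos (by decide)]
  split_ifs with h2
  · subst h2; norm_num
  · obtain ⟨r, hr⟩ : ∃ r, q ^ 2 = r + 1 := ⟨q ^ 2 - 1, by omega⟩
    have h1 : 1 ≤ q ^ 6 := Nat.one_le_pow _ _ (by omega)
    obtain ⟨a, ha⟩ : ∃ a, q ^ 6 = a + 1 := ⟨q ^ 6 - 1, by omega⟩
    rw [hr, ha, Nat.add_sub_cancel, Nat.add_sub_cancel]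
    refine Nat.div_le_of_le_mul ?_
    have e : a = r * (q ^ 4 + q ^ 2 + 1) := by
      have : q ^ 6 = q ^ 2 * q ^ 2 * q ^ 2 := by ring
      have h4 : q ^ 4 = q ^ 2 * q ^ 2 := by ring
      rw [h4, hr]
      rw [this, hr] at ha
      nlinarith
    rw [e, mul_assoc]
    refine Nat.mul_le_mul_left _ ?_
    have h4 : q ^ 4 ≤ q ^ 6 := Nat.pow_le_pow_right (by omega) (by omega)
    have h7 : q ^ 7 + q ^ 2 + 1 ≤ q ^ 8 := by
      have : 2 * q ^ 7 ≤ q * q ^ 7 := Nat.mul_le_mul_right _ hq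
      have : q ^ 8 = q * q ^ 7 := by ring
      have : q ^ 2 < q ^ 7 := Nat.pow_lt_pow_right (by omega) (by omega)
      omega
    ring_nf
    ring_nf at h4 h7
    omega

include hF

/-- The bound for all degrees. -/
theorem Bd_le_index_SU
    (h3 : LocalExcl hF 3 (Bd q 5)) :
    ∀ n, 5 ≤ n →
      (Even n → ∀ I : Subgroup (Cfsg.SU 4 F q), I ≠ ⊤ → (q + 1) * (q ^ 3 + 1) ≤ I.index) →
      ∀ K : Subgroup (Cfsg.SU n F q), K ≠ ⊤ → Bd q n ≤ K.index := by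
  have hq := HermStd.one_lt_q hF
  intro n
  induction n using Nat.strong_induction_on with
  | _ n ih =>
    intro hn h4 K hK
    obtain ⟨m, rfl⟩ : ∃ m, n = 2 + m := ⟨n - 2, by omega⟩
    rcases (by omega : m = 3 ∨ m = 4 ∨ 5 ≤ m) with rfl | rfl | hm
    · exact Bd_le_index_of_localExcl hF K (le_refl 3) rfl h3 hK
    · exact Bd_le_index_of_localExcl hF K (by norm_num) rfl
        (localExcl_of_bound hF (h4 (by decide)) (by norm_num only; exact Bd_six hq)) hK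
    · refine Bd_le_index_of_localExcl hF K (by omega) rfl
        (localExcl_of_bound hF (fun I hI => ih m (by omega) hm (fun he => h4 (even_two.add he)) I hI) ?_) hK
      refine (Bd_upper hq (by omega)).trans ?_
      refine le_trans ?_ (Nat.mul_le_mul_left _ (Bd_lower hq (by omega)))
      rw [← pow_add]
      exact Nat.pow_le_pow_right (by omega) (by omega)

end Cfsg.Agent.Classical.Unitary.MinIndex
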