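import Cfsg.Agent.Lib.Classical.UnitaryMinIndex.Pairing

/-!
# Additive subgroups invariant under all transvections
-/

set_option autoImplicit false
set_option linter.unusedSectionVars false

namespace Cfsg.Agent.Classical.Unitary.MinIndex

open Matrix Cfsg.Agent.Forms Cfsg.Agent.Classical

variable {F : Type*} [Field F] [Fintype F] {q m : ℕ} (hF : Fintype.card F = q ^ 2)

local notation "Wc" => (Fin m → F)
local notation "Hm" => Cfsg.hermForm m F q

include hF

/-- Every unit vector is a multiple of a difference of two isotropic vectors. -/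
theorem exists_iso_diff (hm : 2 ≤ m) (j : Fin m) :
    ∃ v v' : Wc, Hm v v = 0 ∧ Hm v' v' = 0 ∧ ∃ c : F, c ≠ 0 ∧ v' - v = c • (Pi.single j 1 : Wc) := by
  obtain ⟨i, hij⟩ : ∃ i : Fin m, i ≠ j := by
    by_cases h0 : j = ⟨0, by omega⟩
    · exact ⟨⟨1, by omega⟩, by rw [h0]; simp [Fin.ext_iff]⟩
    · exact ⟨⟨0, by omega⟩, Ne.symm h0⟩
  obtain ⟨v, hv, hvj, -, -⟩ := exists_isotropic_pair hF j i hij.symm
  obtain ⟨ζ, hζ, hζ1, -⟩ := exists_normOne_ne hF
  refine ⟨v, fun k => if k = j then ζ * v k else v k, hv, ?_, ζ - 1, sub_ne_zero.2 hζ1, ?_⟩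
  · rw [← hv]
    unfold Cfsg.hermForm
    refine Finset.sum_congr rfl fun k _ => ?_
    dsimp only
    split_ifs
    · linear_combination (v k * v k ^ q) * hζ
    · rfl
  · funext k
    by_cases hk : k = j
    · subst hk; simp [hvj]
    · simp [hk]

theorem eq_zero_of_perp_iso (hm : 2 ≤ m) {x : Wc} (h : ∀ v : Wc, Hm v v = 0 → Hm x v = 0) : x = 0 := by
  funext j
  obtain ⟨v, v', hv, hv', c, hc, e⟩ := exists_iso_diff hF hm j
  have : Hm x (c • (Pi.single j 1 : Wc)) = 0 := by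
    rw [← e, H_sub_right hF, h v hv, h v' hv', sub_zero]
  rw [H_smul_right, H_single_right hF, mul_eq_zero] at this
  exact this.resolve_left (pow_ne_zero _ hc)

/-- An additive subgroup that is invariant under all transvections is trivial or everything. -/
theorem eq_bot_or_top_of_invariant (hm : 3 ≤ m) (X : AddSubgroup Wc)
    (hinv : ∀ (v : Wc) (hv : Hm v v = 0) (c : F) (hc : c + c ^ q = 0), ∀ x ∈ X,
      mat (tvu hF hv hc) *ᵥ x ∈ X) : X = ⊥ ∨ X = ⊤ := by
  refine or_iff_not_imp_left.2 fun hX => eq_top_iff.2 fun y _ => ?_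
  obtain ⟨x, hx, hx0⟩ : ∃ x ∈ X, x ≠ 0 := by
    by_contra hcon
    push Not at hcon
    exact hX ((AddSubgroup.eq_bot_iff_forall _).2 hcon)
  have step : ∀ (v : Wc), Hm v v = 0 → ∀ c : F, c + c ^ q = 0 → ∀ z ∈ X, (c * Hm z v) • v ∈ X := by
    intro v hv c hc z hz
    have := sub_mem (hinv v hv c hc z hz) hz
    rwa [tvu_mulVec, add_sub_cancel_left] at this
  obtain ⟨δ, hδ0, hδ⟩ := exists_traceZero hF
  obtain ⟨v, hv, hxv⟩ : ∃ v : Wc, Hm v v = 0 ∧ Hm x v ≠ 0 := by
    by_contra hcon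
    push Not at hcon
    exact hx0 (eq_zero_of_perp_iso hF (by omega) hcon)
  have hv0 : v ≠ 0 := fun e => hxv (by rw [e, H_zero_right hF])
  set κ := δ * Hm x v
  have hκ : κ • v ∈ X := step v hv δ hδ x hx
  have hκ0 : κ ≠ 0 := mul_ne_zero hδ0 hxv
  -- all multiples of `v`
  have hall : ∀ l : F, l • v ∈ X := by
    intro l
    obtain ⟨Φ, hΦ⟩ := exists_fr_at hF (m := m - 2) (by omega) hv0 hv
    set P := l / (δ ^ 3 * κ)
    obtain ⟨w, hw⟩ : ∃ w : Fin (m - 2) → F, Cfsg.hermForm (m - 2) F q w w = -(P + P ^ q) := by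
      obtain ⟨r, hr⟩ := UnitaryCount.exists_norm_eq' hF (μ := -(P + P ^ q)) (by
        rw [← HermStd.qHom_apply hF, map_neg, map_add, HermStd.qHom_apply, HermStd.qHom_apply,
          pow_qq hF, add_comm])
      refine ⟨Pi.single ⟨0, by omega⟩ r, ?_⟩
      rw [← hr, show (Pi.single (⟨0, by omega⟩ : Fin (m - 2)) r : Fin (m - 2) → F) =
        r • Pi.single ⟨0, by omega⟩ 1 by simp [← Pi.single_smul],
        UnitaryCount.hermForm_smul_smul, H_single_single hF, if_pos rfl, mul_one]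
    set v'' := Φ.u + P • Φ.s + Φ.ι w with hv''
    have hv''0 : Hm v'' v'' = 0 := by
      simp only [hv'', H_add_left, H_add_right hF, H_smul_left, H_smul_right, Φ.uu, Φ.ss, Φ.us, Φ.su,
        Φ.iu, Φ.iss, Φ.ui hF, Φ.si hF, Φ.ii, hw]
      ring
    have h1 := step Φ.s Φ.ss δ hδ _ hκ
    have h2 := step v'' hv''0 δ hδ _ h1
    have h3 := step v hv δ hδ _ h2
    convert h3 using 2
    simp only [← hΦ, hv'', H_add_left, H_add_right hF, H_smul_left, H_smul_right, Φ.uu, Φ.ss, Φ.us,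
      Φ.su, Φ.iu, Φ.ui hF, Φ.si hF, P]
    field_simp
    ring
  have hiso : ∀ z : Wc, Hm z z = 0 → ∀ l : F, l • z ∈ X := by
    have hne : ∀ z z' : Wc, Hm z' z' = 0 → Hm z z' ≠ 0 → (∀ l : F, l • z ∈ X) → ∀ l : F, l • z' ∈ X := by
      intro z z' hz' hzz hz l
      have := step z' hz' δ hδ _ (hz (l / (δ * Hm z z')))
      rwa [H_smul_left, show δ * (l / (δ * Hm z z') * Hm z z') = l by field_simp] at this
    intro z hz
    by_cases hz0 : z = 0
    · intro l; rw [hz0, smul_zero]; exact zero_mem _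
    by_cases hli : LinearIndependent F ![v, z]
    · obtain ⟨z', -, hz'z', h1, h2⟩ := exists_common hF hv0 hz0 hv hz hli
      exact hne z' z hz (fun e => h2 ((H_eq_zero_comm hF).1 e)) (hne v z' hz'z' h1 hall)
    · rw [LinearIndependent.pair_iff' hv0] at hli
      push Not at hli
      obtain ⟨a, ha⟩ := hli
      intro l
      rw [← ha, smul_smul]
      exact hall _
  rw [pi_eq_sum_univ' y]
  refine sum_mem fun j _ => ?_
  obtain ⟨v₁, v₂, h1, h2, c, hc, e⟩ := exists_iso_diff hF (show 2 ≤ m by omega) j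
  have := sub_mem (hiso v₂ h2 (y j / c)) (hiso v₁ h1 (y j / c))
  rwa [← smul_sub, e, smul_smul, div_mul_cancel₀ _ hc] at this

end Cfsg.Agent.Classical.Unitary.MinIndex
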