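import Cfsg.Agent.Lib.Classical.UnitaryMinIndex.Lines
import Cfsg.Agent.Lib.Classical.UnitaryMinIndex.Irred

/-!
# The good points orthogonal to a bad point form a hyperplane section
-/

set_option autoImplicit false
set_option linter.unusedSectionVars false

namespace Cfsg.Agent.Classical.Unitary.MinIndex

open Matrix Cfsg.Agent.Forms Cfsg.Agent.Classical

variable {F : Type*} [Field F] [Fintype F] {q n m : ℕ} (hF : Fintype.card F = q ^ 2)

local notation "Vec" => (Fin n → F)
local notation "Wc" => (Fin m → F)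
local notation "Hn" => Cfsg.hermForm n F q
local notation "Hm" => Cfsg.hermForm m F q

/-- The properties of the map giving the good point of each line through `u`. -/
structure GoodFun (q k : ℕ) (A : (Fin k → F) → F) : Prop where
  homog : ∀ (l : F) (v : Fin k → F), Cfsg.hermForm k F q v v = 0 → A (l • v) = l * A v
  move : ∀ (v x : Fin k → F) (c : F), Cfsg.hermForm k F q v v = 0 → Cfsg.hermForm k F q x x = 0 →
    c + c ^ q = 0 → A (x + (c * Cfsg.hermForm k F q x v) • v) = A x + c * Cfsg.hermForm k F q x v * A v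
  line : ∀ v x : Fin k → F, Cfsg.hermForm k F q v v = 0 → Cfsg.hermForm k F q x x = 0 →
    Cfsg.hermForm k F q x v = 0 → A (x + v) = A x + A v

variable {A : (Fin m → F) → F}

include hF

theorem norm_conj (x : F) : (x ^ (q + 1)) ^ q = x ^ (q + 1) := by
  rw [pow_succ, mul_pow, pow_qq hF, mul_comm]

theorem exists_not_fixed : ∃ ζ : F, ζ ^ q ≠ ζ := by
  by_contra hcon
  push Not at hcon
  exact HermStd.qHom_ne_id hF (RingHom.ext fun x => hcon x)

set_option maxHeartbeats 1000000 in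
/-- Such a map is the restriction of a linear functional. -/
theorem GoodFun.linear (hm : 3 ≤ m) (hA : GoodFun q m A) :
    ∃ w : Wc, ∀ x : Wc, Hm x x = 0 → A x = Hm x w := by
  classical
  obtain ⟨u₀, hu₀, hu1, -, -⟩ := exists_isotropic_pair hF (n := m) ⟨0, by omega⟩ ⟨1, by omega⟩
    (by simp [Fin.ext_iff])
  have hu00 : u₀ ≠ 0 := fun h0 => by simp [h0] at hu1
  obtain ⟨Ψ, -⟩ := exists_fr_at hF (m := m - 2) (by omega) hu00 hu₀
  set m' := m - 2 with hm'def
  -- remove the values on the hyperbolic pair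
  set wp : Wc := (A Ψ.u) ^ q • Ψ.s + (A Ψ.s) ^ q • Ψ.u with hwp
  have hwp' : ∀ x : Wc, Hm x wp = Hm x Ψ.s * A Ψ.u + Hm x Ψ.u * A Ψ.s := fun x => by
    simp only [hwp, H_add_right hF, H_smul_right, pow_qq hF]; ring
  let B : Wc → F := fun x => A x - Hm x wp
  have hBh : ∀ (l : F) (v : Wc), Hm v v = 0 → B (l • v) = l * B v := fun l v hv => by
    simp only [B, hA.homog l v hv, H_smul_left]; ring
  have hBm : ∀ (v x : Wc) (c : F), Hm v v = 0 → Hm x x = 0 → c + c ^ q = 0 →
      B (x + (c * Hm x v) • v) = B x + c * Hm x v * B v := fun v x c hv hx hc => by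
    simp only [B, hA.move v x c hv hx hc, H_add_left, H_smul_left]; ring
  have hBl : ∀ v x : Wc, Hm v v = 0 → Hm x x = 0 → Hm x v = 0 → B (x + v) = B x + B v :=
    fun v x hv hx hxv => by simp only [B, hA.line v x hv hx hxv, H_add_left]; ring
  have hBu : B Ψ.u = 0 := by simp [B, hwp', Ψ.us, Ψ.uu]
  have hBs : B Ψ.s = 0 := by simp [B, hwp', Ψ.ss, Ψ.su]
  let pt : F → F → (Fin m' → F) → Wc := fun a b y => a • Ψ.u + b • Ψ.s + Ψ.ι y
  let N : (Fin m' → F) → F := fun y => Cfsg.hermForm m' F q y y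
  have hN : ∀ y, N y ^ q = N y := fun y => H_conj hF y y
  have hpt : ∀ a b y a' b' y', Hm (pt a b y) (pt a' b' y') =
      a * b' ^ q + b * a' ^ q + Cfsg.hermForm m' F q y y' := fun a b y a' b' y' => by
    simp only [pt, H_add_left, H_add_right hF, H_smul_left, H_smul_right, Ψ.uu, Ψ.ss, Ψ.us, Ψ.su,
      Ψ.iu, Ψ.iss, Ψ.ui hF, Ψ.si hF, Ψ.ii]
    ring
  have hiso : ∀ a b y, Hm (pt a b y) (pt a b y) = 0 ↔ a * b ^ q + (a * b ^ q) ^ q = - N y := by
    intro a b y
    rw [hpt, mul_pow, pow_qq hF]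
    simp only [N]
    constructor <;> intro e <;> linear_combination e
  have moveA : ∀ a b y c, c + c ^ q = 0 → Hm (pt a b y) (pt a b y) = 0 →
      B (pt (a + c * b) b y) = B (pt a b y) := by
    intro a b y c hc hx
    have e : Hm (pt a b y) Ψ.u = b := by simp [pt, H_add_left, H_smul_left, Ψ.uu, Ψ.su, Ψ.iu]
    have h := hBm Ψ.u (pt a b y) c Ψ.uu hx hc
    rw [e, hBu, mul_zero, add_zero] at h
    rw [← h]
    congr 1
    simp only [pt]; module
  have moveB : ∀ a b y c, c + c ^ q = 0 → Hm (pt a b y) (pt a b y) = 0 →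
      B (pt a (b + c * a) y) = B (pt a b y) := by
    intro a b y c hc hx
    have e : Hm (pt a b y) Ψ.s = a := by simp [pt, H_add_left, H_smul_left, Ψ.ss, Ψ.us, Ψ.iss]
    have h := hBm Ψ.s (pt a b y) c Ψ.ss hx hc
    rw [e, hBs, mul_zero, add_zero] at h
    rw [← h]
    congr 1
    simp only [pt]; module
  -- the value depends on the component in the complement only
  have sameA : ∀ a a' b y, b ≠ 0 → Hm (pt a b y) (pt a b y) = 0 → Hm (pt a' b y) (pt a' b y) = 0 →
      B (pt a' b y) = B (pt a b y) := by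
    intro a a' b y hb hx hx'
    have h1 := (hiso a b y).1 hx
    have h2 := (hiso a' b y).1 hx'
    have hc : (a' - a) / b + ((a' - a) / b) ^ q = 0 := by
      rw [mul_pow, pow_qq hF] at h1 h2
      rw [div_pow, ← HermStd.qHom_apply hF (a' - a), map_sub, HermStd.qHom_apply, HermStd.qHom_apply]
      have hbq : b ^ q ≠ 0 := pow_ne_zero _ hb
      field_simp
      linear_combination h2 - h1
    have := moveA a b y _ hc hx
    rwa [show a + (a' - a) / b * b = a' by field_simp; ring] at this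
  have sameB : ∀ a b b' y, a ≠ 0 → Hm (pt a b y) (pt a b y) = 0 → Hm (pt a b' y) (pt a b' y) = 0 →
      B (pt a b' y) = B (pt a b y) := by
    intro a b b' y ha hx hx'
    have h1 := (hiso a b y).1 hx
    have h2 := (hiso a b' y).1 hx'
    have hc : (b' - b) / a + ((b' - b) / a) ^ q = 0 := by
      rw [mul_pow, pow_qq hF] at h1 h2
      rw [div_pow, ← HermStd.qHom_apply hF (b' - b), map_sub, HermStd.qHom_apply, HermStd.qHom_apply]
      have haq : a ^ q ≠ 0 := pow_ne_zero _ ha
      field_simp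
      linear_combination h2 - h1
    have := moveB a b y _ hc hx
    rwa [show b + (b' - b) / a * a = b' by field_simp; ring] at this
  -- isotropic component
  have hzero : ∀ a b y, N y = 0 → Hm (pt a b y) (pt a b y) = 0 → B (pt a b y) = B (Ψ.ι y) := by
    intro a b y hy hx
    have hyi : Hm (Ψ.ι y) (Ψ.ι y) = 0 := by rw [Ψ.ii]; exact hy
    have hu' : ∀ a, Hm (a • Ψ.u) (a • Ψ.u) = 0 := fun a => by
      rw [UnitaryCount.hermForm_smul_smul, Ψ.uu, mul_zero]
    have ha0 : ∀ a, B (pt a 0 y) = B (Ψ.ι y) := by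
      intro a
      have h := hBl (a • Ψ.u) (Ψ.ι y) (hu' a) hyi (by rw [H_smul_right, Ψ.iu, mul_zero])
      rw [hBh a _ Ψ.uu, hBu, mul_zero, add_zero] at h
      rw [← h]; congr 1; simp only [pt]; module
    by_cases hb : b = 0
    · subst hb; exact ha0 a
    by_cases ha : a = 0
    · subst ha
      have hs' : Hm (b • Ψ.s) (b • Ψ.s) = 0 := by rw [UnitaryCount.hermForm_smul_smul, Ψ.ss, mul_zero]
      have h := hBl (b • Ψ.s) (Ψ.ι y) hs' hyi (by rw [H_smul_right, Ψ.iss, mul_zero])
      rw [hBh b _ Ψ.ss, hBs, mul_zero, add_zero] at h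
      rw [← h]; congr 1; simp only [pt]; module
    rw [sameB a 0 b y ha ((hiso _ _ _).2 (by simp [hy, zero_pow (q_ne_zero hF)])) hx, ha0]
  -- a canonical lift of the component
  have htr : ∀ y, ∃ t : F, t + t ^ q = - N y := fun y =>
    exists_trace_eq hF (by rw [← HermStd.qHom_apply hF, map_neg, HermStd.qHom_apply, hN])
  choose t ht using htr
  have hcan : ∀ y, Hm (pt 1 (t y ^ q) y) (pt 1 (t y ^ q) y) = 0 := fun y => by
    rw [hiso, one_mul, pow_qq hF]; exact ht y
  let G0 : (Fin m' → F) → F := fun y => B (pt 1 (t y ^ q) y)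
  have hG : ∀ a b y, Hm (pt a b y) (pt a b y) = 0 → B (pt a b y) = G0 y := by
    intro a b y hx
    by_cases hy : N y = 0
    · rw [hzero a b y hy hx]
      exact (hzero _ _ y hy (hcan y)).symm
    have hab : ∀ a b, Hm (pt a b y) (pt a b y) = 0 → a ≠ 0 ∧ b ≠ 0 := fun a b h => by
      constructor <;> rintro rfl <;>
      · rw [hiso] at h
        simp [zero_pow (q_ne_zero hF)] at h
        exact hy h
    -- two independent first coordinates
    have link : ∀ a a' b b', a * a' ^ q ≠ a' * a ^ q → Hm (pt a b y) (pt a b y) = 0 →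
        Hm (pt a' b' y) (pt a' b' y) = 0 → B (pt a b y) = B (pt a' b' y) := by
      intro a a' b b' hD h h'
      have hne : a - a' ≠ 0 := fun e => hD (by rw [sub_eq_zero.1 e])
      set D := a * a' ^ q - a ^ q * a' with hDd
      have hD0 : D ≠ 0 := fun e => hD (by rw [hDd] at e; linear_combination e)
      have hD0' : D ^ q = -D := by
        rw [hDd, ← HermStd.qHom_apply hF, map_sub, map_mul, map_mul, HermStd.qHom_apply,
          HermStd.qHom_apply, HermStd.qHom_apply, HermStd.qHom_apply, pow_qq hF, pow_qq hF]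
        ring
      set b'' := -N y * (a - a') / D with hb''
      have hb''q : b'' ^ q = -N y * (a ^ q - a' ^ q) / -D := by
        rw [hb'', div_pow, mul_pow, hD0', ← HermStd.qHom_apply hF (-N y), map_neg, HermStd.qHom_apply,
          hN, ← HermStd.qHom_apply hF (a - a'), map_sub, HermStd.qHom_apply, HermStd.qHom_apply]
      have e1 : Hm (pt a b'' y) (pt a b'' y) = 0 := by
        rw [hiso, mul_pow, pow_qq hF, hb''q, hb'']
        field_simp
        rw [hDd]; ring
      have e2 : Hm (pt a' b'' y) (pt a' b'' y) = 0 := by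
        rw [hiso, mul_pow, pow_qq hF, hb''q, hb'']
        field_simp
        rw [hDd]; ring
      have hb0 := (hab a b'' e1).2
      rw [sameB a b'' b y (hab a b h).1 e1 h, sameB a' b'' b' y (hab a' b' h').1 e2 h',
        sameA a' a b'' y hb0 e2 e1]
    by_cases hind : a * (1 : F) ^ q ≠ 1 * a ^ q
    · exact link a 1 b _ hind hx (hcan y)
    push Not at hind
    rw [one_pow, mul_one, one_mul] at hind
    obtain ⟨ζ, hζ⟩ := exists_not_fixed hF
    have hζ0 : ζ ≠ 0 := fun e => hζ (by rw [e, zero_pow (q_ne_zero hF)])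
    have hx3 : Hm (pt ζ ((t y / ζ) ^ q) y) (pt ζ ((t y / ζ) ^ q) y) = 0 := by
      rw [hiso, pow_qq hF, mul_div_cancel₀ _ hζ0]; exact ht y
    rw [link a ζ b _ (fun e => hζ (mul_left_cancel₀ (hab a b hx).1 (by rw [e, ← hind, mul_comm]))) hx hx3]
    exact link ζ 1 _ _ (by rw [one_pow, mul_one, one_mul]; exact Ne.symm hζ) hx3 (hcan y)
  -- homogeneity
  have hGh : ∀ l y, G0 (l • y) = l * G0 y := by
    intro l y
    have e : pt (l * 1) (l * t y ^ q) (l • y) = l • pt 1 (t y ^ q) y := by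
      simp only [pt, map_smul]; module
    rw [← hG (l * 1) (l * t y ^ q) (l • y) (by
      rw [e, UnitaryCount.hermForm_smul_smul, hcan, mul_zero]), e]
    exact hBh l _ (hcan y)
  -- additivity
  have hGa : ∀ y y0, G0 (y + y0) = G0 y + G0 y0 := by
    intro y y0
    obtain ⟨δ, hδ0, hδ⟩ := exists_traceZero hF
    suffices hex : ∃ a b a0 b0, Hm (pt a b y) (pt a b y) = 0 ∧ Hm (pt a0 b0 y0) (pt a0 b0 y0) = 0 ∧
        Hm (pt a b y) (pt a0 b0 y0) = δ⁻¹ by
      obtain ⟨a, b, a0, b0, hx, hx0, hh⟩ := hex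
      have h := hBm _ _ δ hx0 hx hδ
      rw [hh, mul_inv_cancel₀ hδ0, one_smul, one_mul] at h
      have e : pt a b y + pt a0 b0 y0 = pt (a + a0) (b + b0) (y + y0) := by
        simp only [pt, map_add]; module
      rw [e, hG _ _ _ hx, hG _ _ _ hx0] at h
      rw [← h, hG]
      rw [← e, H_add_left, H_add_right hF (pt a b y), H_add_right hF (pt a0 b0 y0), hx, hx0, hh, ← H_conj hF (pt a b y), hh]
      rw [inv_pow, eq_neg_of_add_eq_zero_right hδ]
      field_simp
      ring
    set τ := δ⁻¹ - Cfsg.hermForm m' F q y y0 with hτ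
    by_cases hτ0 : τ = 0
    · have hd : Cfsg.hermForm m' F q y y0 = δ⁻¹ := by linear_combination hτ - hτ0
      by_cases hy : N y = 0
      · refine ⟨0, 0, 1, t y0 ^ q, (hiso _ _ _).2 (by simp [hy, zero_pow (q_ne_zero hF)]), hcan y0, ?_⟩
        rw [hpt, hd]; ring
      by_cases hy0 : N y0 = 0
      · refine ⟨1, t y ^ q, 0, 0, hcan y, (hiso _ _ _).2 (by simp [hy0, zero_pow (q_ne_zero hF)]), ?_⟩
        rw [hpt, zero_pow (q_ne_zero hF), hd]; ring
      obtain ⟨b, hb⟩ := UnitaryCount.exists_norm_eq' hF (μ := -N y / N y0) (by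
        rw [div_pow, hN, ← HermStd.qHom_apply hF, map_neg, HermStd.qHom_apply, hN])
      refine ⟨-b * t y0 ^ q, b, t y0, 1, (hiso _ _ _).2 ?_, (hiso _ _ _).2 (by simpa using ht y0), ?_⟩
      · have e : -b * t y0 ^ q * b ^ q = -(t y0 ^ q) * b ^ (q + 1) := by rw [pow_succ]; ring
        rw [e, hb, ← HermStd.qHom_apply hF (-(t y0 ^ q) * _), map_mul, map_neg, map_div₀, map_neg,
          HermStd.qHom_apply, HermStd.qHom_apply, hN, HermStd.qHom_apply, hN, pow_qq hF]
        field_simp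
        linear_combination ht y0
      · rw [hpt, one_pow, hd]; ring
    · have hcase : ∃ a0 b : F, a0 + a0 ^ q = -N y0 ∧
          τ * b ^ q + (τ * b ^ q) ^ q + N y0 * b ^ (q + 1) + N y = 0 := by
        by_cases hy0 : N y0 = 0
        · refine ⟨0, (t y / τ) ^ q, by simp [hy0, zero_pow (q_ne_zero hF)], ?_⟩
          rw [pow_qq hF, mul_div_cancel₀ _ hτ0, hy0, zero_mul, add_zero, ht y]; ring
        · have hτ1 := norm_conj hF τ
          obtain ⟨z, hz⟩ := UnitaryCount.exists_norm_eq' hF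
            (μ := (τ ^ (q + 1) / N y0 - N y) / N y0) (by
            rw [← HermStd.qHom_apply hF, map_div₀, map_sub, map_div₀, HermStd.qHom_apply,
              HermStd.qHom_apply, HermStd.qHom_apply, hτ1, hN, hN])
          refine ⟨t y0, z - τ / N y0, ht y0, ?_⟩
          have e : (z - τ / N y0) ^ q = z ^ q - τ ^ q / N y0 := by
            rw [← HermStd.qHom_apply hF, map_sub, map_div₀, HermStd.qHom_apply, HermStd.qHom_apply,
              HermStd.qHom_apply, hN]
          rw [pow_succ] at hz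
          rw [mul_pow, pow_qq hF, pow_succ, e]
          field_simp at hz ⊢
          linear_combination hz
      obtain ⟨a0, b, ha0, hb⟩ := hcase
      refine ⟨τ - b * a0 ^ q, b, a0, 1, (hiso _ _ _).2 ?_, (hiso _ _ _).2 (by simpa using ha0), ?_⟩
      · rw [mul_pow, pow_qq hF, ← HermStd.qHom_apply hF (τ - b * a0 ^ q), map_sub, map_mul,
          HermStd.qHom_apply, HermStd.qHom_apply, HermStd.qHom_apply, pow_qq hF]
        rw [mul_pow, pow_qq hF, pow_succ] at hb
        linear_combination hb - b * b ^ q * ha0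
      · rw [hpt, one_pow, hτ]; ring
  -- the functional
  have hlin : ∀ y, G0 y = ∑ i, y i * G0 (Pi.single i 1) := by
    intro y
    let f : (Fin m' → F) →+ F := AddMonoidHom.mk' G0 hGa
    show f y = _
    conv_lhs => rw [pi_eq_sum_univ' y, map_sum]
    exact Finset.sum_congr rfl fun i _ => hGh _ _
  refine ⟨wp + Ψ.ι (fun i => G0 (Pi.single i 1) ^ q), fun x hx => ?_⟩
  have hx' : x = pt (Hm x Ψ.s) (Hm x Ψ.u) (Ψ.π x) := Ψ.decomp' x
  have h1 := hG _ _ _ (hx' ▸ hx)
  rw [← hx', hlin] at h1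
  have h2 : Hm x (Ψ.ι fun i => G0 (Pi.single i 1) ^ q) = ∑ i, Ψ.π x i * G0 (Pi.single i 1) := by
    rw [Ψ.h_ι hF]
    simp [Cfsg.hermForm, pow_qq hF]
  rw [H_add_right hF, h2, ← h1]
  simp only [B]; ring

variable (K : Subgroup (Cfsg.SU n F q))

/-- At a bad point there is a frame all of whose residual isotropic points are good. -/
theorem exists_good_frame (hm : 3 ≤ m) (hn : n = 2 + m) (hTT : TypeTwo K hF m) {u : Vec}
    (hu : Hn u u = 0) (hu0 : u ≠ 0) (hbad : ¬ Good K u) :
    ∃ Φ : Fr F q n m, Φ.u = u ∧ ∀ v : Wc, Hm v v = 0 → v ≠ 0 → Good K (Φ.ι v) := by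
  classical
  obtain ⟨Φ, hΦ⟩ := exists_fr_at hF hn hu0 hu
  subst hΦ
  have hii : ∀ {v : Wc}, Hm v v = 0 → Hn (Φ.ι v) (Φ.ι v) = 0 := fun hv => by rw [Φ.ii]; exact hv
  have hne : ∀ {v : Wc}, v ≠ 0 → ∀ a : F, Φ.ι v ≠ a • Φ.u := fun hv a e => hv (by
    have := congrArg Φ.π e
    rwa [Φ.π_ι hF, map_smul, Φ.π_u hF, smul_zero] at this)
  have hex : ∀ v : Wc, v ≠ 0 ∧ Hm v v = 0 → ∃ α : F, Good K (Φ.ι v + α • Φ.u) := fun v hv =>
    exists_good_on_line hF K hm hn hTT Φ.uu (hii hv.2) (Φ.iu v) Φ.u_ne (hne hv.1) hbad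
  choose f hf using hex
  let A : Wc → F := fun v => if hv : v ≠ 0 ∧ Hm v v = 0 then f v hv else 0
  have huniq : ∀ {v : Wc}, v ≠ 0 → Hm v v = 0 → ∀ {α : F}, Good K (Φ.ι v + α • Φ.u) → α = A v := by
    intro v hv0 hv α hα
    simp only [A, dif_pos (And.intro hv0 hv)]
    exact line_unique hF K hm hn hTT Φ.uu (hii hv) (Φ.iu v) Φ.u_ne (hne hv0) hbad hα (hf v ⟨hv0, hv⟩)
  have hA0 : A 0 = 0 := dif_neg (fun e => e.1 rfl)
  have hgood : ∀ {v : Wc}, v ≠ 0 → Hm v v = 0 → Good K (Φ.ι v + A v • Φ.u) := fun {v} hv0 hv => by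
    simp only [A, dif_pos (And.intro hv0 hv)]
    exact hf v ⟨hv0, hv⟩
  have homog : ∀ (l : F) (v : Wc), Hm v v = 0 → A (l • v) = l * A v := by
    intro l v hv
    by_cases hl : l = 0
    · subst hl; rw [zero_smul, hA0, zero_mul]
    by_cases hv0 : v = 0
    · subst hv0; rw [smul_zero, hA0, mul_zero]
    refine (huniq (smul_ne_zero hl hv0) (by rw [UnitaryCount.hermForm_smul_smul, hv, mul_zero]) ?_).symm
    rw [map_smul, ← smul_smul, ← smul_add, good_smul hF K hl]
    exact hgood hv0 hv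
  have line : ∀ v x : Wc, Hm v v = 0 → Hm x x = 0 → Hm x v = 0 → A (x + v) = A x + A v := by
    intro v x hv hx hxv
    by_cases hv0 : v = 0
    · subst hv0; rw [add_zero, hA0, add_zero]
    by_cases hx0 : x = 0
    · subst hx0; rw [zero_add, hA0, zero_add]
    by_cases hdep : ∃ a : F, x = a • v
    · obtain ⟨a, rfl⟩ := hdep
      rw [show a • v + v = (a + 1) • v by rw [add_smul, one_smul], homog _ _ hv, homog _ _ hv]; ring
    push Not at hdep
    have hxv0 : x + v ≠ 0 := fun e => hdep (-1) (by rw [neg_one_smul, eq_neg_iff_add_eq_zero, e])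
    have hxvi : Hm (x + v) (x + v) = 0 := by
      simp [H_add_left, H_add_right hF, hv, hx, hxv, (H_eq_zero_comm hF).1 hxv]
    have e : Φ.ι (x + v) + (A x + A v) • Φ.u = (Φ.ι x + A x • Φ.u) + (Φ.ι v + A v • Φ.u) := by
      rw [map_add]; module
    refine (huniq hxv0 hxvi (e ▸ ?_)).symm
    by_contra hb
    set r := Φ.ι x + A x • Φ.u
    set r' := Φ.ι v + A v • Φ.u
    have hrr : Hn r r' = 0 := by
      simp [r, r', H_add_left, H_add_right hF, H_smul_left, H_smul_right, Φ.ii, hxv, Φ.iu, Φ.ui hF, Φ.uu]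
    have hr : Hn r r = 0 := iso_line hF Φ hx _
    have hr' : Hn r' r' = 0 := iso_line hF Φ hv _
    have hb0 : r + r' ≠ 0 := fun h0 => hxv0 (by
      have := congrArg Φ.π h0
      simpa [r, r', Φ.π_ι hF, Φ.π_u hF] using this)
    have h1 : Good K (r' + (0 : F) • (r + r')) := by rw [zero_smul, add_zero]; exact hgood hv0 hv
    have h2 : Good K (r' + (-1 : F) • (r + r')) := by
      rw [show r' + (-1 : F) • (r + r') = (-1 : F) • r by module, good_smul hF K (neg_ne_zero.2 one_ne_zero)]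
      exact hgood hx0 hx
    refine zero_ne_one (α := F) (neg_injective (neg_zero.trans (line_unique hF K hm hn hTT ?_ hr' ?_ hb0 ?_ hb h1 h2)))
    · simp [H_add_left, H_add_right hF, hr, hr', hrr, (H_eq_zero_comm hF).1 hrr]
    · simp [H_add_right hF, hr', (H_eq_zero_comm hF).1 hrr]
    · intro a e'
      have := congrArg Φ.π e'
      simp only [r, r', map_add, map_smul, Φ.π_ι hF, Φ.π_u hF, smul_zero, add_zero] at this
      by_cases ha : a = 0
      · rw [ha, zero_smul] at this; exact hv0 this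
      refine hdep ((1 - a) / a) (smul_right_injective _ ha ?_)
      show a • x = a • (((1 - a) / a) • v)
      rw [smul_smul, mul_div_cancel₀ _ ha, sub_smul, one_smul, eq_sub_iff_add_eq, ← smul_add]
      exact this.symm
  have move : ∀ (v x : Wc) (c : F), Hm v v = 0 → Hm x x = 0 → c + c ^ q = 0 →
      A (x + (c * Hm x v) • v) = A x + c * Hm x v * A v := by
    intro v x c hv hx hc
    by_cases hv0 : v = 0
    · subst hv0; simp [hA0]
    by_cases hx0 : x = 0
    · subst hx0; simp [H_zero_left, hA0]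
    have hvi := iso_line hF Φ hv (A v)
    have hk : tvu hF hvi hc ∈ K := (good_iff hF K hvi).1 (hgood hv0 hv) c hc
    have h := good_map hF K hk (iso_line hF Φ hx (A x)) (hgood hx0 hx)
    have hxi : Hm (x + (c * Hm x v) • v) (x + (c * Hm x v) • v) = 0 := by
      have := SU_H (tvu hF hv hc) x x
      rwa [tvu_mulVec, hx] at this
    have hne0 : x + (c * Hm x v) • v ≠ 0 := by
      have := mat_mulVec_ne_zero (tvu hF hv hc) hx0
      rwa [tvu_mulVec] at this
    refine (huniq hne0 hxi ?_).symm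
    convert h using 1
    have e : Hn (Φ.ι x + A x • Φ.u) (Φ.ι v + A v • Φ.u) = Hm x v := by
      simp [H_add_left, H_add_right hF, H_smul_left, H_smul_right, Φ.ii, Φ.iu, Φ.ui hF, Φ.uu]
    rw [tvu_mulVec, e, map_add, map_smul]
    module
  obtain ⟨w, hw⟩ := GoodFun.linear hF hm ⟨homog, move, line⟩
  obtain ⟨β, hβ⟩ := exists_trace_eq hF (c := - Hm w w) (by
    rw [← HermStd.qHom_apply hF, map_neg, HermStd.qHom_apply, H_conj hF])
  set s' := Φ.s - Φ.ι w + β • Φ.u with hs'
  have hss : Hn s' s' = 0 := by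
    simp only [hs', sub_eq_add_neg, H_add_left, H_add_right hF, H_smul_left, H_smul_right, H_neg_left,
      H_neg_right hF, Φ.ss, Φ.si hF, Φ.iss, Φ.su, Φ.us, Φ.iu, Φ.ui hF, Φ.uu, Φ.ii]
    linear_combination hβ
  have hus : Hn Φ.u s' = 1 := by
    simp [hs', sub_eq_add_neg, H_add_right hF, H_neg_right hF, H_smul_right, Φ.us, Φ.uu, Φ.ui hF]
  obtain ⟨Φ', hu', hs''⟩ := exists_fr hF hn Φ.uu hss hus
  refine ⟨Φ', hu', fun v hv hv0 => ?_⟩
  have hbad' : ¬ Good K Φ'.u := by rw [hu']; exact hbad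
  have hvi : Hn (Φ'.ι v) (Φ'.ι v) = 0 := by rw [Φ'.ii]; exact hv
  have hvl : ∀ a : F, Φ'.ι v ≠ a • Φ.u := fun a e => hv0 (by
    have := congrArg Φ'.π e
    rwa [Φ'.π_ι hF, map_smul, ← hu', Φ'.π_u hF, smul_zero] at this)
  obtain ⟨x, a, hx0, hx, hxa⟩ := perp_decomp hF Φ hvi (by rw [← hu']; exact Φ'.iu v) hvl
  have h := hgood hx0 hx
  rw [hw x hx] at h
  have ha : a = Hm x w := by
    have := Φ'.iss v
    rw [hs'', hxa] at this
    simp [hs', sub_eq_add_neg, H_add_left, H_add_right hF, H_smul_left, H_smul_right, H_neg_right hF,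
      Φ.iss, Φ.ii, Φ.iu, Φ.us, Φ.ui hF, Φ.uu] at this
    linear_combination this
  rw [hxa, ha]
  exact h

end Cfsg.Agent.Classical.Unitary.MinIndex
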