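import Cfsg.Agent.Lib.Classical.UnitaryMinIndex.Sections

/-!
# Good points on the lines through bad points
-/

set_option autoImplicit false
set_option linter.unusedSectionVars false

namespace Cfsg.Agent.Classical.Unitary.MinIndex

open Matrix Cfsg.Agent.Forms Cfsg.Agent.Classical

variable {F : Type*} [Field F] [Fintype F] {q n m : ℕ} (hF : Fintype.card F = q ^ 2)

local notation "Vec" => (Fin n → F)
local notation "Hn" => Cfsg.hermForm n F q
local notation "Hm" => Cfsg.hermForm m F q

variable (K : Subgroup (Cfsg.SU n F q))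

/-- At every bad point the stabiliser covers the residual group and meets the radical in its centre only. -/
def TypeTwo (hF : Fintype.card F = q ^ 2) (m : ℕ) : Prop :=
  ∀ Φ : Fr F q n m, ¬ Good K Φ.u → IK hF Φ K = ⊤ ∧ Xs hF Φ K = ⊥

include hF

theorem good_map {g : Cfsg.SU n F q} (hg : g ∈ K) {r : Vec} (hr : Hn r r = 0) (h : Good K r) :
    Good K (mat g *ᵥ r) := by
  have hw : Hn (mat g *ᵥ r) (mat g *ᵥ r) = 0 := by rw [SU_H]; exact hr
  refine (good_iff hF K hw).2 fun c hc => ?_
  rw [← tvu_conj hF g rfl hr hw hc]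
  exact mul_mem (mul_mem hg ((good_iff hF K hr).1 h c hc)) (inv_mem hg)

theorem perp_decomp (Φ : Fr F q n m) {x : Vec} (hx : Hn x x = 0) (hxu : Hn x Φ.u = 0)
    (hli : ∀ a : F, x ≠ a • Φ.u) :
    ∃ (v : Fin m → F) (a : F), v ≠ 0 ∧ Hm v v = 0 ∧ x = Φ.ι v + a • Φ.u := by
  have e := Φ.decomp' x
  rw [hxu, zero_smul, add_zero, add_comm] at e
  refine ⟨Φ.π x, Hn x Φ.s, fun h0 => hli (Hn x Φ.s) ?_, ?_, e⟩
  · conv_lhs => rw [e]
    rw [h0, map_zero, zero_add]
  · rw [e] at hx
    simpa [H_add_left, H_add_right hF, H_smul_left, H_smul_right, Φ.ii, Φ.iu, Φ.ui hF, Φ.uu] using hx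

theorem iso_combine {u x : Vec} (hu : Hn u u = 0) (hx : Hn x x = 0) (hxu : Hn x u = 0) (a b : F) :
    Hn (a • x + b • u) (a • x + b • u) = 0 := by
  simp [H_add_left, H_add_right hF, H_smul_left, H_smul_right, hu, hx, hxu, (H_eq_zero_comm hF).1 hxu]

variable (hm : 3 ≤ m) (hn : n = 2 + m) (hTT : TypeTwo K hF m)

include hm hn hTT

/-- A bad point of a line has at most one good point. -/
theorem line_unique {u x : Vec} (hu : Hn u u = 0) (hx : Hn x x = 0) (hxu : Hn x u = 0) (hu0 : u ≠ 0)
    (hli : ∀ a : F, x ≠ a • u) (hbad : ¬ Good K u) {α β : F} (hα : Good K (x + α • u))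
    (hβ : Good K (x + β • u)) : α = β := by
  obtain ⟨Φ, hΦ⟩ := exists_fr_at hF hn hu0 hu
  subst hΦ
  obtain ⟨v, a, hv0, hv, rfl⟩ := perp_decomp hF Φ hx hxu hli
  obtain ⟨hI, hX⟩ := hTT Φ hbad
  rw [add_assoc, ← add_smul] at hα hβ
  exact add_left_cancel (alpha_unique hF Φ K hI hX hm hv0 hv hα hβ)

theorem eq_one_of_skew (hq : q = 2) {c : F} (hc : c + c ^ q = 0) (hc0 : c ≠ 0) : c = 1 := by
  have h2 := two_eq_zero_of_two hF hq
  have : c ^ q = c := by linear_combination hc - c * h2
  rw [hq, sq] at this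
  exact mul_eq_left₀ hc0 |>.1 this

omit hm hn hTT in
theorem tvu_smul_two (hq : q = 2) {y : Vec} (hy : Hn y y = 0) {a : F} (ha : a ≠ 0)
    (hay : Hn (a • y) (a • y) = 0) {c : F} (hc : c + c ^ q = 0) : tvu hF hay hc = tvu hF hy hc :=
  SU_ext fun x => by
    rw [tvu_mulVec, tvu_mulVec, H_smul_right, smul_smul]
    congr 2
    have : a * a ^ q = 1 := by rw [← pow_succ', hq]; exact pow_three_eq_one hF hq ha
    linear_combination (c * Hn x y) * this

set_option maxHeartbeats 1000000 in
/-- Every line through a bad point has exactly one good point. -/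
theorem exists_good_on_line {u x : Vec} (hu : Hn u u = 0) (hx : Hn x x = 0) (hxu : Hn x u = 0)
    (hu0 : u ≠ 0) (hli : ∀ a : F, x ≠ a • u) (hbad : ¬ Good K u) : ∃ α : F, Good K (x + α • u) := by
  classical
  by_cases hq : 3 ≤ q
  · obtain ⟨Φ, hΦ⟩ := exists_fr_at hF hn hu0 hu
    subst hΦ
    obtain ⟨v, a, hv0, hv, rfl⟩ := perp_decomp hF Φ hx hxu hli
    obtain ⟨hI, hX⟩ := hTT Φ hbad
    obtain ⟨α, hα⟩ := exists_good_of_three_le hF Φ K hI hX hq hm hv0 hv
    exact ⟨α - a, by rwa [add_assoc, ← add_smul, add_sub_cancel]⟩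
  replace hq : q = 2 := by have := HermStd.one_lt_q hF; omega
  by_contra hnone
  push Not at hnone
  -- all five points of the line are bad
  let vec : Option F → Vec := fun P => P.elim u fun α => x + α • u
  have hvi : ∀ P, Hn (vec P) (vec P) = 0 := by
    rintro (_ | α)
    · exact hu
    · simpa [vec] using iso_combine hF hu hx hxu 1 α
  have hvb : ∀ P, ¬ Good K (vec P) := by
    rintro (_ | α)
    · exact hbad
    · exact hnone α
  have hvp : ∀ P Q, Hn (vec P) (vec Q) = 0 := by
    rintro (_ | α) (_ | β) <;> simp [vec, H_add_left, H_add_right hF, H_smul_left, H_smul_right, hu, hx,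
      hxu, (H_eq_zero_comm hF).1 hxu]
  obtain ⟨c, hc0, hc⟩ := exists_traceZero hF
  let T : Option F → Cfsg.SU n F q := fun P => tvu hF (hvi P) hc
  have hx0 : x ≠ 0 := fun e => hli 0 (by rw [e, zero_smul])
  have hlin : ∀ a b : F, a • x + b • u = 0 → a = 0 ∧ b = 0 := by
    intro a b e
    have ha : a = 0 := by
      by_contra ha
      refine hli (-b / a) (smul_right_injective _ ha ?_)
      show a • x = a • ((-b / a) • u)
      rw [smul_smul, mul_div_cancel₀ _ ha, neg_smul, eq_neg_iff_add_eq_zero, e]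
    subst ha
    rw [zero_smul, zero_add, smul_eq_zero] at e
    exact ⟨rfl, e.resolve_right hu0⟩
  have hcommT : ∀ P Q, T P * T Q = T Q * T P := by
    intro P Q
    refine SU_ext fun y => ?_
    simp only [T, mul_mulVec, tvu_mulVec, H_add_left, H_smul_left, hvp P Q, hvp Q P]
    module
  have huni : ∀ P, ∃! Q, Q ≠ P ∧ T P * T Q ∈ K := by
    intro P
    -- the other points, parametrised from `P`
    obtain ⟨z, g, hz, hzi, hzl, hg⟩ : ∃ (z : Vec) (g : F → Option F), Hn z (vec P) = 0 ∧ Hn z z = 0 ∧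
        (∀ a : F, z ≠ a • vec P) ∧ ((∀ α, ∃ a : F, a ≠ 0 ∧ z + α • vec P = a • vec (g α)) ∧
          ∀ Q, Q ≠ P ↔ ∃ α, g α = Q) := by
      rcases P with _ | β
      · refine ⟨x, some, hxu, hx, hli, fun α => ⟨1, one_ne_zero, by simp [vec]⟩, fun Q => ?_⟩
        rcases Q with _ | α <;> simp
      · refine ⟨u, fun α => if α = 0 then none else some (β + α⁻¹), ?_, hu, ?_, fun α => ?_, fun Q => ?_⟩
        · exact hvp none (some β)
        · intro a e
          have := hlin (-a) (1 - a * β) (by
            simp only [vec, Option.elim] at e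
            rw [sub_smul, one_smul, neg_smul, mul_smul]
            conv_lhs => enter [2, 1]; rw [e]
            module)
          have ha : a = 0 := by simpa using this.1
          rw [ha] at this
          simp at this
        · by_cases h0 : α = 0
          · exact ⟨1, one_ne_zero, by simp [h0, vec]⟩
          · refine ⟨α, h0, ?_⟩
            simp only [vec, h0, if_false, Option.elim, smul_add, smul_smul, mul_add, mul_inv_cancel₀ h0]
            module
        · rcases Q with _ | γ
          · simp only [ne_eq, reduceCtorEq, not_false_eq_true, true_iff]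
            exact ⟨0, by simp⟩
          · constructor
            · intro hne
              have hd : γ - β ≠ 0 := sub_ne_zero.2 fun e => hne (by rw [e])
              exact ⟨(γ - β)⁻¹, by simp [hd]⟩
            · rintro ⟨α, hα⟩ e
              by_cases h0 : α = 0
              · simp [h0] at hα
              · simp only [h0, if_false, Option.some.injEq] at hα
                rw [← hα, Option.some.injEq] at e
                exact inv_ne_zero h0 (add_eq_left.1 e)
    have hP0 : vec P ≠ 0 := by
      rcases P with _ | β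
      · exact hu0
      · intro e
        exact one_ne_zero (hlin 1 β (by simpa [vec] using e)).1
    obtain ⟨Φ, hΦ⟩ := exists_fr_at hF hn hP0 (hvi P)
    obtain ⟨v, a, hv0, hv, hza⟩ := perp_decomp hF Φ hzi (by rw [hΦ]; exact hz) (fun a => by rw [hΦ]; exact hzl a)
    obtain ⟨hI, hX⟩ := hTT Φ (by rw [hΦ]; exact hvb P)
    obtain ⟨α₀, hex, huniq⟩ := exists_alpha hF Φ K hI hX hm hv0 hv
    have hT : ∀ α (hαi : Hn (Φ.ι v + α • Φ.u) (Φ.ι v + α • Φ.u) = 0), tvu hF hαi hc = T (g (α - a)) := by
      intro α hαi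
      obtain ⟨l, hl, e⟩ := hg.1 (α - a)
      have e2 : Φ.ι v + α • Φ.u = l • vec (g (α - a)) := by
        rw [← e, hza, ← hΦ, sub_smul]; abel
      have hl2 : Hn (l • vec (g (α - a))) (l • vec (g (α - a))) = 0 := by rw [← e2]; exact hαi
      rw [show tvu hF hαi hc = tvu hF hl2 hc from SU_ext fun y => by rw [tvu_mulVec, tvu_mulVec, e2]]
      exact tvu_smul_two hF hq (hvi _) hl hl2 hc
    have hPT : tvu hF Φ.uu hc = T P := SU_ext fun y => by rw [tvu_mulVec, tvu_mulVec, hΦ]
    refine ⟨g (α₀ - a), ⟨(hg.2 _).2 ⟨_, rfl⟩, ?_⟩, ?_⟩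
    · obtain ⟨ψ, hψ, hmem⟩ := hex c hc
      by_cases hψ0 : ψ = 0
      · subst hψ0
        refine absurd ((good_iff hF K (hvi (g (α₀ - a)))).2 fun d hd => ?_) (hvb _)
        by_cases hd0 : d = 0
        · subst hd0
          convert one_mem K using 1
          exact SU_ext fun y => by simp [tvu_mulVec, mat_one]
        · have e : d = c := by
            rw [eq_one_of_skew hF K hm hn hTT hq hd hd0, eq_one_of_skew hF K hm hn hTT hq hc hc0]
          subst e
          rw [show tvu hF Φ.uu hψ = 1 from SU_ext fun y => by simp [tvu_mulVec, mat_one], one_mul,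
            hT] at hmem
          exact hmem
      · have e : ψ = c := by
          rw [eq_one_of_skew hF K hm hn hTT hq hψ hψ0, eq_one_of_skew hF K hm hn hTT hq hc hc0]
        subst e
        rwa [hPT, hT] at hmem
    · rintro Q ⟨hQ, hQm⟩
      obtain ⟨α, rfl⟩ := (hg.2 Q).1 hQ
      have h := huniq c hc hc0 (α + a) c hc
        (by rw [hPT, hT, add_sub_cancel_right]; exact hQm)
      rw [← h, add_sub_cancel_right]
  choose f hf hfu using huni
  have hinv : ∀ P, f (f P) = P := fun P =>
    (hfu (f P) P ⟨(hf P).1.symm, by rw [hcommT]; exact (hf P).2⟩).symm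
  let σ : Equiv.Perm (Option F) := ⟨f, f, hinv, hinv⟩
  have hsupp : σ.support = Finset.univ := Finset.eq_univ_of_forall fun P =>
    Equiv.Perm.mem_support.2 (hf P).1
  have hord : σ ^ 2 = 1 := Equiv.ext fun P => by rw [sq]; exact hinv P
  have hpar := Equiv.Perm.sum_cycleType σ
  have hall : ∀ k ∈ σ.cycleType, k = 2 := fun k hk => by
    have h2 := Equiv.Perm.two_le_of_mem_cycleType hk
    have h3 : k ∣ 2 := (Equiv.Perm.dvd_of_mem_cycleType hk).trans (orderOf_dvd_of_pow_eq_one hord)
    have := Nat.le_of_dvd two_pos h3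
    omega
  rw [Multiset.eq_replicate_card.2 hall, Multiset.sum_replicate, hsupp, Finset.card_univ,
    Fintype.card_option, hF, hq, smul_eq_mul] at hpar
  omega

end Cfsg.Agent.Classical.Unitary.MinIndex
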