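import Cfsg.Agent.Lib.Classical.UnitaryMinIndex.Pairing
import Cfsg.Agent.Lib.Classical.UnitaryMinIndex.Sections
import Cfsg.Agent.Lib.Classical.UnitaryMinIndex.PointBound

/-!
# Large subgroups of `SU 3 q` with an isotropic invariant subgroup
-/

set_option autoImplicit false
set_option linter.unusedSectionVars false

namespace Cfsg.Agent.Classical.Unitary.MinIndex

open Matrix Cfsg.Agent.Forms Cfsg.Agent.Classical

variable {F : Type*} [Field F] [Fintype F] {q : ℕ} (hF : Fintype.card F = q ^ 2)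

local notation "V3" => (Fin 3 → F)
local notation "H3" => Cfsg.hermForm 3 F q
local notation "H1" => Cfsg.hermForm 1 F q

/-- The stabiliser of a vector. -/
def fixSub {n : ℕ} (hF : Fintype.card F = q ^ 2) (v : Fin n → F) : Subgroup (Cfsg.SU n F q) where
  carrier := {g | mat g *ᵥ v = v}
  one_mem' := by simp [mat_one]
  mul_mem' {a b} (ha : _ = _) (hb : _ = _) := show _ = _ by rw [mul_mulVec, hb, ha]
  inv_mem' {a} (ha : _ = _) := inv_mulVec a ha

include hF

theorem skew_sub_conj {a : F} : (a - a ^ q) + (a - a ^ q) ^ q = 0 := by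
  rw [← HermStd.qHom_apply hF (a - a ^ q), map_sub, HermStd.qHom_apply, HermStd.qHom_apply, pow_qq hF]
  ring

variable (Ψ : Fr F q 3 1)

theorem exists_EM_of_fix {g : Cfsg.SU 3 F q} (hg : mat g *ᵥ Ψ.u = Ψ.u) :
    ∃ w a, mat g = Ψ.EM w a ∧ a + a ^ q = - H1 w w := by
  have hA : Ψ.Amat g = 1 := by
    have h := Ψ.Amat_det_one hF hg
    rw [Matrix.det_fin_one] at h
    ext i j
    have hi : i = 0 := Subsingleton.elim _ _
    have hj : j = 0 := Subsingleton.elim _ _
    subst hi hj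
    rw [h, Matrix.one_apply_eq]
  have e := Ψ.eq_EM hF hg hA
  exact ⟨_, _, e, Ψ.trace_of_preserves hF e⟩

theorem natCard_fixSub : Nat.card (fixSub hF Ψ.u) = q ^ 3 := by
  classical
  have htr : ∀ w : Fin 1 → F, ∃ a : F, a + a ^ q = - H1 w w := fun w =>
    exists_trace_eq hF (by rw [← HermStd.qHom_apply hF, map_neg, HermStd.qHom_apply, H_conj hF])
  choose a0 ha0 using htr
  let f : (Fin 1 → F) × skewF hF → fixSub hF Ψ.u := fun x =>
    ⟨Ψ.E hF x.1 (a0 x.1 + x.2) (by
      rw [HermStd.add_pow_q hF]; linear_combination ha0 x.1 + (mem_skewF hF).1 x.2.2),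
      Ψ.EM_u hF _ _⟩
  have hf : Function.Bijective f := by
    constructor
    · intro x y e
      obtain ⟨e1, e2⟩ := Ψ.EM_injective hF (congrArg (fun g => mat g.1) e)
      rw [e1] at e2
      exact Prod.ext e1 (Subtype.ext (add_left_cancel e2))
    · intro g
      obtain ⟨w, a, e, ha⟩ := exists_EM_of_fix hF Ψ g.2
      refine ⟨(w, ⟨a - a0 w, ?_⟩), Subtype.ext (SU_ext fun x => ?_)⟩
      · show _ + _ = (0 : F)
        rw [← HermStd.qHom_apply hF (a - a0 w), map_sub, HermStd.qHom_apply, HermStd.qHom_apply]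
        linear_combination ha - ha0 w
      · show Ψ.EM w (a0 w + (a - a0 w)) *ᵥ x = mat g.1 *ᵥ x
        rw [e, add_sub_cancel]
  rw [← Nat.card_eq_of_bijective f hf, Nat.card_prod, natCard_skewF hF, Nat.card_fun, Nat.card_fin,
    Nat.card_eq_fintype_card (α := F), hF]
  ring

omit Ψ

theorem natCard_isoPt_three : Nat.card (IsoPt F q 3) = q ^ 3 + 1 := by
  have h := natCard_isoPt_odd hF (n := 3) (by decide)
  have hq := HermStd.one_lt_q hF
  have : 2 ^ 2 ≤ q ^ 2 := Nat.pow_le_pow_left hq 2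
  exact Nat.eq_of_mul_eq_mul_right (by omega) h

theorem card_isoPt_five : Nat.card (IsoPt F q 5) = (q ^ 5 + 1) * (q ^ 2 + 1) := by
  have h := natCard_isoPt_odd hF (n := 5) (by decide)
  have hq := HermStd.one_lt_q hF
  have h1 : 2 ^ 2 ≤ q ^ 2 := Nat.pow_le_pow_left hq 2
  have e : q ^ (5 - 1) - 1 = (q ^ 2 + 1) * (q ^ 2 - 1) := by
    obtain ⟨r, hr⟩ : ∃ r, q ^ 2 = r + 1 := ⟨q ^ 2 - 1, by omega⟩
    have : q ^ (5 - 1) = q ^ 2 * q ^ 2 := by norm_num; ring
    rw [this, hr, Nat.add_sub_cancel]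
    refine Nat.sub_eq_of_eq_add ?_
    ring
  rw [e, ← mul_assoc] at h
  exact Nat.eq_of_mul_eq_mul_right (by omega) h

variable (Ψ : Fr F q 3 1) (I : Subgroup (Cfsg.SU 3 F q)) (X : AddSubgroup (Fin 3 → F))
  (hinv : ∀ A ∈ I, ∀ w ∈ X, mat A *ᵥ w ∈ X)

include hinv

/-- An element of the unipotent group with nonzero residual vector moves the subgroup into the point. -/
theorem exists_mem_line {g : Cfsg.SU 3 F q} (hg : g ∈ I) {w : Fin 1 → F} {a : F}
    (hga : mat g = Ψ.EM w a) (hw : w ≠ 0) (hX : X ≠ ⊥) : ∃ t : F, t ≠ 0 ∧ t • Ψ.u ∈ X := by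
  obtain ⟨x, hx, hx0⟩ : ∃ x ∈ X, x ≠ 0 := by
    by_contra hcon
    push Not at hcon
    exact hX ((AddSubgroup.eq_bot_iff_forall _).2 hcon)
  have hww : H1 w w ≠ 0 := fun e => hw (funext fun i => by
    have : i = 0 := Subsingleton.elim _ _
    subst this
    have : w 0 * w 0 ^ q = 0 := by simpa [Cfsg.hermForm] using e
    rcases mul_eq_zero.1 this with h | h
    · exact h
    · exact (pow_eq_zero_iff (q_ne_zero hF)).1 h)
  have hd : ∀ z ∈ X, mat g *ᵥ z - z ∈ X := fun z hz => sub_mem (hinv g hg z hz) hz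
  have hzero : ∀ z, H3 z Ψ.u = 0 → mat g *ᵥ z - z = (- H1 (Ψ.π z) w) • Ψ.u := by
    intro z hz
    rw [hga, Ψ.EM_mulVec, add_sub_cancel_left, hz, Ψ.h_ι hF]
    module
  by_cases hb : H3 x Ψ.u = 0
  · by_cases hc : H1 (Ψ.π x) w = 0
    · have hπ : Ψ.π x = 0 := funext fun i => by
        have : i = 0 := Subsingleton.elim _ _
        subst this
        have h : Ψ.π x 0 * w 0 ^ q = 0 := by simpa [Cfsg.hermForm] using hc
        rcases mul_eq_zero.1 h with h | h
        · exact h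
        · exact absurd (funext fun i => by
            have : i = 0 := Subsingleton.elim _ _
            subst this
            exact (pow_eq_zero_iff (q_ne_zero hF)).1 h) hw
      have e := Ψ.decomp' x
      rw [hb, hπ, zero_smul, map_zero, add_zero, add_zero] at e
      exact ⟨_, fun h => hx0 (by rw [e, h, zero_smul]), e ▸ hx⟩
    · exact ⟨_, neg_ne_zero.2 hc, hzero x hb ▸ hd x hx⟩
  · set v := mat g *ᵥ x - x with hv
    have hve : v = H3 x Ψ.u • (Ψ.ι w + a • Ψ.u) + H3 x (Ψ.ι w) • (-Ψ.u) := by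
      rw [hv, hga, Ψ.EM_mulVec, add_sub_cancel_left]
    have hvu : H3 v Ψ.u = 0 := by
      rw [hve]; simp [H_add_left, H_smul_left, H_neg_left, Ψ.iu, Ψ.uu]
    have hvπ : Ψ.π v = H3 x Ψ.u • w := by
      rw [hve]; simp [map_add, map_smul, Ψ.π_ι hF, Ψ.π_u hF]
    refine ⟨_, ?_, hzero v hvu ▸ hd v (hd x hx)⟩
    rw [hvπ, H_smul_left]
    exact neg_ne_zero.2 (mul_ne_zero hb hww)

/-- The whole point stabiliser leaves no small subgroup invariant but the point. -/
theorem not_lineStab_le (hI : lineStab hF Ψ.u ≤ I) (hX : Nat.card X ≤ q ^ 3) :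
    Nat.card X ≤ q ^ 2 := by
  classical
  have hq := HermStd.one_lt_q hF
  have hU : ∀ g, mat g *ᵥ Ψ.u = Ψ.u → g ∈ I := fun g hg =>
    hI ⟨1, one_ne_zero, by rw [one_smul]; exact hg⟩
  by_contra hlt
  rw [not_le] at hlt
  obtain ⟨x, hx, hxe⟩ : ∃ x ∈ X, ∀ t : F, x ≠ t • Ψ.u := by
    by_contra hcon
    push Not at hcon
    choose f hf using hcon
    have : Nat.card X ≤ Nat.card F := Nat.card_le_card_of_injective (fun x => f x.1 x.2) fun a b e =>
      Subtype.ext (by rw [hf a.1 a.2, hf b.1 b.2, show f a.1 a.2 = f b.1 b.2 from e])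
    rw [Nat.card_eq_fintype_card (α := F), hF] at this
    omega
  by_cases hb : H3 x Ψ.u = 0
  · -- translations along the point and the torus
    have hc : Ψ.π x ≠ 0 := fun e => by
      have e' := Ψ.decomp' x
      rw [hb, e, zero_smul, map_zero, add_zero, add_zero] at e'
      exact hxe _ e'
    set c := Ψ.π x with hcd
    set a := H3 x Ψ.s
    have hxd : x = a • Ψ.u + Ψ.ι c := by
      have e' := Ψ.decomp' x
      rwa [hb, zero_smul, add_zero] at e'
    have hc0 : c 0 ≠ 0 := fun e => hc (funext fun i => by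
      have : i = 0 := Subsingleton.elim _ _
      subst this; exact e)
    have hmem : ∀ (ν : F) (t : F), ν ^ (q + 1) = 1 → t • Ψ.u + Ψ.ι (ν • c) ∈ X := by
      intro ν t hν
      obtain ⟨l, hl0, hl⟩ := exists_div_conj hF (δ := ν⁻¹) (by rw [inv_pow, hν, inv_one])
      obtain ⟨D, hDu, hDι⟩ := exists_diag hF Ψ le_rfl 0 hl0
      have hν' : l ^ q * l⁻¹ = ν := by
        have hν0 : ν ≠ 0 := fun e => by simp [e] at hν
        field_simp at hl ⊢
        linear_combination -hl
      -- move along the point first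
      obtain ⟨b, hb'⟩ := exists_trace_eq hF
        (c := - H1 (((a - t / l) / c 0) ^ q • Pi.single 0 1) (((a - t / l) / c 0) ^ q • Pi.single 0 1))
        (by rw [← HermStd.qHom_apply hF, map_neg, HermStd.qHom_apply, H_conj hF])
      have h1 := hinv _ (hU (Ψ.E hF _ b hb') (Ψ.EM_u hF _ _)) x hx
      have e1 : mat (Ψ.E hF _ b hb') *ᵥ x = (t / l) • Ψ.u + Ψ.ι c := by
        show Ψ.EM _ _ *ᵥ x = _
        rw [hxd, Matrix.mulVec_add, Matrix.mulVec_smul, Ψ.EM_u hF, Ψ.EM_ι hF]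
        have : H1 c (((a - t / l) / c 0) ^ q • Pi.single 0 1) = a - t / l := by
          rw [H_smul_right, H_single_right hF, pow_qq hF, div_mul_cancel₀ _ hc0]
        rw [this]
        module
      rw [e1] at h1
      have h2 := hinv D (hI ⟨l, hl0, hDu⟩) _ h1
      rw [Matrix.mulVec_add, Matrix.mulVec_smul, hDu, hDι, smul_smul, div_mul_cancel₀ _ hl0] at h2
      convert h2 using 3
      funext i
      have : i = 0 := Subsingleton.elim _ _
      subst this
      simp [hν']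
    let f : (powMonoidHom (q + 1) : Fˣ →* Fˣ).ker × F → X := fun p =>
      ⟨p.2 • Ψ.u + Ψ.ι (((p.1.1 : Fˣ) : F) • c), hmem _ _ (by
        rw [← Units.val_pow_eq_pow_val, show p.1.1 ^ (q + 1) = 1 from p.1.2, Units.val_one])⟩
    have hf : Function.Injective f := by
      rintro ⟨ν, t⟩ ⟨ν', t'⟩ e
      have e' : t • Ψ.u + Ψ.ι (((ν.1 : Fˣ) : F) • c) = t' • Ψ.u + Ψ.ι (((ν'.1 : Fˣ) : F) • c) :=
        congrArg Subtype.val e
      have e1 := congrArg Ψ.π e'
      simp only [map_add, map_smul, Ψ.π_u hF, Ψ.π_ι hF, smul_zero, zero_add] at e1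
      have e2 := congrArg (fun z => H3 z Ψ.s) e'
      simp only [H_add_left, H_smul_left, Ψ.us, Ψ.iss, mul_one, add_zero] at e2
      exact Prod.ext (Subtype.ext (Units.ext (smul_left_injective F hc e1))) e2
    have h := Nat.card_le_card_of_injective f hf
    rw [Nat.card_prod, natCard_normOne hF, Nat.card_eq_fintype_card (α := F), hF] at h
    have : q * q ^ 2 = q ^ 3 := by ring
    rw [add_mul, one_mul, this] at h
    have : 0 < q ^ 2 := Nat.pow_pos (by omega)
    omega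
  · -- the orbit of the unipotent group is regular
    let f : Option (fixSub hF Ψ.u) → X := fun o =>
      o.elim 0 fun g => ⟨mat g.1 *ᵥ x, hinv _ (hU _ g.2) x hx⟩
    have hx0 : x ≠ 0 := fun e => hxe 0 (by rw [e, zero_smul])
    have hf : Function.Injective f := by
      rintro (_ | g) (_ | g') e
      · rfl
      · exact absurd (congrArg Subtype.val e).symm (mat_mulVec_ne_zero g'.1 hx0)
      · exact absurd (congrArg Subtype.val e) (mat_mulVec_ne_zero g.1 hx0)
      · have e' : mat g.1 *ᵥ x = mat g'.1 *ᵥ x := congrArg Subtype.val e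
        obtain ⟨w, a, hga, -⟩ := exists_EM_of_fix hF Ψ g.2
        obtain ⟨w', a', hga', -⟩ := exists_EM_of_fix hF Ψ g'.2
        rw [hga, hga', Ψ.EM_mulVec, Ψ.EM_mulVec, add_right_inj] at e'
        have e1 := congrArg Ψ.π e'
        simp only [map_add, map_smul, map_neg, Ψ.π_u hF, Ψ.π_ι hF, smul_zero, neg_zero, add_zero] at e1
        have hw : w = w' := smul_right_injective _ hb e1
        subst hw
        have e2 := congrArg (fun z => H3 z Ψ.s) e'
        simp only [H_add_left, H_smul_left, H_neg_left, Ψ.us, Ψ.iss, mul_one, zero_add,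
          add_left_inj] at e2
        obtain rfl : a = a' := mul_left_cancel₀ hb e2
        exact congrArg some (Subtype.ext (SU_ext fun z => by rw [hga, hga']))
    have h := Nat.card_le_card_of_injective f hf
    rw [Finite.card_option, natCard_fixSub hF Ψ] at h
    omega

variable {Z : AddSubgroup F} (hZ : Z ≤ skewF hF) (hne : Z ≠ skewF hF)
  (hcomm : ∀ v ∈ X, ∀ w ∈ X, Cfsg.hermForm 3 F q v w - Cfsg.hermForm 3 F q w v ∈ Z)

include hZ hne hcomm

/-- A subgroup of the residual group that moves the point has a small unipotent part. -/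
theorem card_unipotent_le {g₀ : Cfsg.SU 3 F q} (hg₀ : g₀ ∈ I) (hmove : g₀ ∉ lineStab hF Ψ.u)
    {t : F} (ht : t ≠ 0) (htX : t • Ψ.u ∈ X) :
    Nat.card (fixSub hF Ψ.u ⊓ I : Subgroup _) ≤ q ^ 2 ∧
      (q = 2 → Nat.card (fixSub hF Ψ.u ⊓ I : Subgroup _) ≤ 2) := by
  classical
  set y := mat g₀ *ᵥ Ψ.u with hyd
  have hfX : t • y ∈ X := by
    have := hinv g₀ hg₀ _ htX
    rwa [Matrix.mulVec_smul] at this
  have hy : H3 y y = 0 := by rw [hyd, SU_H, Ψ.uu]
  have hyu : H3 y Ψ.u ≠ 0 := by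
    intro h
    have e := Ψ.decomp' y
    rw [h, zero_smul, add_zero] at e
    have hπ : Ψ.π y = 0 := funext fun i => by
      have : i = 0 := Subsingleton.elim _ _
      subst this
      have e2 := hy
      rw [e] at e2
      simp only [H_add_left, H_add_right hF, H_smul_left, H_smul_right, Ψ.uu, Ψ.iu, Ψ.ui hF, Ψ.ii,
        mul_zero, add_zero, zero_add] at e2
      have : Ψ.π y 0 * Ψ.π y 0 ^ q = 0 := by simpa [Cfsg.hermForm] using e2
      rcases mul_eq_zero.1 this with h' | h'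
      · exact h'
      · exact (pow_eq_zero_iff (q_ne_zero hF)).1 h'
    rw [hπ, map_zero, add_zero] at e
    exact hmove ⟨H3 y Ψ.s, fun h0 => mat_mulVec_ne_zero g₀ Ψ.u_ne (by
      rw [← hyd, e, h0, zero_smul]), e⟩
  -- a frame through the image of the point
  have huy : H3 Ψ.u y ≠ 0 := fun e => hyu ((H_eq_zero_comm hF).1 e)
  obtain ⟨Θ, hu, hs⟩ := exists_fr hF (n := 3) (m := 1) rfl Ψ.uu (s := ((H3 Ψ.u y)⁻¹) ^ q • y)
    (by rw [UnitaryCount.hermForm_smul_smul, hy, mul_zero])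
    (by rw [H_smul_right, pow_qq hF, inv_mul_cancel₀ huy])
  obtain ⟨κ, hκ0, hf⟩ : ∃ κ : F, κ ≠ 0 ∧ κ • Θ.s ∈ X := by
    refine ⟨t * H3 Ψ.u y ^ q, mul_ne_zero ht (pow_ne_zero _ huy), ?_⟩
    rw [hs, smul_smul, mul_assoc, ← mul_pow, mul_inv_cancel₀ huy, one_pow, mul_one]
    exact hfX
  -- the residual vectors
  let Y : AddSubgroup (Fin 1 → F) :=
    { carrier := {y | ∃ g : Cfsg.SU 3 F q, g ∈ I ∧ mat g *ᵥ Θ.u = Θ.u ∧
        Θ.π (mat g *ᵥ (κ • Θ.s)) = y}
      zero_mem' := ⟨1, one_mem _, by simp [mat_one], by simp [mat_one, map_smul, Θ.π_s hF]⟩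
      add_mem' := by
        rintro y y' ⟨g, hg, hgu, rfl⟩ ⟨g', hg', hgu', rfl⟩
        obtain ⟨w, a, hga, -⟩ := exists_EM_of_fix hF Θ hgu
        obtain ⟨w', a', hga', -⟩ := exists_EM_of_fix hF Θ hgu'
        refine ⟨g * g', mul_mem hg hg', by rw [mul_mulVec, hgu', hgu], ?_⟩
        rw [mat_mul, hga, hga', Θ.EM_mul hF]
        simp [Matrix.mulVec_smul, Θ.EM_s hF, map_add, map_smul, Θ.π_s hF, Θ.π_u hF, Θ.π_ι hF]
      neg_mem' := by
        rintro y ⟨g, hg, hgu, rfl⟩
        obtain ⟨w, a, hga, -⟩ := exists_EM_of_fix hF Θ hgu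
        refine ⟨g⁻¹, inv_mem hg, inv_mulVec g hgu, ?_⟩
        rw [Θ.EM_inv hF hga, hga]
        simp [Matrix.mulVec_smul, Θ.EM_s hF, map_add, map_smul, Θ.π_s hF, Θ.π_u hF, Θ.π_ι hF] }
  have hv : ∀ (g : Cfsg.SU 3 F q) (w : Fin 1 → F) (a : F), g ∈ I → mat g = Θ.EM w a →
      Θ.ι (κ • w) + (κ * a) • Θ.u ∈ X := by
    intro g w a hg hga
    have h := sub_mem (hinv g hg _ hf) hf
    rwa [hga, Matrix.mulVec_smul, Θ.EM_s hF, ← smul_sub, add_assoc, add_sub_cancel_left, smul_add,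
      ← map_smul, smul_smul] at h
  have hYc : ∀ y ∈ Y, ∀ y' ∈ Y, H1 y y' - H1 y' y ∈ Z := by
    rintro y ⟨g, hg, hgu, rfl⟩ y' ⟨g', hg', hgu', rfl⟩
    obtain ⟨w, a, hga, -⟩ := exists_EM_of_fix hF Θ hgu
    obtain ⟨w', a', hga', -⟩ := exists_EM_of_fix hF Θ hgu'
    have h := hcomm _ (hv g w a hg hga) _ (hv g' w' a' hg' hga')
    simp only [H_add_left, H_add_right hF, H_smul_left, H_smul_right, Θ.ii, Θ.iu, Θ.ui hF, Θ.uu,
      mul_zero, add_zero] at h
    simpa [hga, hga', Matrix.mulVec_smul, Θ.EM_s hF, map_add, map_smul, Θ.π_s hF, Θ.π_u hF, Θ.π_ι hF,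
      H_smul_left, H_smul_right] using h
  have hY : Nat.card Y ≤ q := by simpa using card_le_of_comm hF hZ hne Y hYc
  have hY2 : q = 2 → Nat.card Y ≤ 1 := by
    intro hq
    have hZ0 : Z = ⊥ := by
      have h1 : Nat.card Z ∣ Nat.card (skewF hF) := AddSubgroup.card_dvd_of_le hZ
      rw [natCard_skewF hF, hq] at h1
      have h2 : Nat.card Z ≠ 2 := fun e => hne (AddSubgroup.eq_of_le_of_card_ge hZ (by
        rw [e, natCard_skewF hF, hq]))
      exact AddSubgroup.eq_bot_of_card_eq _ (((Nat.prime_two).eq_one_or_self_of_dvd _ h1).resolve_right h2)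
    have hzero : ∀ y ∈ Y, y = 0 := by
      rintro y ⟨g, hg, hgu, rfl⟩
      obtain ⟨w, a, hga, hwa⟩ := exists_EM_of_fix hF Θ hgu
      have h := hcomm _ (hv g w a hg hga) _ hf
      rw [hZ0, AddSubgroup.mem_bot] at h
      simp only [H_add_left, H_add_right hF, H_smul_left, H_smul_right, Θ.si hF, Θ.iss, Θ.us, Θ.su,
        mul_zero, zero_add, mul_one, mul_pow] at h
      have h2 := two_eq_zero_of_two hF hq
      have ha : a = a ^ q := by
        have hκq : κ ^ q ≠ 0 := pow_ne_zero _ hκ0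
        refine mul_left_cancel₀ (mul_ne_zero hκ0 hκq) ?_
        linear_combination h
      have hw : H1 w w = 0 := by linear_combination hwa + ha - a * h2
      have : w = 0 := funext fun i => by
        have : i = 0 := Subsingleton.elim _ _
        subst this
        have : w 0 * w 0 ^ q = 0 := by simpa [Cfsg.hermForm] using hw
        rcases mul_eq_zero.1 this with h' | h'
        · exact h'
        · exact (pow_eq_zero_iff (q_ne_zero hF)).1 h'
      simp [hga, this, Matrix.mulVec_smul, Θ.EM_s hF, map_add, map_smul, Θ.π_s hF, Θ.π_u hF]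
    rw [(AddSubgroup.eq_bot_iff_forall Y).2 hzero, AddSubgroup.card_bot]
  -- the fibres
  have htr : ∀ y : Y, ∃ b : F, b + b ^ q = - H1 (κ⁻¹ • y.1) (κ⁻¹ • y.1) := fun y =>
    exists_trace_eq hF (by rw [← HermStd.qHom_apply hF, map_neg, HermStd.qHom_apply, H_conj hF])
  choose b0 hb0 using htr
  have hP : Nat.card (fixSub hF Ψ.u ⊓ I : Subgroup _) ≤ Nat.card Y * q := by
    have hspec : ∀ g : (fixSub hF Ψ.u ⊓ I : Subgroup _), ∃ (y : Y) (w : Fin 1 → F) (a : F),
        mat g.1 = Θ.EM w a ∧ y.1 = κ • w ∧ a + a ^ q = - H1 w w := by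
      intro g
      have hgu : mat g.1 *ᵥ Θ.u = Θ.u := by rw [hu]; exact g.2.1
      obtain ⟨w, a, hga, hwa⟩ := exists_EM_of_fix hF Θ hgu
      refine ⟨⟨_, g.1, g.2.2, hgu, rfl⟩, w, a, hga, ?_, hwa⟩
      simp [hga, Matrix.mulVec_smul, Θ.EM_s hF, map_add, map_smul, Θ.π_s hF, Θ.π_u hF, Θ.π_ι hF]
    choose yy ww aa h1 h2 h3 using hspec
    have hw' : ∀ g, κ⁻¹ • (yy g).1 = ww g := fun g => by rw [h2, inv_smul_smul₀ hκ0]
    let f : (fixSub hF Ψ.u ⊓ I : Subgroup _) → Y × skewF hF := fun g =>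
      (yy g, ⟨aa g - b0 (yy g), by
        have := hb0 (yy g)
        rw [hw'] at this
        show _ + _ = (0 : F)
        rw [← HermStd.qHom_apply hF (aa g - b0 (yy g)), map_sub, HermStd.qHom_apply, HermStd.qHom_apply]
        linear_combination h3 g - this⟩)
    have hfinj : Function.Injective f := by
      intro g g' e
      have e1 : yy g = yy g' := congrArg Prod.fst e
      have e2 : aa g - b0 (yy g) = aa g' - b0 (yy g') := congrArg (fun p => (p.2 : F)) e
      rw [e1, sub_left_inj] at e2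
      refine Subtype.ext (SU_ext fun x => ?_)
      rw [h1, h1, e2, ← hw', ← hw', e1]
    have := Nat.card_le_card_of_injective f hfinj
    rwa [Nat.card_prod, natCard_skewF hF] at this
  refine ⟨hP.trans (by rw [sq]; exact Nat.mul_le_mul_right _ hY), fun hq => hP.trans ?_⟩
  rw [hq]
  exact (Nat.mul_le_mul_right _ (hY2 hq)).trans (le_of_eq (by norm_num))

/-- A large unipotent part and a small index are impossible. -/
theorem excl_big (hidx : I.index ≤ q ^ 3 + q)
    (hineq : q ^ 7 * I.index < (q ^ 5 + 1) * (q ^ 2 + 1) * Nat.card X) (hX0 : X ≠ ⊥)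
    (hP : q ^ 2 < Nat.card (fixSub hF Ψ.u ⊓ I : Subgroup _) ∨
      q = 2 ∧ 4 ≤ Nat.card (fixSub hF Ψ.u ⊓ I : Subgroup _)) : False := by
  classical
  have hq := HermStd.one_lt_q hF
  have hqq : q ≤ q ^ 2 := Nat.le_self_pow (by norm_num) q
  -- an element with nonzero residual vector
  obtain ⟨g, hg, w, a, hga, hw⟩ : ∃ g : Cfsg.SU 3 F q, g ∈ I ∧ ∃ (w : Fin 1 → F) (a : F),
      mat g = Ψ.EM w a ∧ w ≠ 0 := by
    by_contra hcon
    push Not at hcon
    have hz : ∀ g : (fixSub hF Ψ.u ⊓ I : Subgroup _), ∃ a : skewF hF, mat g.1 = Ψ.EM 0 a.1 := by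
      intro g
      obtain ⟨w, a, hga, hwa⟩ := exists_EM_of_fix hF Ψ g.2.1
      obtain rfl := hcon g.1 g.2.2 w a hga
      exact ⟨⟨a, by show a + a ^ q = 0; rw [hwa, H_zero_left, neg_zero]⟩, hga⟩
    choose f hf using hz
    have := Nat.card_le_card_of_injective f fun x y e => Subtype.ext (SU_ext fun z => by
      rw [hf, hf, e])
    rw [natCard_skewF hF] at this
    rcases hP with h | ⟨h2, h⟩ <;> omega
  obtain ⟨t, ht, htX⟩ := exists_mem_line hF Ψ I X hinv hg hga hw hX0
  have hXle : Nat.card X ≤ q ^ 3 := card_le_of_comm hF hZ hne X hcomm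
  by_cases hB : I ≤ lineStab hF Ψ.u
  · have hd : (lineStab hF Ψ.u).index ∣ I.index := Subgroup.index_dvd_of_le hB
    rw [index_lineStab_iso hF Ψ.u_ne Ψ.uu, natCard_isoPt_three hF] at hd
    have he : I.index = q ^ 3 + 1 := by
      obtain ⟨j, hj⟩ := hd
      have hpos : I.index ≠ 0 := Subgroup.index_ne_zero_of_finite
      have : q ≤ q ^ 3 := Nat.le_self_pow (by norm_num) q
      rcases j with _ | _ | j
      · omega
      · omega
      · exfalso; nlinarith
    have hBI : lineStab hF Ψ.u ≤ I := by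
      have h1 := Subgroup.relIndex_mul_index hB
      rw [he, index_lineStab_iso hF Ψ.u_ne Ψ.uu, natCard_isoPt_three hF] at h1
      exact Subgroup.relIndex_eq_one.1 (Nat.eq_of_mul_eq_mul_right (by omega) (h1.trans (one_mul _).symm))
    have hX2 := not_lineStab_le hF Ψ I X hinv hBI hXle
    rw [he] at hineq
    have h3 := hineq.trans_le (Nat.mul_le_mul_left _ hX2)
    have e1 : (q ^ 5 + 1) * (q ^ 2 + 1) * q ^ 2 = q ^ 9 + q ^ 7 + q ^ 4 + q ^ 2 := by ring
    have e2 : q ^ 7 * (q ^ 3 + 1) = q ^ 10 + q ^ 7 := by ring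
    have e3 : 2 * q ^ 9 ≤ q ^ 10 := by
      rw [show q ^ 10 = q * q ^ 9 by ring]; exact Nat.mul_le_mul_right _ hq
    have e4 : q ^ 4 < q ^ 8 := Nat.pow_lt_pow_right hq (by norm_num)
    have e5 : q ^ 2 < q ^ 8 := Nat.pow_lt_pow_right hq (by norm_num)
    have e6 : 2 * q ^ 8 ≤ q ^ 9 := by
      rw [show q ^ 9 = q * q ^ 8 by ring]; exact Nat.mul_le_mul_right _ hq
    omega
  · obtain ⟨g₀, hg₀, hmove⟩ := SetLike.not_le_iff_exists.1 hB
    obtain ⟨h1, h2⟩ := card_unipotent_le hF Ψ I X hinv hZ hne hcomm hg₀ hmove ht htX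
    rcases hP with h | ⟨hq2, h⟩
    · omega
    · have := h2 hq2; omega

end Cfsg.Agent.Classical.Unitary.MinIndex
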