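import Cfsg.Agent.Lib.Classical.UnitaryMinIndex.FixedPoint
import Cfsg.Agent.Lib.Classical.UnitaryMinIndex.PointBound

/-!
# The step from degree `m` to degree `m + 2`
-/

set_option autoImplicit false
set_option linter.unusedSectionVars false

namespace Cfsg.Agent.Classical.Unitary.MinIndex

open Matrix Cfsg.Agent.Forms Cfsg.Agent.Classical

variable {F : Type*} [Field F] [Fintype F] {q n m : ℕ} (hF : Fintype.card F = q ^ 2)

local notation "Vec" => (Fin n → F)
local notation "Wc" => (Fin m → F)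
local notation "Hn" => Cfsg.hermForm n F q
local notation "Hm" => Cfsg.hermForm m F q

/-- No proper residual subgroup fits into a subgroup of index less than `M`. -/
def LocalExcl (hF : Fintype.card F = q ^ 2) (m M : ℕ) : Prop :=
  ∀ (I : Subgroup (Cfsg.SU m F q)) (X : AddSubgroup (Fin m → F)) (Z : AddSubgroup F),
    I ≠ ⊤ → Z ≤ skewF hF → Z ≠ skewF hF → (∀ A ∈ I, ∀ w ∈ X, mat A *ᵥ w ∈ X) →
    (∀ v ∈ X, ∀ w ∈ X, Cfsg.hermForm m F q v w - Cfsg.hermForm m F q w v ∈ Z) →
    q ^ (2 * m + 1) * I.index < M * Nat.card X → False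

variable (K : Subgroup (Cfsg.SU n F q))

include hF

/-- The inequality at a bad point. -/
theorem bad_point_bound (Φ : Fr F q n m) (hm : 1 ≤ m) (hbad : ¬ Good K Φ.u) :
    q ^ (2 * m + 1) * (IK hF Φ K).index ≤ Nat.card (Xs hF Φ K) * K.index := by
  classical
  have hq := HermStd.one_lt_q hF
  have hz : Zs hF Φ K ≠ skewF hF := fun e => hbad ((good_u_iff hF Φ K).2 e)
  have hZ : 0 < Nat.card (Zs hF Φ K) := Nat.card_pos
  have hR : Nat.card (RK hF Φ K) ≤
      (q ^ 2 - 1) * (Nat.card (IK hF Φ K) * Nat.card (Xs hF Φ K)) := by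
    refine (card_RK_le hF Φ K).trans ?_
    rw [show ∀ a i x z : ℕ, a * (i * (x * z)) = a * z * (i * x) from fun a i x z => by ring]
    refine Nat.mul_le_mul_right _ ?_
    refine (card_muHom_mul_Zs hF Φ K hz).trans ?_
    rw [show q ^ 2 - 1 = (q + 1) * (q - 1) by simpa using Nat.sq_sub_sq q 1]
    exact Nat.mul_le_mul_left _ (by omega)
  have hNb : Nat.card {p : IsoPt F q n // ¬ Good K p.1.rep} ≤ Nat.card (IsoPt F q n) :=
    Nat.card_le_card_of_injective _ Subtype.val_injective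
  have hK := (card_le_bad_mul hF K Φ hbad).trans (Nat.mul_le_mul hNb hR)
  have hG := card_SU_ge hF Φ hm
  rw [← K.card_mul_index, ← (IK hF Φ K).card_mul_index] at hG
  have h := hG.trans (Nat.mul_le_mul_right _ hK)
  have hpos : 0 < Nat.card (IsoPt F q n) * ((q ^ 2 - 1) * Nat.card (IK hF Φ K)) := by
    have : Nonempty (IsoPt F q n) := ⟨pt Φ.u Φ.u_ne Φ.uu⟩
    have : 2 ^ 2 ≤ q ^ 2 := Nat.pow_le_pow_left hq 2
    have h2 : 0 < Nat.card (IK hF Φ K) := Nat.card_pos
    have h1 : 0 < Nat.card (IsoPt F q n) := Nat.card_pos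
    exact Nat.mul_pos h1 (Nat.mul_pos (by omega) h2)
  refine Nat.le_of_mul_le_mul_left ?_ hpos
  calc Nat.card (IsoPt F q n) * ((q ^ 2 - 1) * Nat.card (IK hF Φ K)) *
        (q ^ (2 * m + 1) * (IK hF Φ K).index)
      = Nat.card (IsoPt F q n) * (q ^ (2 * m + 1) * (q ^ 2 - 1) *
          (Nat.card (IK hF Φ K) * (IK hF Φ K).index)) := by ring
    _ ≤ _ := h
    _ = _ := by ring

/-- Below the bound, a bad point has type two. -/
theorem typeTwo_of_index {M : ℕ} (hm : 3 ≤ m) (hloc : LocalExcl hF m M) (hidx : K.index < M) :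
    TypeTwo K hF m := by
  classical
  intro Φ hbad
  have hz : Zs hF Φ K ≠ skewF hF := fun e => hbad ((good_u_iff hF Φ K).2 e)
  have hb := bad_point_bound hF K Φ (by omega) hbad
  have hXpos : 0 < Nat.card (Xs hF Φ K) := Nat.card_pos
  have hI : IK hF Φ K = ⊤ := by
    by_contra hI
    refine hloc _ _ _ hI (Zs_le hF Φ K) hz (fun A hA w hw => IK_Xs hF Φ K hA hw)
      (fun v hv w hw => comm_mem_Zs hF Φ K hv hw) (hb.trans_lt ?_)
    rw [mul_comm M]
    exact Nat.mul_lt_mul_of_pos_left hidx hXpos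
  refine ⟨hI, ?_⟩
  refine (eq_bot_or_top_of_invariant hF hm (Xs hF Φ K)
    fun v hv c hc x hx => IK_Xs hF Φ K (by rw [hI]; trivial) hx).resolve_right fun htop => ?_
  have h := card_le_of_comm hF (Zs_le hF Φ K) hz (Xs hF Φ K)
    fun v hv w hw => comm_mem_Zs hF Φ K hv hw
  rw [htop, AddSubgroup.card_top, Nat.card_fun, Nat.card_fin, Nat.card_eq_fintype_card (α := F), hF,
    ← pow_mul] at h
  have := (Nat.pow_le_pow_iff_right (HermStd.one_lt_q hF)).1 h
  omega

/-- The step. -/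
theorem Bd_le_index_of_localExcl (hm : 3 ≤ m) (hn : n = 2 + m) (hloc : LocalExcl hF m (Bd q n))
    (hK : K ≠ ⊤) : Bd q n ≤ K.index := by
  by_contra hlt
  rw [not_le] at hlt
  have hTT := typeTwo_of_index hF K hm hloc hlt
  obtain ⟨e, he, hfix⟩ := exists_fixed_point hF K hm hn hTT hK fun h3 h2 => by
    subst h3 h2
    subst hn
    have : Bd 2 (2 + 3) = 165 := by decide
    omega
  exact absurd (Bd_le_index hF (by omega) he hfix) (by omega)

/-- The local exclusion from a bound for the residual degree. -/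
theorem localExcl_of_bound {M B : ℕ} (hB : ∀ I : Subgroup (Cfsg.SU m F q), I ≠ ⊤ → B ≤ I.index)
    (hM : M ≤ q ^ (m + 1) * B) : LocalExcl hF m M := by
  intro I X Z hI hZ hZne _ hcomm hlt
  have hX := card_le_of_comm hF hZ hZne X hcomm
  have h1 : q ^ (2 * m + 1) * B ≤ q ^ (2 * m + 1) * I.index := Nat.mul_le_mul_left _ (hB I hI)
  have h2 : M * Nat.card X ≤ q ^ (m + 1) * B * q ^ m := Nat.mul_le_mul hM hX
  have h3 : q ^ (m + 1) * B * q ^ m = q ^ (2 * m + 1) * B := by ring
  omega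

end Cfsg.Agent.Classical.Unitary.MinIndex
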