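import Cfsg.Agent.S0278
import Cfsg.Agent.S2148
import Cfsg.Agent.S2149
import Cfsg.Agent.Lib.Classical.UnitaryMinIndex.SmallThree
import Cfsg.Agent.Lib.Classical.UnitaryMinIndex.Step
import Cfsg.Agent.Lib.Classical.UnitaryMinIndex.Transfer

/-!
# The residual degree three
-/

set_option autoImplicit false
set_option linter.unusedSectionVars false

namespace Cfsg.Agent.Classical.Unitary.MinIndex

open Matrix Cfsg.Agent.Forms Cfsg.Agent.Classical

/-- A coset whose orbit length is not divisible by a number not dividing the index. -/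
theorem exists_conj_not_dvd {G : Type*} [Group G] [Finite G] (U I : Subgroup G) {d : ℕ}
    (hd : ¬ d ∣ I.index) :
    ∃ g : G, ¬ d ∣ ((I.map (MulAut.conj g).toMonoidHom).subgroupOf U).index := by
  classical
  by_contra hcon
  push Not at hcon
  refine hd ?_
  have : Fintype (Quotient (MulAction.orbitRel U (G ⧸ I))) := Fintype.ofFinite _
  rw [Subgroup.index, Nat.card_congr (MulAction.selfEquivSigmaOrbitsQuotientStabilizer U (G ⧸ I)),
    Nat.card_sigma]
  refine Finset.dvd_sum fun ω _ => ?_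
  obtain ⟨g, hg⟩ := QuotientGroup.mk_surjective ω.out
  rw [← hg]
  have e : MulAction.stabilizer U (g : G ⧸ I) = (I.map (MulAut.conj g).toMonoidHom).subgroupOf U := by
    ext u
    rw [MulAction.mem_stabilizer_iff, Subgroup.mem_subgroupOf]
    show ((u.1 * g : G) : G ⧸ I) = g ↔ u.1 ∈ I.map (MulAut.conj g).toMonoidHom
    rw [eq_comm, QuotientGroup.eq]
    constructor
    · intro h
      refine ⟨_, h, ?_⟩
      show g * (g⁻¹ * (u.1 * g)) * g⁻¹ = u.1
      group
    · rintro ⟨x, hx, e⟩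
      rw [← e]
      show g⁻¹ * (g * x * g⁻¹ * g) ∈ I
      simpa [mul_assoc] using hx
  rw [show Nat.card (U ⧸ MulAction.stabilizer U (g : G ⧸ I)) =
    (MulAction.stabilizer U (g : G ⧸ I)).index from rfl, e]
  exact hcon g

variable {F : Type*} [Field F] [Fintype F] {q : ℕ} (hF : Fintype.card F = q ^ 2)

local notation "V3" => (Fin 3 → F)
local notation "H3" => Cfsg.hermForm 3 F q

include hF

theorem Bd_five : Bd q 5 = (q ^ 5 + 1) * (q ^ 2 + 1) := by
  have hq := HermStd.one_lt_q hF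
  have : 2 ^ 2 ≤ q ^ 2 := Nat.pow_le_pow_left hq 2
  rw [Bd, if_neg (by decide), ← natCard_isoPt_odd hF (by decide), card_isoPt_five hF,
    Nat.mul_div_cancel _ (by omega)]

theorem exists_fr_three : ∃ Ψ : Fr F q 3 1, Ψ.u ≠ 0 := by
  obtain ⟨u, hu, hu1, -, -⟩ := exists_isotropic_pair hF (n := 3) 0 1 (by decide)
  obtain ⟨Ψ, -⟩ := exists_fr_at hF (n := 3) (m := 1) rfl (fun h => by simp [h] at hu1) hu
  exact ⟨Ψ, Ψ.u_ne⟩

variable (I : Subgroup (Cfsg.SU 3 F q)) (X : AddSubgroup (Fin 3 → F)) {Z : AddSubgroup F}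
  (hinv : ∀ A ∈ I, ∀ w ∈ X, mat A *ᵥ w ∈ X) (hZ : Z ≤ skewF hF) (hne : Z ≠ skewF hF)
  (hcomm : ∀ v ∈ X, ∀ w ∈ X, Cfsg.hermForm 3 F q v w - Cfsg.hermForm 3 F q w v ∈ Z)
  (hidx : I.index ≤ q ^ 3 + q)
  (hineq : q ^ 7 * I.index < (q ^ 5 + 1) * (q ^ 2 + 1) * Nat.card X) (hX0 : X ≠ ⊥)

include hinv hZ hne hcomm hidx hineq hX0

/-- An index that is not divisible by `d` gives a large unipotent part. -/
theorem dvd_index {d : ℕ} (hd : (d = q) ∨ (q = 2 ∧ d = 4)) : d ∣ I.index := by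
  classical
  by_contra hnd
  obtain ⟨Ψ, -⟩ := exists_fr_three hF
  obtain ⟨g, hg⟩ := exists_conj_not_dvd (fixSub hF Ψ.u) I hnd
  set I' := I.map (MulAut.conj g).toMonoidHom with hI'
  let φ : V3 →+ V3 := (Matrix.mulVecLin (mat g)).toAddMonoidHom
  have hφ : ∀ x, φ x = mat g *ᵥ x := fun x => rfl
  have hφi : Function.Injective φ := fun x y e => by
    have := congrArg (mat g⁻¹ *ᵥ ·) e
    simpa only [hφ, inv_mulVec g rfl] using this
  have hcard : Nat.card (X.map φ) = Nat.card X :=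
    Nat.card_congr (AddSubgroup.equivMapOfInjective X φ hφi).toEquiv.symm
  have hidx' : I'.index = I.index := Subgroup.index_map_equiv I (MulAut.conj g)
  refine excl_big hF Ψ I' (X.map φ) ?_ hZ hne ?_ (hidx'.trans_le hidx) (by rwa [hidx', hcard]) ?_ ?_
  · rintro A ⟨B, hB, rfl⟩ w ⟨v, hv, rfl⟩
    refine ⟨mat B *ᵥ v, hinv B hB v hv, ?_⟩
    show mat g *ᵥ (mat B *ᵥ v) = mat (g * B * g⁻¹) *ᵥ (mat g *ᵥ v)
    rw [mul_mulVec, mul_mulVec, inv_mulVec g rfl]
  · rintro v ⟨v', hv, rfl⟩ w ⟨w', hw, rfl⟩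
    rw [hφ, hφ, SU_H, SU_H]
    exact hcomm v' hv w' hw
  · exact fun e => hX0 (AddSubgroup.card_eq_one.1 (by rw [← hcard, e, AddSubgroup.card_bot]))
  -- the orbit length
  have hmul := (I'.subgroupOf (fixSub hF Ψ.u)).card_mul_index
  have e : Nat.card (I'.subgroupOf (fixSub hF Ψ.u)) = Nat.card (fixSub hF Ψ.u ⊓ I' : Subgroup _) := by
    rw [← Subgroup.inf_subgroupOf_left]
    exact Nat.card_congr (Subgroup.subgroupOfEquivOfLe inf_le_left).toEquiv
  rw [natCard_fixSub hF Ψ, e] at hmul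
  set r := (I'.subgroupOf (fixSub hF Ψ.u)).index
  set P := Nat.card (fixSub hF Ψ.u ⊓ I' : Subgroup _)
  obtain ⟨p, k, hp, hk, hpk⟩ : ∃ p k : ℕ, p.Prime ∧ 0 < k ∧ p ^ k = q := by
    obtain ⟨p, hpc⟩ := CharP.exists F
    obtain ⟨j, hp, hj⟩ := FiniteField.card F p
    rw [hF] at hj
    have hppow : q ∣ p ^ (j : ℕ) := hj ▸ dvd_pow_self q two_ne_zero
    obtain ⟨k, -, hk⟩ := (Nat.dvd_prime_pow hp).1 hppow
    refine ⟨p, k, hp, Nat.pos_of_ne_zero fun h0 => ?_, hk.symm⟩
    have := HermStd.one_lt_q hF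
    rw [h0, pow_zero] at hk
    omega
  have hr : r ∣ p ^ (k * 3) := by
    rw [pow_mul, hpk]; exact Dvd.intro_left _ hmul
  obtain ⟨j, -, hj⟩ := (Nat.dvd_prime_pow hp).1 hr
  rcases hd with rfl | ⟨hq2, rfl⟩
  · left
    have hjk : j < k := by
      by_contra h
      rw [not_lt] at h
      exact hg (by rw [hj, ← hpk]; exact Nat.pow_dvd_pow p h)
    have hrq : r < d := by rw [hj, ← hpk]; exact Nat.pow_lt_pow_right hp.one_lt hjk
    by_contra hP
    rw [not_lt] at hP
    have : P * r < d ^ 2 * d := by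
      have h0 : 0 < d ^ 2 := Nat.pow_pos (by omega)
      calc P * r ≤ d ^ 2 * r := Nat.mul_le_mul_right _ hP
        _ < d ^ 2 * d := Nat.mul_lt_mul_of_pos_left hrq h0
    rw [hmul, ← pow_succ] at this
    exact lt_irrefl _ this
  · right
    refine ⟨hq2, ?_⟩
    subst hq2
    have h8 : r ∣ 2 ^ 3 := by rw [← hmul]; exact dvd_mul_left _ _
    obtain ⟨i, -, hi⟩ := (Nat.dvd_prime_pow Nat.prime_two).1 h8
    have : i < 2 := by
      by_contra h
      exact hg (by rw [hi]; exact Nat.pow_dvd_pow 2 (by omega : 2 ≤ i))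
    have hr2 : r ≤ 2 := by rw [hi]; exact le_trans (Nat.pow_le_pow_right two_pos (by omega)) (le_refl (2 ^ 1))
    have hmul' : P * r = 8 := by rw [hmul]; norm_num
    nlinarith

/-- With the centre inside, and prime `q`, there is no such pair. -/
theorem excl_center (hp : q.Prime) (h3 : 3 ∣ q + 1) (hc : Subgroup.center (Cfsg.SU 3 F q) ≤ I) :
    False := by
  classical
  have hq := HermStd.one_lt_q hF
  have hcard : Nat.card (Subgroup.center (Cfsg.SU 3 F q)) = 3 := by
    rw [natCard_center hF (by norm_num), Nat.gcd_eq_left h3]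
  obtain ⟨z, hzc, hz1⟩ : ∃ z ∈ Subgroup.center (Cfsg.SU 3 F q), z ≠ 1 := by
    by_contra hcon
    push Not at hcon
    rw [(Subgroup.eq_bot_iff_forall _).2 hcon, Subgroup.card_bot] at hcard
    omega
  obtain ⟨a, ha⟩ := (mem_center_iff hF (by norm_num) z).1 hzc
  have hax : ∀ x : V3, mat z *ᵥ x = a • x := fun x => by rw [ha, Matrix.smul_mulVec, one_mulVec]
  have ha3 : a ^ 3 = 1 := by
    have h : (mat z).det = 1 := z.1.2
    rwa [ha, Matrix.det_smul, Matrix.det_one, mul_one, Fintype.card_fin] at h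
  have ha1 : a ≠ 1 := fun e => hz1 (SU_ext fun x => by rw [hax, e, one_smul, mat_one, one_mulVec])
  have haq : a ^ q ≠ a := by
    obtain ⟨j, hj⟩ := h3
    intro e
    have : a ^ (q + 1) = 1 := by rw [hj, pow_mul, ha3, one_pow]
    rw [pow_succ, e] at this
    refine ha1 ?_
    calc a = a ^ 3 := by rw [pow_succ, pow_two, this, one_mul]
      _ = 1 := ha3
  -- the subgroup is a subspace
  obtain ⟨p, hpc⟩ := CharP.exists F
  have hpp : Fact p.Prime := ⟨CharP.char_is_prime F p⟩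
  have hqq : Fact q.Prime := ⟨hp⟩
  have hchar : CharP F q := by
    obtain ⟨j, -, hj⟩ := FiniteField.card F p
    rw [hF] at hj
    have : q ∣ p ^ (j : ℕ) := hj ▸ dvd_pow_self q two_ne_zero
    rwa [(Nat.prime_dvd_prime_iff_eq hp hpp.out).1 (hp.dvd_of_dvd_pow this)]
  let f : ZMod q × ZMod q → F := fun x => (x.1.val : F) + (x.2.val : F) * a
  have hfix : ∀ i : ℕ, (i : F) ^ q = (i : F) := fun i => by
    rw [← frobenius_def, map_natCast]
  have hval : ∀ x : ZMod q, (x.val : F) = ZMod.castHom dvd_rfl F x := fun x => by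
    rw [ZMod.castHom_apply, ← ZMod.natCast_val]
  have hfinj : Function.Injective f := by
    rintro ⟨x1, x2⟩ ⟨y1, y2⟩ e
    simp only [f] at e
    have h2 : (x2.val : F) = y2.val := by
      by_contra hne'
      have hd : (x2.val : F) - y2.val ≠ 0 := sub_ne_zero.2 hne'
      have e2 : a = ((y1.val : F) - x1.val) / ((x2.val : F) - y2.val) := by
        field_simp; linear_combination e
      refine haq ?_
      rw [e2, div_pow, sub_pow_char, sub_pow_char, hfix, hfix, hfix, hfix]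
    have h1 : (x1.val : F) = y1.val := by rw [h2] at e; exact add_right_cancel e
    rw [hval, hval] at h1 h2
    exact Prod.ext ((ZMod.castHom dvd_rfl F).injective h1) ((ZMod.castHom dvd_rfl F).injective h2)
  have hfbij := hfinj.bijective_of_nat_card_le (by
    rw [Nat.card_prod, Nat.card_zmod, Nat.card_eq_fintype_card (α := F), hF, sq])
  have hsmul : ∀ (l : F), ∀ x ∈ X, l • x ∈ X := by
    intro l x hx
    obtain ⟨⟨i, j⟩, rfl⟩ := hfbij.2 l
    show ((i.val : F) + (j.val : F) * a) • x ∈ X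
    rw [add_smul, mul_smul, Nat.cast_smul_eq_nsmul F, Nat.cast_smul_eq_nsmul F, ← hax]
    exact add_mem (nsmul_mem hx _) (nsmul_mem (hinv z (hc hzc) x hx) _)
  have hperp : ∀ v ∈ X, ∀ w ∈ X, H3 v w = 0 := by
    intro v hv w hw
    by_contra hh
    refine hne (le_antisymm hZ fun t ht => ?_)
    obtain ⟨b, hb⟩ := exists_skew_sub hF ht
    have h := hcomm v hv _ (hsmul ((b / H3 v w) ^ q) w hw)
    rw [H_smul_right, H_smul_left, pow_qq hF, div_mul_cancel₀ _ hh, ← H_conj hF v w, ← mul_pow,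
      div_mul_cancel₀ _ hh, hb] at h
    exact h
  -- it lies in an isotropic point, which is then fixed
  obtain ⟨v, hv, hv0⟩ : ∃ v ∈ X, v ≠ 0 := by
    by_contra hcon
    push Not at hcon
    exact hX0 ((AddSubgroup.eq_bot_iff_forall _).2 hcon)
  obtain ⟨Ψ, rfl⟩ := exists_fr_at hF (n := 3) (m := 1) rfl hv0 (hperp v hv v hv)
  have hline : ∀ x ∈ X, x = H3 x Ψ.s • Ψ.u := by
    intro x hx
    have e := Ψ.decomp' x
    rw [hperp x hx _ hv, zero_smul, add_zero] at e
    have hπ : Ψ.π x = 0 := funext fun i => by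
      have : i = 0 := Subsingleton.elim _ _
      subst this
      have e2 := hperp x hx x hx
      rw [e] at e2
      simp only [H_add_left, H_add_right hF, H_smul_left, H_smul_right, Ψ.uu, Ψ.iu, Ψ.ui hF, Ψ.ii,
        mul_zero, add_zero, zero_add] at e2
      have : Ψ.π x 0 * Ψ.π x 0 ^ q = 0 := by simpa [Cfsg.hermForm] using e2
      rcases mul_eq_zero.1 this with h' | h'
      · exact h'
      · exact (pow_eq_zero_iff (q_ne_zero hF)).1 h'
    rw [hπ, map_zero, add_zero] at e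
    exact e
  have hX2 : Nat.card X ≤ q ^ 2 := by
    have h := Nat.card_le_card_of_injective (fun x : X => H3 x.1 Ψ.s) fun x y e => Subtype.ext (by
      rw [hline x.1 x.2, hline y.1 y.2, show H3 x.1 Ψ.s = H3 y.1 Ψ.s from e])
    rwa [Nat.card_eq_fintype_card (α := F), hF] at h
  have hIle : I ≤ lineStab hF Ψ.u := le_lineStab hF Ψ.u_ne fun g hg =>
    ⟨_, hline _ (hinv g hg _ hv)⟩
  have hi : q ^ 3 + 1 ≤ I.index := by
    refine Nat.le_of_dvd (Nat.pos_of_ne_zero Subgroup.index_ne_zero_of_finite) ?_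
    have := Subgroup.index_dvd_of_le hIle
    rwa [index_lineStab_iso hF Ψ.u_ne Ψ.uu, natCard_isoPt_three hF] at this
  have h3 := ((Nat.mul_le_mul_left (q ^ 7) hi).trans_lt hineq).trans_le (Nat.mul_le_mul_left _ hX2)
  have e1 : (q ^ 5 + 1) * (q ^ 2 + 1) * q ^ 2 = q ^ 9 + q ^ 7 + q ^ 4 + q ^ 2 := by ring
  have e2 : q ^ 7 * (q ^ 3 + 1) = q ^ 10 + q ^ 7 := by ring
  have e3 : 2 * q ^ 9 ≤ q ^ 10 := by
    rw [show q ^ 10 = q * q ^ 9 by ring]; exact Nat.mul_le_mul_right _ hq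
  have e4 : q ^ 4 < q ^ 8 := Nat.pow_lt_pow_right hq (by norm_num)
  have e5 : q ^ 2 < q ^ 8 := Nat.pow_lt_pow_right hq (by norm_num)
  have e6 : 2 * q ^ 8 ≤ q ^ 9 := by
    rw [show q ^ 9 = q * q ^ 8 by ring]; exact Nat.mul_le_mul_right _ hq
  omega

omit hinv hZ hne hcomm hidx hineq hX0 in
/-- The index `q ^ 3 + q` does not occur. -/
theorem index_ne (hI : I.index = q ^ 3 + q) : False := by
  have hq := HermStd.one_lt_q hF
  have hd := I.index_dvd_card
  have hc := Cfsg.Agent.S0278.result hF 3 (by norm_num)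
  norm_num [Finset.prod_range_succ] at hc
  rw [hI, show q ^ 3 + q = q * (q ^ 2 + 1) by ring] at hd
  have hL : Nat.card (Cfsg.SU 3 F q) = q ^ 3 * ((q ^ 2 - 1) * (q ^ 3 + 1)) :=
    Nat.eq_of_mul_eq_mul_left (by omega : 0 < q + 1) (hc.trans (by ring))
  rw [hL] at hd
  have hd1 : q ^ 2 + 1 ∣ q ^ 3 * ((q ^ 2 - 1) * (q ^ 3 + 1)) := (dvd_mul_left _ q).trans hd
  have hd2 : q ^ 2 + 1 ∣ 2 * q + 2 := by
    rw [← Int.natCast_dvd_natCast] at hd1 ⊢
    push_cast [Nat.cast_sub (Nat.one_le_pow 2 q (by omega))] at hd1 ⊢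
    have e : (2 * q + 2 : ℤ) = (q : ℤ) ^ 3 * (((q : ℤ) ^ 2 - 1) * ((q : ℤ) ^ 3 + 1)) -
        ((q : ℤ) ^ 2 + 1) * ((q : ℤ) ^ 6 - 2 * q ^ 4 + q ^ 3 + 2 * q ^ 2 - 2 * q - 2) := by ring
    rw [e]
    exact dvd_sub hd1 (dvd_mul_right _ _)
  have hle := Nat.le_of_dvd (by omega) hd2
  obtain rfl : q = 2 := by nlinarith
  norm_num at hd2

omit hinv hZ hne hcomm hidx hineq hX0

/-- The residual degree three. -/
theorem localExcl_three : LocalExcl hF 3 (Bd q 5) := by
  classical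
  intro I X Z hI hZ hne hinv hcomm hlt
  rw [Bd_five hF, show 2 * 3 + 1 = 7 from rfl] at hlt
  have hq := HermStd.one_lt_q hF
  have hipos : 0 < I.index := Nat.pos_of_ne_zero Subgroup.index_ne_zero_of_finite
  have hine : I.index ≠ 1 := fun e => hI (Subgroup.index_eq_one.1 e)
  have hX0 : X ≠ ⊥ := by
    intro e
    rw [e, AddSubgroup.card_bot, mul_one] at hlt
    have h1 := (Nat.mul_le_mul_left (q ^ 7) (by omega : 2 ≤ I.index)).trans_lt hlt
    have e1 : (q ^ 5 + 1) * (q ^ 2 + 1) = q ^ 7 + q ^ 5 + q ^ 2 + 1 := by ring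
    have e2 : q ^ 2 < q ^ 5 := Nat.pow_lt_pow_right hq (by norm_num)
    have e3 : 4 * q ^ 5 ≤ q ^ 7 := by
      rw [show q ^ 7 = q ^ 2 * q ^ 5 by ring]
      exact Nat.mul_le_mul_right _ (by nlinarith)
    omega
  have hX3 : Nat.card X ≤ q ^ 3 := card_le_of_comm hF hZ hne X hcomm
  have hidx : I.index ≤ q ^ 3 + q := by
    by_contra h
    rw [not_le] at h
    have h1 := ((Nat.mul_le_mul_left (q ^ 7) h).trans_lt hlt).trans_le (Nat.mul_le_mul_left _ hX3)
    have e1 : q ^ 7 * (q ^ 3 + q).succ = q ^ 10 + q ^ 8 + q ^ 7 := by rw [Nat.succ_eq_add_one]; ring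
    have e2 : (q ^ 5 + 1) * (q ^ 2 + 1) * q ^ 3 = q ^ 10 + q ^ 8 + q ^ 5 + q ^ 3 := by ring
    have e3 : 2 * q ^ 5 ≤ q ^ 7 := by
      rw [show q ^ 7 = q ^ 2 * q ^ 5 by ring]
      exact Nat.mul_le_mul_right _ (by nlinarith)
    have e4 : q ^ 3 < q ^ 5 := Nat.pow_lt_pow_right hq (by norm_num)
    omega
  have hdvdq := dvd_index hF I X hinv hZ hne hcomm hidx hlt hX0 (Or.inl rfl)
  by_cases h25 : q = 2 ∨ q = 5
  · have hp : q.Prime := by rcases h25 with rfl | rfl <;> norm_num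
    have h3 : 3 ∣ q + 1 := by rcases h25 with rfl | rfl <;> norm_num
    refine excl_center hF I X hinv hZ hne hcomm hidx hlt hX0 hp h3 ?_
    by_contra hc
    have hZ3 : Nat.card (Subgroup.center (Cfsg.SU 3 F q)) = 3 := by
      rw [natCard_center hF (by norm_num), Nat.gcd_eq_left h3]
    have hrel : I.relIndex (I ⊔ Subgroup.center (Cfsg.SU 3 F q)) = 3 := by
      set C := Subgroup.center (Cfsg.SU 3 F q)
      have h1 := Subgroup.relIndex_mul_relIndex ⊥ C (I ⊔ C) bot_le le_sup_right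
      have h2 := Subgroup.relIndex_mul_relIndex ⊥ I (I ⊔ C) bot_le le_sup_left
      have h4 := Subgroup.relIndex_mul_relIndex ⊥ (C ⊓ I) I bot_le inf_le_right
      rw [Subgroup.inf_relIndex_right, Subgroup.relIndex_bot_left, Subgroup.relIndex_bot_left] at h4
      rw [Subgroup.relIndex_bot_left, Subgroup.relIndex_bot_left, Subgroup.relIndex_sup_right] at h1
      rw [Subgroup.relIndex_bot_left, Subgroup.relIndex_bot_left, ← h1, ← h4, hZ3,
        mul_right_comm] at h2
      have hpos : 0 < C.relIndex I := Nat.pos_of_ne_zero Subgroup.index_ne_zero_of_finite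
      have h5 := Nat.eq_of_mul_eq_mul_right hpos h2
      refine ((Nat.prime_three).eq_one_or_self_of_dvd _ ⟨_, (by rw [mul_comm]; exact h5.symm)⟩).resolve_left
        fun e => hc (le_sup_right.trans (Subgroup.relIndex_eq_one.1 e))
    rcases h25 with rfl | rfl
    · have h4 := dvd_index hF I X hinv hZ hne hcomm hidx hlt hX0 (Or.inr ⟨rfl, rfl⟩)
      have h3' : 3 ∣ I.index := by
        rw [← Subgroup.relIndex_mul_index (le_sup_left : I ≤ I ⊔ Subgroup.center (Cfsg.SU 3 F 2)), hrel]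
        exact dvd_mul_right _ _
      obtain ⟨j, hj⟩ := Nat.Coprime.mul_dvd_of_dvd_of_dvd (by norm_num : Nat.Coprime 4 3) h4 h3'
      norm_num at hidx
      omega
    · have hb := index_bound_SU hF le_rfl (by norm_num)
        (Cfsg.Agent.S2149.result (by rw [hF]; norm_num)).1 I hI
      rw [hrel] at hb
      norm_num at hidx
      omega
  · push Not at h25
    have hb := index_bound_SU hF le_rfl (by omega)
      (Cfsg.Agent.S2148.result q hF (by omega) h25.2).1 I hI
    have hr : 0 < I.relIndex (I ⊔ Subgroup.center (Cfsg.SU 3 F q)) :=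
      Nat.pos_of_ne_zero Subgroup.index_ne_zero_of_finite
    have hge : q ^ 3 + 1 ≤ I.index := le_trans (Nat.le_mul_of_pos_right _ hr) hb
    obtain ⟨j, hj⟩ := hdvdq
    have hjl : q ^ 2 < j := by
      by_contra h
      rw [not_lt] at h
      have := Nat.mul_le_mul_left q h
      rw [← hj, show q * q ^ 2 = q ^ 3 by ring] at this
      omega
    have : q * (q ^ 2 + 1) ≤ q * j := Nat.mul_le_mul_left q hjl
    rw [← hj, show q * (q ^ 2 + 1) = q ^ 3 + q by ring] at this
    exact index_ne hF I (by omega)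

end Cfsg.Agent.Classical.Unitary.MinIndex
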